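import Cfsg.Agent.H123.Cls.Eng
import Mathlib.Data.Set.Card.Arithmetic

/-!
# Class enumeration certificates: covering (helper123)

`A ≤ Aut n row`, `N` normalised by `A`. A list of permutations of `N`, given by tables, with different invariants and
certified bounds `c` of their centralizers in `A`, such that the sum of the `|A| / c` is at least `|N|`: every element of
`N` is conjugate by an element of `A` to one of them.
-/

set_option autoImplicit false

namespace Cfsg.Agent.H123.Cls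

open Equiv Cfsg.Agent.Lib.BitNet
open Cfsg.Agent.Lib.BitNetSimple (force force_eq tb tb_eq)

/-! ### masks given by powers of `r` -/

/-- the points joined to their image under `r ^ j` -/
noncomputable def adjM (n K : ℕ) (row : ℕ → ℕ) (w P j : ℕ) : ℕ :=
  bld (fun p => band (Nat.blt p n) (force (it w P j p) fun q => tb (row p) q)) K 0

/-- the points fixed by `r ^ j` -/
noncomputable def fixM (n K : ℕ) (w P j : ℕ) : ℕ :=
  bld (fun p => band (Nat.blt p n) (Nat.beq (it w P j p) p)) K 0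

/-- one of the two -/
noncomputable def pwM (n K : ℕ) (row : ℕ → ℕ) (w P : ℕ) (a : Bool × ℕ) : ℕ :=
  cnd a.1 (adjM n K row w P a.2) (fixM n K w P a.2)

/-- push the masks -/
noncomputable def start (n K : ℕ) (row : ℕ → ℕ) (w P : ℕ) (l : List (Bool × ℕ)) : List ℕ → (List ℕ → ℕ) → ℕ :=
  List.rec (fun st κ => κ st) (fun a _ ih st κ => force (pwM n K row w P a) fun m => ih (m :: st) κ) l

/-- the bound -/
noncomputable def bound (n K : ℕ) (row : ℕ → ℕ) (w P : ℕ) (l : List (Bool × ℕ)) (L : List Ins) : ℕ :=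
  start n K row w P l [] fun st => run n K row w P L st

/-- the bound is `c + 1` -/
noncomputable def chkB (n K : ℕ) (row : ℕ → ℕ) (w P : ℕ) (l : List (Bool × ℕ)) (L : List Ins) (c : ℕ) : Bool :=
  Nat.beq (bound n K row w P l L) (Nat.succ c)

/-- the invariants -/
noncomputable def chkSig (n K : ℕ) (row : ℕ → ℕ) (w P : ℕ) (l : List (Bool × ℕ)) : List ℕ → Bool :=
  List.rec (fun _ => true) (fun a _ ih cs => band (Nat.beq (popF K (pwM n K row w P a)) (nth cs 0)) (ih cs.tail)) l

/-- the relation or the equality -/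
def Pw {n : ℕ} (row : ℕ → ℕ) (b : Bool) (u v : Fin n) : Prop := cond b ((row u).testBit v = true) (v = u)

/-- the invariant of a permutation -/
noncomputable def pwc {n : ℕ} (row : ℕ → ℕ) (r : Perm (Fin n)) (a : Bool × ℕ) : ℕ :=
  Nat.card {p : Fin n // Pw row a.1 p ((r ^ a.2) p)}

section

variable {n K : ℕ} {row : ℕ → ℕ} {w P : ℕ}

theorem testBit_pwM (hn : n ≤ 2 ^ K) {r : Perm (Fin n)} (hr : ∀ i, (r i : ℕ) = lk w P i) (a : Bool × ℕ) (p : Fin n) :
    (pwM n K row w P a).testBit p = true ↔ Pw row a.1 p ((r ^ a.2) p) := by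
  obtain ⟨b, j⟩ := a
  have hp : decide ((p : ℕ) < 2 ^ K) = true := decide_eq_true (lt_of_lt_of_le p.2 hn)
  have hp2 : Nat.blt (0 + (p : ℕ)) n = true := by rw [zero_add, Nat.blt_eq]; exact p.2
  cases b
  · show (bld (fun p => band (Nat.blt p n) (Nat.beq (it w P j p) p)) K 0).testBit p = true ↔ (r ^ j) p = p
    rw [testBit_bld, hp, Bool.true_and, band_eq, hp2, zero_add, it_eq hr, Nat.beq_eq]
    exact ⟨fun h => Fin.ext h.2, fun h => ⟨rfl, congrArg Fin.val h⟩⟩
  · show (bld (fun p => band (Nat.blt p n) (force (it w P j p) fun q => tb (row p) q)) K 0).testBit p = true ↔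
      (row p).testBit ((r ^ j) p : Fin n) = true
    rw [testBit_bld, hp, Bool.true_and, band_eq, hp2, zero_add, it_eq hr, force_eq, tb_eq]
    exact ⟨fun h => h.2, fun h => ⟨rfl, h⟩⟩

theorem Pw_conj {σ : Perm (Fin n)} (hσ : σ ∈ Aut n row) (b : Bool) (u v : Fin n) :
    Pw row b (σ u) (σ v) ↔ Pw row b u v := by
  cases b
  · show σ v = σ u ↔ v = u
    exact σ.injective.eq_iff
  · show (row (σ u)).testBit (σ v) = true ↔ (row u).testBit v = true
    rw [hσ u v]

theorem inv_pwM (hn : n ≤ 2 ^ K) {r : Perm (Fin n)} (hr : ∀ i, (r i : ℕ) = lk w P i) {σ : Perm (Fin n)}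
    (hσ : σ ∈ Aut n row) (hc : ∀ i, σ (r i) = r (σ i)) (a : Bool × ℕ) : Inv σ (pwM n K row w P a) := by
  intro p
  have h : ∀ (j : ℕ) (p : Fin n), σ ((r ^ j) p) = (r ^ j) (σ p) := by
    intro j
    induction j with
    | zero => intro p; rfl
    | succ j ih => intro p; rw [pow_succ, Perm.mul_apply, Perm.mul_apply, ih, hc]
  rw [Bool.eq_iff_iff, testBit_pwM hn hr, testBit_pwM hn hr, ← h, Pw_conj hσ]

theorem start_spec (hn : n ≤ 2 ^ K) {r : Perm (Fin n)} (hr : ∀ i, (r i : ℕ) = lk w P i) : ∀ (l : List (Bool × ℕ))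
    (st : List ℕ), ∃ st' : List ℕ, (∀ κ : List ℕ → ℕ, start n K row w P l st κ = κ st') ∧
      ∀ σ ∈ Aut n row, (∀ i, σ (r i) = r (σ i)) → (∀ x ∈ st, Inv σ x) → ∀ x ∈ st', Inv σ x
  | [], st => ⟨st, fun _ => rfl, fun _ _ _ h => h⟩
  | a :: l, st => by
    obtain ⟨st', h1, h2⟩ := start_spec hn hr l (pwM n K row w P a :: st)
    refine ⟨st', fun κ => ?_, fun σ hσ hc h => h2 σ hσ hc fun x hx => ?_⟩
    · have e : start n K row w P (a :: l) st κ = force (pwM n K row w P a) fun m =>
        start n K row w P l (m :: st) κ := rfl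
      rw [e, force_eq, h1]
    · rcases List.mem_cons.1 hx with rfl | hx
      · exact inv_pwM hn hr hσ hc a
      · exact h x hx

/-- **the bound of the centralizer** -/
theorem card_le_bound (hn : n ≤ 2 ^ K) {r : Perm (Fin n)} (hr : ∀ i, (r i : ℕ) = lk w P i) {l : List (Bool × ℕ)}
    {L : List Ins} {c : ℕ} (h : Nat.beq (bound n K row w P l L) (Nat.succ c) = true)
    {H : Subgroup (Perm (Fin n))} (hH : H ≤ Aut n row) (hc : Comm r H) : Nat.card H ≤ c + 1 := by
  have h1 : bound n K row w P l L = c + 1 := Nat.eq_of_beq_eq_true h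
  obtain ⟨st', h2, h3⟩ := start_spec (row := row) hn hr l []
  have h4 : bound n K row w P l L = run n K row w P L st' := h2 _
  rw [h4] at h1
  rw [← h1]
  refine run_sound hn hr L st' (by rw [h1]; exact Nat.succ_ne_zero c) H hH hc fun σ hσ => ?_
  exact h3 σ (hH hσ) (hc σ hσ) (fun x hx => absurd hx (List.not_mem_nil))

theorem pwM_lt (a : Bool × ℕ) (i : ℕ) (h : (pwM n K row w P a).testBit i = true) : i < n := by
  obtain ⟨b, j⟩ := a
  cases b
  · change (bld (fun p => band (Nat.blt p n) (Nat.beq (it w P j p) p)) K 0).testBit i = true at h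
    rw [testBit_bld, Bool.and_eq_true, band_eq, zero_add, Nat.blt_eq] at h
    exact h.2.1
  · change (bld (fun p => band (Nat.blt p n) (force (it w P j p) fun q => tb (row p) q)) K 0).testBit i = true at h
    rw [testBit_bld, Bool.and_eq_true, band_eq, zero_add, Nat.blt_eq] at h
    exact h.2.1

theorem popF_pwM (hn : n ≤ 2 ^ K) {r : Perm (Fin n)} (hr : ∀ i, (r i : ℕ) = lk w P i) (a : Bool × ℕ) :
    popF K (pwM n K row w P a) = pwc row r a := by
  rw [popF_eq]
  have h1 := card_pts_le (n := n) hn (pwM n K row w P a)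
  have h2 := card_pts_eq (n := n) (K := K) (x := pwM n K row w P a) (fun i hi => pwM_lt a i hi)
  rw [le_antisymm h2 h1, pwc, ← Fintype.card_coe, ← Nat.card_eq_fintype_card]
  exact Nat.card_congr (Equiv.subtypeEquivRight fun i => by rw [mem_pts, testBit_pwM hn hr])

theorem sig_of_chk (hn : n ≤ 2 ^ K) {r : Perm (Fin n)} (hr : ∀ i, (r i : ℕ) = lk w P i) :
    ∀ {l : List (Bool × ℕ)} {cs : List ℕ}, chkSig n K row w P l cs = true → cs.length = l.length →
      l.map (pwc row r) = cs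
  | [], cs, _, hl => by
    rw [List.map_nil]
    exact (List.length_eq_zero_iff.1 hl).symm
  | a :: l, [], _, hl => by simp at hl
  | a :: l, c :: cs, h, hl => by
    have e : chkSig n K row w P (a :: l) (c :: cs) =
      band (Nat.beq (popF K (pwM n K row w P a)) c) (chkSig n K row w P l cs) := rfl
    rw [e] at h
    obtain ⟨h1, h2⟩ := band_true h
    have h3 := Nat.eq_of_beq_eq_true h1
    rw [popF_pwM hn hr] at h3
    rw [List.map_cons, h3, sig_of_chk hn hr h2 (by simpa using hl)]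

theorem pwc_conj {σ r : Perm (Fin n)} (hσ : σ ∈ Aut n row) (a : Bool × ℕ) :
    pwc row (σ * r * σ⁻¹) a = pwc row r a := by
  unfold pwc
  have h : ∀ p : Fin n, Pw row a.1 (σ p) (((σ * r * σ⁻¹) ^ a.2) (σ p)) ↔ Pw row a.1 p ((r ^ a.2) p) := by
    intro p
    have e : ((σ * r * σ⁻¹) ^ a.2) (σ p) = σ ((r ^ a.2) p) := by
      rw [conj_pow, Perm.mul_apply, Perm.mul_apply]
      exact congrArg (fun q => σ ((r ^ a.2) q)) (Equiv.symm_apply_apply σ p)
    rw [e, Pw_conj hσ]
  exact (Nat.card_congr (Equiv.subtypeEquiv σ fun p => (h p).symm)).symm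

end

/-! ### words -/

/-- value of a word at a point, the last letter acts first -/
noncomputable def evw (w : ℕ) (tabs : List ℕ) (l : List ℕ) : ℕ → ℕ :=
  List.rec (fun p => p) (fun x _ ih p => force (ih p) fun q => lk w (nth tabs x) q) l

theorem evw_cons (w : ℕ) (tabs : List ℕ) (x : ℕ) (l : List ℕ) (p : ℕ) :
    evw w tabs (x :: l) p = lk w (nth tabs x) (evw w tabs l p) := by
  show force (evw w tabs l p) (fun q => lk w (nth tabs x) q) = _
  rw [force_eq]

/-- `t p` for all `p < n` -/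
noncomputable def allN (t : ℕ → Bool) (n : ℕ) : Bool := Nat.rec true (fun k ih => band (t k) ih) n

theorem allN_iff (t : ℕ → Bool) (n : ℕ) : allN t n = true ↔ ∀ i < n, t i = true := by
  induction n with
  | zero => simp [allN]
  | succ n ih =>
    have e : allN t (n + 1) = band (t n) (allN t n) := rfl
    rw [e, band_eq, ih]
    constructor
    · rintro ⟨h1, h2⟩ i hi
      rcases Nat.lt_succ_iff_lt_or_eq.1 hi with h | h
      · exact h2 i h
      · rw [h]; exact h1
    · intro h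
      exact ⟨h n (Nat.lt_succ_self n), fun i hi => h i (Nat.lt_succ_of_lt hi)⟩

section

variable {n w : ℕ} {N : Subgroup (Perm (Fin n))}

/-- the tables of the letters are in the group -/
def Tabs (w : ℕ) (N : Subgroup (Perm (Fin n))) (tabs : List ℕ) : Prop :=
  ∀ x < tabs.length, ∃ g ∈ N, ∀ p : Fin n, (g p : ℕ) = lk w (nth tabs x) p

theorem exists_evw {tabs : List ℕ} (h : Tabs w N tabs) : ∀ l : List ℕ, (∀ x ∈ l, x < tabs.length) →
    ∃ g ∈ N, ∀ p : Fin n, (g p : ℕ) = evw w tabs l p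
  | [], _ => ⟨1, N.one_mem, fun _ => rfl⟩
  | x :: l, hl => by
    obtain ⟨g, hg, hgp⟩ := exists_evw h l fun y hy => hl y (List.mem_cons_of_mem _ hy)
    obtain ⟨k, hk, hkp⟩ := h x (hl x List.mem_cons_self)
    refine ⟨k * g, N.mul_mem hk hg, fun p => ?_⟩
    rw [Perm.mul_apply, hkp, hgp, evw_cons]

/-- the letters are in the range -/
noncomputable def chkL (m : ℕ) (l : List ℕ) : Bool := List.rec true (fun x _ ih => band (Nat.blt x m) ih) l

theorem chkL_iff (m : ℕ) : ∀ l : List ℕ, chkL m l = true → ∀ x ∈ l, x < m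
  | [], _, x, hx => absurd hx (List.not_mem_nil)
  | y :: l, h, x, hx => by
    have e : chkL m (y :: l) = band (Nat.blt y m) (chkL m l) := rfl
    rw [e] at h
    obtain ⟨h1, h2⟩ := band_true h
    rcases List.mem_cons.1 hx with rfl | hx
    · rw [Nat.blt_eq] at h1
      exact h1
    · exact chkL_iff m l h2 x hx

/-- the table `P` is the word -/
noncomputable def chkW (n w : ℕ) (tabs : List ℕ) (P : ℕ) (l : List ℕ) : Bool :=
  band (chkL tabs.length l) (allN (fun p => Nat.beq (lk w P p) (evw w tabs l p)) n)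

theorem exists_of_chkW {tabs : List ℕ} (ht : Tabs w N tabs) {P : ℕ} {l : List ℕ} (h : chkW n w tabs P l = true) :
    ∃ g ∈ N, ∀ p : Fin n, (g p : ℕ) = lk w P p := by
  obtain ⟨h1, h2⟩ := band_true h
  obtain ⟨g, hg, hgp⟩ := exists_evw ht l (chkL_iff _ l h1)
  refine ⟨g, hg, fun p => ?_⟩
  rw [hgp]
  exact (Nat.eq_of_beq_eq_true ((allN_iff _ _).1 h2 p p.2)).symm

/-- the table `P` is the commutator `a b a⁻¹ b⁻¹` of the words -/
noncomputable def chkC (n w : ℕ) (tabs : List ℕ) (P : ℕ) (a b : List ℕ) : Bool :=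
  band (chkL tabs.length a) (band (chkL tabs.length b)
    (allN (fun p => force (evw w tabs a p) fun x => force (evw w tabs b x) fun y => force (evw w tabs b p) fun z =>
      Nat.beq (lk w P y) (evw w tabs a z)) n))

theorem exists_of_chkC {tabs : List ℕ} (ht : Tabs w N tabs) {P : ℕ} {a b : List ℕ}
    (h : chkC n w tabs P a b = true) : ∃ x ∈ N, ∃ y ∈ N, ∀ p : Fin n, ((x * y * x⁻¹ * y⁻¹) p : ℕ) = lk w P p := by
  obtain ⟨h1, h2⟩ := band_true h
  obtain ⟨h3, h4⟩ := band_true h2
  obtain ⟨x, hx, hxp⟩ := exists_evw ht a (chkL_iff _ a h1)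
  obtain ⟨y, hy, hyp⟩ := exists_evw ht b (chkL_iff _ b h3)
  refine ⟨x, hx, y, hy, fun p => ?_⟩
  -- `p = y (x q)`
  obtain ⟨q, rfl⟩ : ∃ q, p = y (x q) := ⟨x⁻¹ (y⁻¹ p), by
    show p = y (x (x⁻¹ (y⁻¹ p)))
    rw [show x (x⁻¹ (y⁻¹ p)) = y⁻¹ p from Equiv.apply_symm_apply x _]
    exact (Equiv.apply_symm_apply y _).symm⟩
  have h5 := (allN_iff _ _).1 h4 q q.2
  rw [force_eq, force_eq, force_eq] at h5
  have h6 := Nat.eq_of_beq_eq_true h5
  rw [← hxp, ← hyp, ← hyp, ← hxp] at h6
  rw [h6]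
  have e : (x * y * x⁻¹ * y⁻¹) (y (x q)) = x (y q) := by
    show x (y (x⁻¹ (y⁻¹ (y (x q))))) = x (y q)
    rw [show y⁻¹ (y (x q)) = x q from Equiv.symm_apply_apply y _]
    rw [show x⁻¹ (x q) = q from Equiv.symm_apply_apply x _]
  rw [e]

end

/-! ### covering -/

section

variable {n : ℕ}

/-- The classes cover the group. -/
theorem cover {A N : Subgroup (Perm (Fin n))} (hnA : ∀ a ∈ A, ∀ x ∈ N, a * x * a⁻¹ ∈ N) {ι : Type} [Fintype ι]
    (r : ι → Perm (Fin n)) (hr : ∀ i, r i ∈ N) (c : ι → ℕ)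
    (hc : ∀ i, Nat.card ↥(A ⊓ Subgroup.centralizer {r i}) ≤ c i)
    (hne : ∀ i j, i ≠ j → ∀ a ∈ A, a * r i * a⁻¹ ≠ r j) (hsum : Nat.card N ≤ ∑ i, Nat.card A / c i) :
    ∀ g ∈ N, ∃ i, ∃ a ∈ A, g = a * r i * a⁻¹ := by
  classical
  -- the classes
  let cl : ι → Set (Perm (Fin n)) := fun i => {x | ∃ a ∈ A, x = a * r i * a⁻¹}
  have hcl : ∀ i, Nat.card A / c i ≤ (cl i).ncard := by
    intro i
    -- orbit-stabilizer
    have h1 : Nat.card A = Nat.card ↥(A ⊓ Subgroup.centralizer {r i}) * (cl i).ncard := by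
      let C : Subgroup A := (A ⊓ Subgroup.centralizer {r i}).subgroupOf A
      have e1 : Nat.card C = Nat.card ↥(A ⊓ Subgroup.centralizer {r i}) :=
        Nat.card_congr (Subgroup.subgroupOfEquivOfLe inf_le_left).toEquiv
      have e2 : Nat.card (A ⧸ C) = (cl i).ncard := by
        rw [← Nat.card_coe_set_eq]
        refine Nat.card_congr (Equiv.ofBijective (fun q : A ⧸ C => Quotient.liftOn' q
          (fun a => (⟨(a : Perm (Fin n)) * r i * (a : Perm (Fin n))⁻¹, a, a.2, rfl⟩ : cl i)) ?_) ⟨?_, ?_⟩)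
        · intro a b hab
          rw [QuotientGroup.leftRel_apply] at hab
          have h2 := (Subgroup.mem_inf.1 (Subgroup.mem_subgroupOf.1 hab)).2
          rw [Subgroup.mem_centralizer_singleton_iff] at h2
          apply Subtype.ext
          change ((a : Perm (Fin n))⁻¹ * b) * r i = r i * ((a : Perm (Fin n))⁻¹ * b) at h2
          change (a : Perm (Fin n)) * r i * (a : Perm (Fin n))⁻¹ = b * r i * (b : Perm (Fin n))⁻¹
          calc (a : Perm (Fin n)) * r i * (a : Perm (Fin n))⁻¹ =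
              a * (r i * ((a : Perm (Fin n))⁻¹ * b)) * (b : Perm (Fin n))⁻¹ := by group
            _ = a * ((a : Perm (Fin n))⁻¹ * b * r i) * (b : Perm (Fin n))⁻¹ := by rw [h2]
            _ = b * r i * (b : Perm (Fin n))⁻¹ := by group
        · intro q q' h
          induction q using Quotient.inductionOn' with
          | h a =>
            induction q' using Quotient.inductionOn' with
            | h b =>
              have h2 : (a : Perm (Fin n)) * r i * (a : Perm (Fin n))⁻¹ = b * r i * (b : Perm (Fin n))⁻¹ :=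
                congrArg Subtype.val h
              refine Quotient.sound' ?_
              rw [QuotientGroup.leftRel_apply]
              refine Subgroup.mem_subgroupOf.2 (Subgroup.mem_inf.2 ⟨(a⁻¹ * b).2, ?_⟩)
              rw [Subgroup.mem_centralizer_singleton_iff]
              change ((a : Perm (Fin n))⁻¹ * b) * r i = r i * ((a : Perm (Fin n))⁻¹ * b)
              calc ((a : Perm (Fin n))⁻¹ * b) * r i =
                  (a : Perm (Fin n))⁻¹ * (b * r i * (b : Perm (Fin n))⁻¹) * b := by group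
                _ = (a : Perm (Fin n))⁻¹ * (a * r i * (a : Perm (Fin n))⁻¹) * b := by rw [h2]
                _ = r i * ((a : Perm (Fin n))⁻¹ * b) := by group
        · rintro ⟨x, a, ha, rfl⟩
          exact ⟨Quotient.mk'' ⟨a, ha⟩, rfl⟩
      rw [← e1, ← e2, mul_comm]
      exact Subgroup.card_eq_card_quotient_mul_card_subgroup C
    have h0 : 0 < Nat.card ↥(A ⊓ Subgroup.centralizer {r i}) := Nat.card_pos
    calc Nat.card A / c i ≤ Nat.card A / Nat.card ↥(A ⊓ Subgroup.centralizer {r i}) := Nat.div_le_div_left (hc i) h0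
      _ = (cl i).ncard := by
        rw [h1, Nat.mul_div_cancel_left _ h0]
  have hdis : Set.PairwiseDisjoint (Set.univ : Set ι) cl := by
    intro i _ j _ hij
    rw [Function.onFun, Set.disjoint_left]
    rintro x ⟨a, ha, rfl⟩ ⟨b, hb, h⟩
    refine hne i j hij (b⁻¹ * a) (A.mul_mem (A.inv_mem hb) ha) ?_
    calc b⁻¹ * a * r i * (b⁻¹ * a)⁻¹ = b⁻¹ * (a * r i * a⁻¹) * b := by group
      _ = r j := by rw [h]; group
  have hun : (⋃ i, cl i) ⊆ (N : Set (Perm (Fin n))) := by
    intro x hx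
    obtain ⟨i, a, ha, rfl⟩ := Set.mem_iUnion.1 hx
    exact hnA a ha _ (hr i)
  have hcard : (⋃ i, cl i).ncard = ∑ i, (cl i).ncard := by
    have h := Set.ncard_iUnion_of_finite (s := cl) (fun i => Set.toFinite _)
      (fun i j hij => hdis (Set.mem_univ i) (Set.mem_univ j) hij)
    rw [h, finsum_eq_sum_of_fintype]
  have heq : (⋃ i, cl i) = (N : Set (Perm (Fin n))) := by
    refine Set.eq_of_subset_of_ncard_le hun ?_ (Set.toFinite _)
    have h1 : (N : Set (Perm (Fin n))).ncard = Nat.card N := rfl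
    rw [h1, hcard]
    exact hsum.trans (Finset.sum_le_sum fun i _ => hcl i)
  intro g hg
  have h1 : g ∈ (⋃ i, cl i) := by rw [heq]; exact hg
  obtain ⟨i, a, ha, h⟩ := Set.mem_iUnion.1 h1
  exact ⟨i, a, ha, h⟩

/-- sum of the quotients -/
noncomputable def sumD (a : ℕ) (l : List ℕ) : ℕ := List.rec 0 (fun c _ ih => Nat.add (Nat.div a c) ih) l

theorem sumD_eq (a : ℕ) : ∀ l : List ℕ, sumD a l = (l.map fun c => a / c).sum
  | [] => rfl
  | c :: l => by
    rw [List.map_cons, List.sum_cons, ← sumD_eq a l]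
    rfl

/-- **The classes cover the group**: `D i = (table, bound)`; `key` invariants `s i`. -/
theorem cover_list {K w m : ℕ} {row : ℕ → ℕ} {A N : Subgroup (Perm (Fin n))} (hn : n ≤ 2 ^ K) (hA : A ≤ Aut n row)
    (hnA : ∀ a ∈ A, ∀ x ∈ N, a * x * a⁻¹ ∈ N) {a : ℕ} (haA : a ≤ Nat.card A) (tab : Fin m → ℕ) (c : Fin m → ℕ)
    (hr : ∀ i, ∃ g ∈ N, ∀ p : Fin n, (g p : ℕ) = lk w (tab i) p)
    (hc : ∀ i, ∃ l L, Nat.beq (bound n K row w (tab i) l L) (Nat.succ (c i)) = true)
    (key : List (Bool × ℕ)) (s : Fin m → List ℕ) (hs : ∀ i, chkSig n K row w (tab i) key (s i) = true)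
    (hl : ∀ i, (s i).length = key.length) (hinj : Function.Injective s)
    (hsum : Nat.card N ≤ ∑ i, a / (c i + 1)) :
    ∀ g ∈ N, ∃ i, ∃ r ∈ N, (∀ p : Fin n, (r p : ℕ) = lk w (tab i) p) ∧ ∃ a ∈ A, g = a * r * a⁻¹ := by
  choose r hrN hrp using hr
  have h := cover hnA r hrN (fun i => c i + 1) ?_ ?_ ?_
  · intro g hg
    obtain ⟨i, a, ha, h1⟩ := h g hg
    exact ⟨i, r i, hrN i, hrp i, a, ha, h1⟩
  · intro i
    obtain ⟨l, L, h1⟩ := hc i
    refine card_le_bound hn (hrp i) h1 (inf_le_left.trans hA) fun σ hσ p => ?_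
    have h2 := Subgroup.mem_centralizer_singleton_iff.1 (Subgroup.mem_inf.1 hσ).2
    exact congrArg (fun τ : Perm (Fin n) => τ p) h2
  · intro i j hij a ha h1
    apply hij
    apply hinj
    rw [← sig_of_chk hn (hrp i) (hs i) (hl i), ← sig_of_chk hn (hrp j) (hs j) (hl j)]
    refine List.map_congr_left fun k _ => ?_
    rw [← h1, pwc_conj (hA ha)]
  · exact hsum.trans (Finset.sum_le_sum fun i _ => Nat.div_le_div_right haA)

end

end Cfsg.Agent.H123.Cls
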