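import Cfsg.Agent.Lib.BitNetSimple

/-!
# Class enumeration certificates: the engine (helper123)

`Aut n row` : the automorphism group of a relation on `Fin n` given by rows (bit masks). `r` is a permutation given by a
table `P` with `w` bits per entry. `run` checks a refinement certificate; its result is an upper bound of the order of
every group of automorphisms commuting with `r`.

Everything is evaluated strictly (`force`), for `decide +kernel`.
-/

set_option autoImplicit false

namespace Cfsg.Agent.H123.Cls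

open Equiv Cfsg.Agent.Lib.BitNet
open Cfsg.Agent.Lib.BitNetSimple (force force_eq tb tb_eq)

/-! ### strict versions -/

/-- if then else -/
noncomputable def cnd {α : Type} (c : Bool) (a b : α) : α := Bool.rec b a c

theorem cnd_true {α : Type} (a b : α) : cnd true a b = a := rfl
theorem cnd_false {α : Type} (a b : α) : cnd false a b = b := rfl

/-- conjunction -/
noncomputable def band (a b : Bool) : Bool := Bool.rec false b a

theorem band_eq {a b : Bool} : band a b = true ↔ a = true ∧ b = true := by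
  cases a <;> cases b <;> simp [band]

/-- entry `i` of the table `P`, `w` bits per entry -/
def lk (w P i : ℕ) : ℕ := Nat.land (Nat.shiftRight P (Nat.mul w i)) (Nat.sub (Nat.pow 2 w) 1)

/-- `j` times the table -/
noncomputable def it (w P j : ℕ) : ℕ → ℕ :=
  Nat.rec (fun p => p) (fun _ ih p => force (lk w P p) ih) j

theorem it_zero (w P p : ℕ) : it w P 0 p = p := rfl

theorem it_succ (w P j p : ℕ) : it w P (j + 1) p = it w P j (lk w P p) := by
  show force (lk w P p) (it w P j) = _
  rw [force_eq]

/-- bit `i < 2 ^ k` is `t (b + i)` -/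
noncomputable def bld (t : ℕ → Bool) (k : ℕ) : ℕ → ℕ :=
  Nat.rec (fun b => Bool.rec 0 1 (t b))
    (fun k ih b => force (ih b) fun x => force (Nat.add b (Nat.pow 2 k)) fun b' => force (ih b') fun y =>
      Nat.lor x (Nat.shiftLeft y (Nat.pow 2 k))) k

theorem bld_succ (t : ℕ → Bool) (k b : ℕ) :
    bld t (k + 1) b = bld t k b ||| (bld t k (b + 2 ^ k)) <<< (2 ^ k) := by
  show force (bld t k b) (fun x => force (Nat.add b (Nat.pow 2 k)) fun b' => force (bld t k b') fun y =>
    Nat.lor x (Nat.shiftLeft y (Nat.pow 2 k))) = _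
  rw [force_eq, force_eq, force_eq]
  rfl

theorem testBit_bld (t : ℕ → Bool) : ∀ (k b i : ℕ), (bld t k b).testBit i = (decide (i < 2 ^ k) && t (b + i))
  | 0, b, i => by
    have e : bld t 0 b = Bool.rec 0 1 (t b) := rfl
    rw [e, pow_zero]
    cases i with
    | zero => cases t b <;> simp
    | succ i =>
      have h : decide (i + 1 < 1) = false := by simp
      rw [h, Bool.false_and]
      cases t b
      · exact Nat.zero_testBit _
      · rw [show (Bool.rec 0 1 true : ℕ) = 1 from rfl, Nat.testBit_succ]; simp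
  | k + 1, b, i => by
    rw [bld_succ, Nat.testBit_or, Nat.testBit_shiftLeft, testBit_bld t k, testBit_bld t k]
    have hp : 2 ^ (k + 1) = 2 ^ k + 2 ^ k := by ring
    by_cases h : i < 2 ^ k
    · have h1 : ¬ (i ≥ 2 ^ k) := by omega
      have h2 : i < 2 ^ (k + 1) := by omega
      simp [h, h1, h2]
    · have h1 : i ≥ 2 ^ k := by omega
      have h3 : b + 2 ^ k + (i - 2 ^ k) = b + i := by omega
      rw [h3]
      by_cases h2 : i < 2 ^ (k + 1)
      · have h4 : i - 2 ^ k < 2 ^ k := by omega
        simp [h, h1, h2, h4]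
      · have h4 : ¬ (i - 2 ^ k < 2 ^ k) := by omega
        simp [h, h1, h2, h4]

/-- the points `f (b + i)`, `i` a bit of `x` -/
noncomputable def imM (f : ℕ → ℕ) (k : ℕ) : ℕ → ℕ → ℕ → ℕ :=
  Nat.rec (fun b x acc => cnd (Nat.beq (Nat.land x 1) 0) acc
      (force (f b) fun y => Nat.lor acc (Nat.shiftLeft 1 y)))
    (fun k ih b x acc => cnd (Nat.beq x 0) acc
      (force (Nat.mod x (Nat.pow 2 (Nat.pow 2 k))) fun lo => force (Nat.shiftRight x (Nat.pow 2 k)) fun hi =>
        force (Nat.add b (Nat.pow 2 k)) fun b' => force (ih b lo acc) fun acc' => ih b' hi acc')) k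

theorem beq_zero_or (x : ℕ) : (Nat.beq x 0 = true ∧ x = 0) ∨ (Nat.beq x 0 = false ∧ x ≠ 0) := by
  cases x with
  | zero => exact Or.inl ⟨rfl, rfl⟩
  | succ x => exact Or.inr ⟨rfl, Nat.succ_ne_zero x⟩

theorem testBit_one_shift (y j : ℕ) : (Nat.shiftLeft 1 y).testBit j = decide (y = j) := by
  show (1 <<< y).testBit j = _
  rw [Nat.one_shiftLeft, Nat.testBit_two_pow]

theorem testBit_imM (f : ℕ → ℕ) : ∀ (k b x acc j : ℕ), (imM f k b x acc).testBit j = true ↔
    (acc.testBit j = true ∨ ∃ i < 2 ^ k, x.testBit i = true ∧ f (b + i) = j)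
  | 0, b, x, acc, j => by
    have e : imM f 0 b x acc = cnd (Nat.beq (Nat.land x 1) 0) acc
      (force (f b) fun y => Nat.lor acc (Nat.shiftLeft 1 y)) := rfl
    rw [e]
    have h1 : Nat.land x 1 = x % 2 := Nat.and_one_is_mod x
    rw [h1, pow_zero]
    have hx : x.testBit 0 = decide (x % 2 = 1) := Nat.testBit_zero x
    rcases Nat.mod_two_eq_zero_or_one x with h | h
    · rw [h]
      constructor
      · intro h2; exact Or.inl h2
      · rintro (h2 | ⟨i, hi, h3, -⟩)
        · exact h2
        · have : i = 0 := by omega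
          subst this
          rw [hx, h] at h3
          exact absurd h3 (by simp)
    · rw [h]
      show (force (f b) fun y => Nat.lor acc (Nat.shiftLeft 1 y)).testBit j = true ↔ _
      rw [force_eq]
      show (acc ||| Nat.shiftLeft 1 (f b)).testBit j = true ↔ _
      rw [Nat.testBit_or, testBit_one_shift, Bool.or_eq_true, decide_eq_true_iff]
      constructor
      · rintro (h2 | h2)
        · exact Or.inl h2
        · exact Or.inr ⟨0, by norm_num, by rw [hx, h]; rfl, h2⟩
      · rintro (h2 | ⟨i, hi, -, h3⟩)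
        · exact Or.inl h2
        · have : i = 0 := by omega
          subst this
          exact Or.inr h3
  | k + 1, b, x, acc, j => by
    have e : imM f (k + 1) b x acc = cnd (Nat.beq x 0) acc
      (force (Nat.mod x (Nat.pow 2 (Nat.pow 2 k))) fun lo => force (Nat.shiftRight x (Nat.pow 2 k)) fun hi =>
        force (Nat.add b (Nat.pow 2 k)) fun b' => force (imM f k b lo acc) fun acc' => imM f k b' hi acc') := rfl
    rw [e]
    rcases beq_zero_or x with ⟨h, rfl⟩ | ⟨h, hx⟩
    · rw [h]
      constructor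
      · intro h2; exact Or.inl h2
      · rintro (h2 | ⟨i, hi, h3, -⟩)
        · exact h2
        · rw [Nat.zero_testBit] at h3
          exact absurd h3 (by simp)
    · rw [h]
      show (force (Nat.mod x (Nat.pow 2 (Nat.pow 2 k))) fun lo => force (Nat.shiftRight x (Nat.pow 2 k)) fun hi =>
        force (Nat.add b (Nat.pow 2 k)) fun b' => force (imM f k b lo acc) fun acc' =>
          imM f k b' hi acc').testBit j = true ↔ _
      rw [force_eq, force_eq, force_eq, force_eq]
      show (imM f k (b + 2 ^ k) (x >>> (2 ^ k)) (imM f k b (x % 2 ^ (2 ^ k)) acc)).testBit j = true ↔ _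
      rw [testBit_imM f k, testBit_imM f k, or_assoc]
      have hp : 2 ^ (k + 1) = 2 ^ k + 2 ^ k := by ring
      constructor
      · rintro (h2 | ⟨i, hi, h3, h4⟩ | ⟨i, hi, h3, h4⟩)
        · exact Or.inl h2
        · refine Or.inr ⟨i, by omega, ?_, h4⟩
          rw [Nat.testBit_mod_two_pow] at h3
          rw [Bool.and_eq_true] at h3
          exact h3.2
        · refine Or.inr ⟨2 ^ k + i, by omega, ?_, by rw [← h4]; congr 1; omega⟩
          rw [Nat.testBit_shiftRight] at h3
          exact h3
      · rintro (h2 | ⟨i, hi, h3, h4⟩)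
        · exact Or.inl h2
        · by_cases h5 : i < 2 ^ k
          · refine Or.inr (Or.inl ⟨i, h5, ?_, h4⟩)
            rw [Nat.testBit_mod_two_pow, h3]
            simp [h5]
          · refine Or.inr (Or.inr ⟨i - 2 ^ k, by omega, ?_, ?_⟩)
            · rw [Nat.testBit_shiftRight]
              have : 2 ^ k + (i - 2 ^ k) = i := by omega
              rw [this]; exact h3
            · rw [← h4]; congr 1; omega

/-- `addRow`, strict -/
noncomputable def addF {α : Type} (ps : List ℕ) : ℕ → (List ℕ → α) → α :=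
  List.rec (fun c κ => cnd (Nat.beq c 0) (κ []) (κ [c]))
    (fun p ps ih c κ => cnd (Nat.beq c 0) (κ (p :: ps))
      (force (Nat.xor p c) fun y => force (Nat.land p c) fun c' => ih c' fun l => κ (y :: l))) ps

theorem addF_eq {α : Type} : ∀ (ps : List ℕ) (c : ℕ) (κ : List ℕ → α), addF ps c κ = κ (addRow ps c)
  | [], c, κ => by
    show cnd (Nat.beq c 0) (κ []) (κ [c]) = _
    rw [addRow]
    cases Nat.beq c 0 <;> rfl
  | p :: ps, c, κ => by
    show cnd (Nat.beq c 0) (κ (p :: ps))
      (force (Nat.xor p c) fun y => force (Nat.land p c) fun c' => addF ps c' fun l => κ (y :: l)) = _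
    rw [addRow]
    cases Nat.beq c 0
    · show (force (Nat.xor p c) fun y => force (Nat.land p c) fun c' => addF ps c' fun l => κ (y :: l)) = _
      rw [force_eq, force_eq, addF_eq ps]
      rfl
    · rfl

/-- `sumRows`, strict -/
noncomputable def sumF {α : Type} (row : ℕ → ℕ) (k : ℕ) : ℕ → ℕ → List ℕ → (List ℕ → α) → α :=
  Nat.rec (fun b x ps κ => cnd (Nat.beq (Nat.land x 1) 0) (κ ps) (force (row b) fun r => addF ps r κ))
    (fun k ih b x ps κ => cnd (Nat.beq x 0) (κ ps)
      (force (Nat.mod x (Nat.pow 2 (Nat.pow 2 k))) fun lo => force (Nat.shiftRight x (Nat.pow 2 k)) fun hi =>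
        force (Nat.add b (Nat.pow 2 k)) fun b' => ih b lo ps fun ps' => ih b' hi ps' κ)) k

theorem sumF_eq {α : Type} (row : ℕ → ℕ) : ∀ (k b x : ℕ) (ps : List ℕ) (κ : List ℕ → α),
    sumF row k b x ps κ = κ (sumRows row k b x ps)
  | 0, b, x, ps, κ => by
    show cnd (Nat.beq (Nat.land x 1) 0) (κ ps) (force (row b) fun r => addF ps r κ) = _
    rw [sumRows]
    cases Nat.beq (Nat.land x 1) 0
    · show (force (row b) fun r => addF ps r κ) = _
      rw [force_eq, addF_eq]
      rfl
    · rfl
  | k + 1, b, x, ps, κ => by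
    show cnd (Nat.beq x 0) (κ ps)
      (force (Nat.mod x (Nat.pow 2 (Nat.pow 2 k))) fun lo => force (Nat.shiftRight x (Nat.pow 2 k)) fun hi =>
        force (Nat.add b (Nat.pow 2 k)) fun b' => sumF row k b lo ps fun ps' => sumF row k b' hi ps' κ) = _
    rw [sumRows]
    cases Nat.beq x 0
    · show (force (Nat.mod x (Nat.pow 2 (Nat.pow 2 k))) fun lo => force (Nat.shiftRight x (Nat.pow 2 k)) fun hi =>
        force (Nat.add b (Nat.pow 2 k)) fun b' => sumF row k b lo ps fun ps' => sumF row k b' hi ps' κ) = _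
      rw [force_eq, force_eq, force_eq, sumF_eq row k, sumF_eq row k]
      rfl
    · rfl

/-- `eqVal`, strict -/
noncomputable def eqF (ps : List ℕ) : ℕ → ℕ → ℕ :=
  List.rec (fun c U => cnd (Nat.beq c 0) U 0)
    (fun p _ ih c U => force (cnd (Nat.beq (Nat.mod c 2) 0) (Nat.xor U (Nat.land U p)) (Nat.land U p)) fun U' =>
      force (Nat.div c 2) fun c' => ih c' U') ps

theorem eqF_eq : ∀ (ps : List ℕ) (c U : ℕ), eqF ps c U = eqVal ps c U
  | [], c, U => by
    show cnd (Nat.beq c 0) U 0 = _
    rw [eqVal]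
    cases Nat.beq c 0 <;> rfl
  | p :: ps, c, U => by
    show (force (cnd (Nat.beq (Nat.mod c 2) 0) (Nat.xor U (Nat.land U p)) (Nat.land U p)) fun U' =>
      force (Nat.div c 2) fun c' => eqF ps c' U') = _
    rw [force_eq, force_eq, eqF_eq ps, eqVal]
    cases Nat.beq (Nat.mod c 2) 0 <;> rfl

/-- `popc`, strict -/
noncomputable def popF (k : ℕ) : ℕ → ℕ :=
  Nat.rec (fun x => Nat.land x 1)
    (fun k ih x => cnd (Nat.beq x 0) 0
      (force (Nat.mod x (Nat.pow 2 (Nat.pow 2 k))) fun lo => force (Nat.shiftRight x (Nat.pow 2 k)) fun hi =>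
        force (ih lo) fun a => force (ih hi) fun b => Nat.add a b)) k

theorem popF_eq : ∀ (k x : ℕ), popF k x = popc k x
  | 0, x => rfl
  | k + 1, x => by
    show cnd (Nat.beq x 0) 0
      (force (Nat.mod x (Nat.pow 2 (Nat.pow 2 k))) fun lo => force (Nat.shiftRight x (Nat.pow 2 k)) fun hi =>
        force (popF k lo) fun a => force (popF k hi) fun b => Nat.add a b) = _
    rw [popc]
    cases Nat.beq x 0
    · show (force (Nat.mod x (Nat.pow 2 (Nat.pow 2 k))) fun lo => force (Nat.shiftRight x (Nat.pow 2 k)) fun hi =>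
        force (popF k lo) fun a => force (popF k hi) fun b => Nat.add a b) = _
      rw [force_eq, force_eq, force_eq, force_eq, popF_eq k, popF_eq k]
      rfl
    · rfl

/-- `sep`. The arguments are not forced: the hash of a literal only depends on its last 64 bits, which are mostly zero
for small cells, so that forced arguments make the caches of the kernel slow. -/
noncomputable def sepF (l : List ℕ) : ℕ → Bool :=
  List.rec (fun m => Nat.beq (Nat.land m (Nat.sub m 1)) 0)
    (fun x _ ih m => cnd (Nat.beq (Nat.land m (Nat.sub m 1)) 0) true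
      (cnd (ih (Nat.land m x)) (ih (Nat.xor m (Nat.land m x))) false)) l

theorem sepF_eq : ∀ (l : List ℕ) (m : ℕ), sepF l m = sep l m
  | [], m => rfl
  | x :: l, m => by
    show cnd (Nat.beq (Nat.land m (Nat.sub m 1)) 0) true
      (cnd (sepF l (Nat.land m x)) (sepF l (Nat.xor m (Nat.land m x))) false) = _
    rw [sep]
    cases Nat.beq (Nat.land m (Nat.sub m 1)) 0
    · show cnd (sepF l (Nat.land m x)) (sepF l (Nat.xor m (Nat.land m x))) false = _
      rw [sepF_eq l, sepF_eq l, cond_false]
      cases sep l (Nat.land m x) <;> cases sep l (Nat.xor m (Nat.land m x)) <;> rfl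
    · rfl

/-- entry `i` of the list -/
noncomputable def nth (l : List ℕ) : ℕ → ℕ :=
  List.rec (fun _ => 0) (fun x _ ih i => Nat.rec x (fun j _ => ih j) i) l

theorem nth_eq : ∀ (l : List ℕ) (i : ℕ), nth l i = l.getD i 0
  | [], _ => rfl
  | _ :: _, 0 => rfl
  | _ :: l, i + 1 => nth_eq l i

/-- intersection of masks (`true`) and complements (`false`) -/
noncomputable def cellM (st : List ℕ) (l : List (Bool × ℕ)) : ℕ → ℕ :=
  List.rec (fun U => U) (fun a _ ih U => force (nth st a.2) fun m =>
    force (cnd a.1 (Nat.land U m) (Nat.xor U (Nat.land U m))) ih) l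

/-! ### the certificates -/

/-- instructions; the indices count from the most recent mask -/
inductive Ins
  /-- intersection of masks / complements of masks -/
  | cell (l : List (Bool × ℕ))
  /-- the points with `c` neighbours in the mask `i`, for the `c` in the list -/
  | cnt (i : ℕ) (cs : List ℕ)
  /-- the image of the mask `i` under `r` -/
  | img (i : ℕ)
  /-- the mask `i` is `{p}`: the rows of `p, r p, …` (`m` of them) -/
  | pt (i p m : ℕ)
  /-- base point `b` in the mask `i`; the rows of `b, r b, …` -/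
  | base (i b m : ℕ)
  /-- the points `p` of the mask `k` with `c` points of the mask `x` joined to `p`, `r ^ i p`, `r ^ j p` -/
  | tri (k x i j c : ℕ)
  /-- the masks separate the points -/
  | fin (l : List ℕ)

/-- push the rows of `p, r p, …` -/
noncomputable def pushR {α : Type} (row : ℕ → ℕ) (w P m : ℕ) : ℕ → List ℕ → (List ℕ → α) → α :=
  Nat.rec (fun _ st κ => κ st) (fun _ ih p st κ => force (row p) fun r => force (lk w P p) fun p' =>
    ih p' (r :: st) κ) m

/-- push the masks of the points with given values -/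
noncomputable def pushE {α : Type} (ps : List ℕ) (U : ℕ) (cs : List ℕ) : List ℕ → (List ℕ → α) → α :=
  List.rec (fun st κ => κ st) (fun c _ ih st κ => force (eqF ps c U) fun m => ih (m :: st) κ) cs

/-- the points `p` of `M` with `c` points of `X` joined to `p`, `r ^ i p`, `r ^ j p` -/
noncomputable def triM (K : ℕ) (row : ℕ → ℕ) (w P M X i j c : ℕ) : ℕ :=
  bld (fun p => band (tb M p) (force (it w P i p) fun q => force (it w P j p) fun s =>
    force (row p) fun a => force (row q) fun b => force (row s) fun d =>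
    force (Nat.land (Nat.land X a) (Nat.land b d)) fun y => Nat.beq (popF K y) c)) K 0

/-- the masks with the indices `l` -/
noncomputable def pick (st : List ℕ) (l : List ℕ) : (List ℕ → ℕ) → ℕ :=
  List.rec (fun κ => κ []) (fun i _ ih κ => force (nth st i) fun m => ih fun l' => κ (m :: l')) l

theorem pick_eq (st : List ℕ) : ∀ (l : List ℕ) (κ : List ℕ → ℕ), pick st l κ = κ (l.map (nth st))
  | [], _ => rfl
  | i :: l, κ => by
    show (force (nth st i) fun m => pick st l fun l' => κ (m :: l')) = _
    rw [force_eq, pick_eq st l]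
    rfl

/-- run the certificate -/
noncomputable def run (n K : ℕ) (row : ℕ → ℕ) (w P : ℕ) : List Ins → List ℕ → ℕ
  | [], _ => 0
  | Ins.cell l :: L, st => force (cellM st l (Nat.sub (Nat.pow 2 n) 1)) fun m => run n K row w P L (m :: st)
  | Ins.cnt i cs :: L, st => force (Nat.land (nth st i) (Nat.sub (Nat.pow 2 n) 1)) fun x =>
      sumF row K 0 x [] fun ps => pushE ps (Nat.sub (Nat.pow 2 n) 1) cs st fun st' => run n K row w P L st'
  | Ins.img i :: L, st => force (Nat.land (nth st i) (Nat.sub (Nat.pow 2 n) 1)) fun x =>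
      force (imM (lk w P) K 0 x 0) fun m => run n K row w P L (m :: st)
  | Ins.pt i p m :: L, st =>
      cnd (band (Nat.beq (nth st i) (Nat.pow 2 p)) (Nat.blt p n))
        (pushR row w P m p st fun st' => run n K row w P L st') 0
  | Ins.base i b m :: L, st =>
      cnd (band (tb (nth st i) b) (Nat.blt b n))
        (force (popF K (nth st i)) fun c =>
          pushR row w P m b st fun st' => force (run n K row w P L st') fun N => Nat.mul c N) 0
  | Ins.tri k x i j c :: L, st => force (Nat.land (nth st x) (Nat.sub (Nat.pow 2 n) 1)) fun X =>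
      force (nth st k) fun M => force (triM K row w P M X i j c) fun m => run n K row w P L (m :: st)
  | Ins.fin l :: _, st => pick st l fun l' => force (Nat.sub (Nat.pow 2 n) 1) fun u => cnd (sepF l' u) 1 0

/-! ### soundness -/

section

variable {n K : ℕ} {row : ℕ → ℕ} {w P : ℕ}

theorem inv_univ {σ : Perm (Fin n)} : Inv σ (Nat.sub (Nat.pow 2 n) 1) := by
  intro v
  change (2 ^ n - 1).testBit _ = (2 ^ n - 1).testBit _
  rw [Nat.testBit_two_pow_sub_one, Nat.testBit_two_pow_sub_one]
  simp

theorem inv_land {σ : Perm (Fin n)} {a b : ℕ} (ha : Inv σ a) (hb : Inv σ b) : Inv σ (Nat.land a b) := by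
  intro v
  change (a &&& b).testBit _ = (a &&& b).testBit _
  rw [Nat.testBit_and, Nat.testBit_and, ha v, hb v]

theorem inv_xor {σ : Perm (Fin n)} {a b : ℕ} (ha : Inv σ a) (hb : Inv σ b) : Inv σ (Nat.xor a b) := by
  intro v
  change (a ^^^ b).testBit _ = (a ^^^ b).testBit _
  rw [Nat.testBit_xor, Nat.testBit_xor, ha v, hb v]

theorem inv_nth {σ : Perm (Fin n)} {st : List ℕ} (h : ∀ x ∈ st, Inv σ x) (i : ℕ) : Inv σ (nth st i) := by
  rw [nth_eq]
  exact inv_getD h i

theorem inv_cellM {σ : Perm (Fin n)} {st : List ℕ} (h : ∀ x ∈ st, Inv σ x) : ∀ (l : List (Bool × ℕ)) (U : ℕ),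
    Inv σ U → Inv σ (cellM st l U)
  | [], _, hU => hU
  | a :: l, U, hU => by
    have e : cellM st (a :: l) U = force (nth st a.2) fun m =>
      force (cnd a.1 (Nat.land U m) (Nat.xor U (Nat.land U m))) (cellM st l) := rfl
    rw [e, force_eq, force_eq]
    refine inv_cellM h l _ ?_
    cases a.1
    · exact inv_xor hU (inv_land hU (inv_nth h a.2))
    · exact inv_land hU (inv_nth h a.2)

/-- the subgroup commutes with `r` -/
def Comm (r : Perm (Fin n)) (H : Subgroup (Perm (Fin n))) : Prop := ∀ σ ∈ H, ∀ i, σ (r i) = r (σ i)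

theorem inv_imM (hn : n ≤ 2 ^ K) {r σ : Perm (Fin n)} (hr : ∀ i, (r i : ℕ) = lk w P i)
    (hc : ∀ i, σ (r i) = r (σ i)) {x : ℕ} (hx : Inv σ x) :
    Inv σ (imM (lk w P) K 0 (Nat.land x (Nat.sub (Nat.pow 2 n) 1)) 0) := by
  have key : ∀ v : Fin n, (imM (lk w P) K 0 (Nat.land x (Nat.sub (Nat.pow 2 n) 1)) 0).testBit v = true ↔
      ∃ u : Fin n, x.testBit u = true ∧ r u = v := by
    intro v
    rw [testBit_imM]
    constructor
    · rintro (h | ⟨i, hi, h1, h2⟩)
      · rw [Nat.zero_testBit] at h
        exact absurd h (by simp)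
      · change (x &&& (2 ^ n - 1)).testBit i = true at h1
        rw [Nat.testBit_and, Nat.testBit_two_pow_sub_one, Bool.and_eq_true, decide_eq_true_iff] at h1
        refine ⟨⟨i, h1.2⟩, h1.1, Fin.ext ?_⟩
        rw [hr]
        rw [zero_add] at h2
        exact h2
    · rintro ⟨u, h1, h2⟩
      refine Or.inr ⟨u, lt_of_lt_of_le u.2 hn, ?_, ?_⟩
      · change (x &&& (2 ^ n - 1)).testBit u = true
        rw [Nat.testBit_and, Nat.testBit_two_pow_sub_one, h1]
        simp
      · rw [zero_add, ← hr, h2]
  intro v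
  rw [Bool.eq_iff_iff, key, key]
  constructor
  · rintro ⟨u, h1, h2⟩
    refine ⟨σ.symm u, ?_, ?_⟩
    · rw [← h1]
      have := hx (σ.symm u)
      rw [Equiv.apply_symm_apply] at this
      exact this.symm
    · apply σ.injective
      rw [hc, Equiv.apply_symm_apply]
      exact h2
  · rintro ⟨u, h1, h2⟩
    refine ⟨σ u, ?_, ?_⟩
    · rw [hx u]
      exact h1
    · rw [← hc, h2]

theorem it_eq {r : Perm (Fin n)} (hr : ∀ i, (r i : ℕ) = lk w P i) : ∀ (j : ℕ) (p : Fin n),
    it w P j p = ((r ^ j) p : Fin n)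
  | 0, _ => rfl
  | j + 1, p => by
    rw [it_succ, ← hr, it_eq hr j, pow_succ, Perm.mul_apply]

theorem popF_conj (hn : n ≤ 2 ^ K) {σ : Perm (Fin n)} {x y : ℕ} (hx : ∀ i, x.testBit i = true → i < n)
    (hy : ∀ i, y.testBit i = true → i < n) (h : ∀ v : Fin n, y.testBit (σ v) = x.testBit v) :
    popF K y = popF K x := by
  rw [popF_eq, popF_eq, le_antisymm (card_pts_eq (n := n) (K := K) hx) (card_pts_le hn x),
    le_antisymm (card_pts_eq (n := n) (K := K) hy) (card_pts_le hn y)]
  symm
  refine Finset.card_bij (fun v _ => σ v) ?_ ?_ ?_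
  · intro v hv
    rw [mem_pts] at hv ⊢
    rw [h]; exact hv
  · intro a _ b _ hab
    exact σ.injective hab
  · intro b hb
    rw [mem_pts] at hb
    refine ⟨σ.symm b, ?_, σ.apply_symm_apply b⟩
    rw [mem_pts, ← h, σ.apply_symm_apply]
    exact hb

theorem inv_triM (hn : n ≤ 2 ^ K) {r σ : Perm (Fin n)} (hr : ∀ i, (r i : ℕ) = lk w P i) (hσ : σ ∈ Aut n row)
    (hc : ∀ i, σ (r i) = r (σ i)) {M X : ℕ} (hM : Inv σ M) (hX : Inv σ X) (i j c : ℕ) :
    Inv σ (triM K row w P M (Nat.land X (Nat.sub (Nat.pow 2 n) 1)) i j c) := by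
  have hp : ∀ (j : ℕ) (p : Fin n), σ ((r ^ j) p) = (r ^ j) (σ p) := by
    intro j
    induction j with
    | zero => intro p; rfl
    | succ j ih => intro p; rw [pow_succ, Perm.mul_apply, Perm.mul_apply, ih, hc]
  have hX' : ∀ i, (Nat.land X (Nat.sub (Nat.pow 2 n) 1)).testBit i = true → i < n := by
    intro i h1
    change (X &&& (2 ^ n - 1)).testBit i = true at h1
    rw [Nat.testBit_and, Nat.testBit_two_pow_sub_one, Bool.and_eq_true, decide_eq_true_iff] at h1
    exact h1.2
  have key : ∀ v : Fin n, (triM K row w P M (Nat.land X (Nat.sub (Nat.pow 2 n) 1)) i j c).testBit v =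
      band (M.testBit v) (Nat.beq (popF K (Nat.land (Nat.land (Nat.land X (Nat.sub (Nat.pow 2 n) 1)) (row v))
        (Nat.land (row ((r ^ i) v : Fin n)) (row ((r ^ j) v : Fin n))))) c) := by
    intro v
    have h1 : decide ((v : ℕ) < 2 ^ K) = true := decide_eq_true (lt_of_lt_of_le v.2 hn)
    unfold triM
    rw [testBit_bld, h1, Bool.true_and, zero_add, force_eq, force_eq, force_eq, force_eq, force_eq, force_eq, tb_eq,
      it_eq hr, it_eq hr]
  intro v
  rw [key, key, hM v]
  congr 2
  refine popF_conj hn (σ := σ) ?_ ?_ fun u => ?_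
  · intro t ht
    change ((Nat.land X (Nat.sub (Nat.pow 2 n) 1) &&& _) &&& _).testBit t = true at ht
    rw [Nat.testBit_and, Nat.testBit_and, Bool.and_eq_true, Bool.and_eq_true] at ht
    exact hX' t ht.1.1
  · intro t ht
    change ((Nat.land X (Nat.sub (Nat.pow 2 n) 1) &&& _) &&& _).testBit t = true at ht
    rw [Nat.testBit_and, Nat.testBit_and, Bool.and_eq_true, Bool.and_eq_true] at ht
    exact hX' t ht.1.1
  · change ((Nat.land X (Nat.sub (Nat.pow 2 n) 1) &&& _) &&& (_ &&& _)).testBit _ =
      ((Nat.land X (Nat.sub (Nat.pow 2 n) 1) &&& _) &&& (_ &&& _)).testBit _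
    rw [Nat.testBit_and, Nat.testBit_and, Nat.testBit_and, Nat.testBit_and, Nat.testBit_and, Nat.testBit_and,
      inv_land hX inv_univ u, hσ v u, ← hp, ← hp, hσ _ u, hσ _ u]

theorem pushR_spec {r : Perm (Fin n)} (hr : ∀ i, (r i : ℕ) = lk w P i) (m : ℕ) : ∀ (p : Fin n) (st : List ℕ),
    ∃ st' : List ℕ, (∀ κ : List ℕ → ℕ, pushR row w P m p st κ = κ st') ∧
      ∀ σ ∈ Aut n row, (∀ i, σ (r i) = r (σ i)) → σ p = p → (∀ x ∈ st, Inv σ x) → ∀ x ∈ st', Inv σ x := by
  induction m with
  | zero => exact fun p st => ⟨st, fun κ => rfl, fun σ _ _ _ h => h⟩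
  | succ m ih =>
    intro p st
    obtain ⟨st', h1, h2⟩ := ih (r p) (row p :: st)
    refine ⟨st', fun κ => ?_, fun σ hσ hc hp h => h2 σ hσ hc (by rw [hc, hp]) ?_⟩
    · have e : pushR row w P (m + 1) p st κ = force (row p) fun r => force (lk w P p) fun p' =>
        pushR row w P m p' (r :: st) κ := rfl
      rw [e, force_eq, force_eq, ← hr, h1]
    · intro x hx
      rcases List.mem_cons.1 hx with rfl | hx
      · exact Inv.row hσ hp
      · exact h x hx

theorem pushE_spec (hn : n ≤ 2 ^ K) (M : ℕ) : ∀ (cs : List ℕ) (st : List ℕ),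
    ∃ st' : List ℕ, (∀ κ : List ℕ → ℕ,
      pushE (sumRows row K 0 (Nat.land M (Nat.sub (Nat.pow 2 n) 1)) []) (Nat.sub (Nat.pow 2 n) 1) cs st κ = κ st') ∧
      ∀ σ ∈ Aut n row, Inv σ M → (∀ x ∈ st, Inv σ x) → ∀ x ∈ st', Inv σ x
  | [], st => ⟨st, fun κ => rfl, fun σ _ _ h => h⟩
  | c :: cs, st => by
    obtain ⟨st', h1, h2⟩ := pushE_spec hn M cs (cntSet K n row M c :: st)
    refine ⟨st', fun κ => ?_, fun σ hσ hM h => h2 σ hσ hM ?_⟩
    · have e : pushE (sumRows row K 0 (Nat.land M (Nat.sub (Nat.pow 2 n) 1)) []) (Nat.sub (Nat.pow 2 n) 1) (c :: cs)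
        st κ = force (eqF (sumRows row K 0 (Nat.land M (Nat.sub (Nat.pow 2 n) 1)) []) c (Nat.sub (Nat.pow 2 n) 1))
          fun m => pushE (sumRows row K 0 (Nat.land M (Nat.sub (Nat.pow 2 n) 1)) []) (Nat.sub (Nat.pow 2 n) 1) cs
            (m :: st) κ := rfl
      rw [e, force_eq, eqF_eq]
      exact h1 κ
    · intro x hx
      rcases List.mem_cons.1 hx with rfl | hx
      · exact Inv.cntSet hn hσ hM c
      · exact h x hx

theorem band_true {a b : Bool} (h : band a b = true) : a = true ∧ b = true := band_eq.1 h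

theorem run_sound (hn : n ≤ 2 ^ K) {r : Perm (Fin n)} (hr : ∀ i, (r i : ℕ) = lk w P i) :
    ∀ (L : List Ins) (st : List ℕ), run n K row w P L st ≠ 0 →
    ∀ H : Subgroup (Perm (Fin n)), H ≤ Aut n row → Comm r H → (∀ σ ∈ H, ∀ x ∈ st, Inv σ x) →
      Nat.card H ≤ run n K row w P L st
  | [], st, h, _, _, _, _ => absurd rfl h
  | Ins.cell l :: L, st, h, H, hH, hc, hI => by
    have e : run n K row w P (Ins.cell l :: L) st = run n K row w P L (cellM st l (Nat.sub (Nat.pow 2 n) 1) :: st) := by
      show force (cellM st l (Nat.sub (Nat.pow 2 n) 1)) (fun m => run n K row w P L (m :: st)) = _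
      rw [force_eq]
    rw [e] at h ⊢
    refine run_sound hn hr L _ h H hH hc fun σ hσ x hx => ?_
    rcases List.mem_cons.1 hx with rfl | hx
    · exact inv_cellM (hI σ hσ) l _ inv_univ
    · exact hI σ hσ x hx
  | Ins.cnt i cs :: L, st, h, H, hH, hc, hI => by
    obtain ⟨st', h1, h2⟩ := pushE_spec (row := row) hn (nth st i) cs st
    have e : run n K row w P (Ins.cnt i cs :: L) st = run n K row w P L st' := by
      show (force (Nat.land (nth st i) (Nat.sub (Nat.pow 2 n) 1)) fun x =>
        sumF row K 0 x [] fun ps => pushE ps (Nat.sub (Nat.pow 2 n) 1) cs st fun st' => run n K row w P L st') = _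
      rw [force_eq, sumF_eq, h1]
    rw [e] at h ⊢
    exact run_sound hn hr L _ h H hH hc fun σ hσ => h2 σ (hH hσ) (inv_nth (hI σ hσ) i) (hI σ hσ)
  | Ins.img i :: L, st, h, H, hH, hc, hI => by
    have e : run n K row w P (Ins.img i :: L) st =
        run n K row w P L (imM (lk w P) K 0 (Nat.land (nth st i) (Nat.sub (Nat.pow 2 n) 1)) 0 :: st) := by
      show (force (Nat.land (nth st i) (Nat.sub (Nat.pow 2 n) 1)) fun x =>
        force (imM (lk w P) K 0 x 0) fun m => run n K row w P L (m :: st)) = _
      rw [force_eq, force_eq]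
    rw [e] at h ⊢
    refine run_sound hn hr L _ h H hH hc fun σ hσ x hx => ?_
    rcases List.mem_cons.1 hx with rfl | hx
    · exact inv_imM hn hr (hc σ hσ) (inv_nth (hI σ hσ) i)
    · exact hI σ hσ x hx
  | Ins.pt i p m :: L, st, h, H, hH, hc, hI => by
    have e : run n K row w P (Ins.pt i p m :: L) st =
        cnd (band (Nat.beq (nth st i) (Nat.pow 2 p)) (Nat.blt p n))
          (pushR row w P m p st fun st' => run n K row w P L st') 0 := rfl
    by_cases hb : band (Nat.beq (nth st i) (Nat.pow 2 p)) (Nat.blt p n) = true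
    · obtain ⟨hb1, hb2⟩ := band_true hb
      have h2 : p < n := by
        rw [Nat.blt_eq] at hb2
        exact hb2
      obtain ⟨st', h3, h4⟩ := pushR_spec (row := row) hr m ⟨p, h2⟩ st
      rw [e, hb, cnd_true, h3] at h ⊢
      refine run_sound hn hr L _ h H hH hc fun σ hσ => h4 σ (hH hσ) (hc σ hσ) ?_ (hI σ hσ)
      have h5 := inv_nth (hI σ hσ) i
      rw [Nat.eq_of_beq_eq_true hb1] at h5
      exact Inv.fix (p := ⟨p, h2⟩) h5
    · rw [Bool.not_eq_true] at hb
      rw [e, hb] at h
      exact absurd rfl h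
  | Ins.base i b m :: L, st, h, H, hH, hc, hI => by
    have e : run n K row w P (Ins.base i b m :: L) st =
        cnd (band (tb (nth st i) b) (Nat.blt b n))
        (force (popF K (nth st i)) fun c =>
          pushR row w P m b st fun st' => force (run n K row w P L st') fun N => Nat.mul c N) 0 := rfl
    by_cases hb : band (tb (nth st i) b) (Nat.blt b n) = true
    · obtain ⟨hb1, hb2⟩ := band_true hb
      have h2 : b < n := by
        rw [Nat.blt_eq] at hb2
        exact hb2
      rw [tb_eq] at hb1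
      obtain ⟨st', h3, h4⟩ := pushR_spec (row := row) hr m ⟨b, h2⟩ st
      rw [e, hb, cnd_true, force_eq, h3, force_eq] at h ⊢
      rw [popF_eq] at h ⊢
      have h5 : run n K row w P L st' ≠ 0 := by
        intro h6
        apply h
        rw [h6]
        rfl
      change Nat.card H ≤ popc K (nth st i) * run n K row w P L st'
      rw [card_eq_orbit_mul H ⟨b, h2⟩]
      apply Nat.mul_le_mul
      · refine le_trans ?_ (card_pts_le (n := n) hn _)
        rw [Nat.card_coe_set_eq, ← Set.ncard_coe_finset]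
        apply Set.ncard_le_ncard
        · rintro x ⟨σ, rfl⟩
          rw [Finset.mem_coe, mem_pts]
          have := inv_nth (hI σ.1 σ.2) i ⟨b, h2⟩
          rw [hb1] at this
          exact this
        · exact Set.toFinite _
      · refine run_sound hn hr L _ h5 _ (inf_le_left.trans hH) (fun σ hσ => hc σ hσ.1) (fun σ hσ => ?_)
        exact h4 σ (hH hσ.1) (hc σ hσ.1) hσ.2 (hI σ hσ.1)
    · rw [Bool.not_eq_true] at hb
      rw [e, hb] at h
      exact absurd rfl h
  | Ins.tri k x i j c :: L, st, h, H, hH, hc, hI => by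
    have e : run n K row w P (Ins.tri k x i j c :: L) st = run n K row w P L
        (triM K row w P (nth st k) (Nat.land (nth st x) (Nat.sub (Nat.pow 2 n) 1)) i j c :: st) := by
      show force (Nat.land (nth st x) (Nat.sub (Nat.pow 2 n) 1)) (fun X => force (nth st k) fun M =>
        force (triM K row w P M X i j c) fun m => run n K row w P L (m :: st)) = _
      rw [force_eq, force_eq, force_eq]
    rw [e] at h ⊢
    refine run_sound hn hr L _ h H hH hc fun σ hσ y hy => ?_
    rcases List.mem_cons.1 hy with rfl | hy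
    · exact inv_triM hn hr (hH hσ) (hc σ hσ) (inv_nth (hI σ hσ) k) (inv_nth (hI σ hσ) x) i j c
    · exact hI σ hσ y hy
  | Ins.fin l :: L, st, h, H, hH, hc, hI => by
    have e : run n K row w P (Ins.fin l :: L) st = cnd (sepF (l.map (nth st)) (Nat.sub (Nat.pow 2 n) 1)) 1 0 := by
      show (pick st l fun l' => force (Nat.sub (Nat.pow 2 n) 1) fun u => cnd (sepF l' u) 1 0) = _
      rw [pick_eq, force_eq]
    by_cases hs : sepF (l.map (nth st)) (Nat.sub (Nat.pow 2 n) 1) = true
    · rw [e, hs, cnd_true]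
      rw [sepF_eq] at hs
      have hbot : H = ⊥ := by
        rw [Subgroup.eq_bot_iff_forall]
        intro σ hσ
        apply Equiv.ext
        intro i
        apply Fin.ext
        have hU : ∀ i : Fin n, (Nat.sub (Nat.pow 2 n) 1).testBit (i : ℕ) = true := by
          intro i
          change (2 ^ n - 1).testBit (i : ℕ) = true
          rw [Nat.testBit_two_pow_sub_one]
          simp
        refine sep_sound hs (hU (σ i)) (hU i) (fun x hx => ?_)
        obtain ⟨j, -, rfl⟩ := List.mem_map.1 hx
        exact inv_nth (hI σ hσ) j i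
      rw [hbot, Nat.card_eq_fintype_card]
      simp
    · rw [Bool.not_eq_true] at hs
      rw [e, hs] at h
      exact absurd rfl h

end

end Cfsg.Agent.H123.Cls
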