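import Cfsg.Agent.H123.Cls.FiRep

set_option autoImplicit false
set_option maxRecDepth 1000000
set_option exponentiation.threshold 5000

namespace Cfsg.Agent.H123.Cls.FiDat

open Cfsg.Agent.H123.Cls
open Cfsg.Agent.H494.F22.Row (row)

theorem bd0 : chkB 3510 12 row 12 p0 [(false, 1), (true, 1)]
    [.cell [(false, 0), (false, 1)], .base 0 1 2, .cell [(true, 4), (false, 1)], .cnt 0 [8, 10, 12], .cell [(true, 3), (false, 2)], .cnt 0 [0], .cell [(true, 8), (true, 2), (false, 0)], .base 0 38 2, .cell [(false, 10), (false, 1), (false, 9), (false, 0), (false, 13)], .base 0 55 2, .cell [(false, 12), (false, 4), (false, 3), (false, 1), (false, 0), (true, 13), (true, 15)], .base 0 1869 2, .cell [(false, 16), (false, 7), (false, 3), (true, 12), (true, 18), (true, 6), (true, 0)], .cnt 0 [2, 3, 0], .cell [(true, 12), (false, 4), (true, 1), (true, 10), (true, 11), (true, 8)], .cnt 0 [12, 11, 13, 14, 10, 9, 8, 15, 6, 3], .cnt 1 [11, 10, 12, 9, 8, 7, 5, 6, 3], .cell [(true, 14), (true, 5), (true, 21), (true, 42), (true, 35), (true,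 27), (true, 25), (true, 39), (true, 28), (true, 24)], .cnt 0 [8, 7, 9, 6, 5], .cnt 8 [20, 19, 21, 18, 16, 23, 17, 22], .cnt 14 [3, 2], .cell [(true, 8), (false, 46), (true, 24), (false, 55), (true, 51), (true, 56)], .cnt 0 [1, 0], .cnt 48 [3], .cell [(true, 25), (false, 45), (true, 16), (true, 2), (false, 47)], .cnt 0 [0], .cell [(true, 54), (true, 37), (true, 20), (true, 13)], .cnt 0 [0], .fin [59, 45, 9, 4, 6, 22, 65, 42, 32, 54, 2, 20, 31, 0, 48, 63, 41, 30, 16, 17, 40, 52, 21, 55, 14, 29, 15, 49, 11, 51, 8, 12, 61, 64, 46, 33, 13, 5]] 3538943 = true := by decide +kernel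

theorem sg0 : chkKey 3510 12 row 12 p0 keys [2304, 0] = true := by decide +kernel

theorem cm0 : chkC 3510 12 gens p0 [3, 7, 4, 3] [2, 4] = true := by decide +kernel

theorem bd12 : chkB 3510 12 row 12 p12 [(false, 1), (true, 1), (true, 2)]
    [.cnt 2 [8, 4, 0, 7, 6], .cell [(true, 2), (false, 6)], .cnt 0 [5, 2], .cell [(true, 1), (false, 7), (true, 9), (true, 8), (false, 3)], .base 0 340 5, .cell [(false, 3), (false, 0), (true, 7), (false, 14), (true, 2), (true, 1)], .base 0 503 5, .cell [(false, 9), (false, 7), (true, 20), (false, 13), (true, 2), (false, 19), (true, 4), (true, 3), (true, 10), (true, 21), (true, 0)], .cnt 0 [7, 6, 5, 8, 4], .cell [(true, 2), (true, 25), (true, 27), (false, 19), (true, 26), (true, 15), (true, 13), (true, 16), (true, 12), (true, 14)], .cnt 0 [7, 6, 5, 4, 3], .cell [(true, 2), (false, 20), (false, 18), (true, 23), (true, 21)], .cnt 0 [2, 0], .cell [(true, 30), (true, 5), (false, 1), (false, 36), (true, 10)], .cnt 0 [2, 1, 0], .cell [(false, 22), (true, 16), (true, 2), (false, 38),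 (false, 10), (false, 32), (false, 35), (true, 27), (true, 25), (true, 19), (false, 8)], .cnt 0 [0], .cell [(false, 28), (false, 24), (true, 12), (false, 41), (true, 19), (true, 23)], .cnt 0 [0], .cell [(true, 38), (true, 20), (false, 44), (true, 6), (true, 14), (true, 32), (true, 30), (true, 9)], .cnt 0 [0], .cell [(true, 21), (false, 33), (true, 36), (false, 35), (true, 28)], .cnt 0 [0], .cell [(true, 17), (false, 30), (true, 2), (true, 22), (false, 40)], .cnt 0 [0], .cell [(false, 31), (true, 6), (true, 27), (true, 42), (true, 48), (true, 21)], .cnt 0 [0], .cell [(true, 49), (false, 37), (true, 26), (false, 52)], .cnt 0 [0], .cell [(true, 48), (false, 34), (false, 33), (true, 31), (true, 19)], .cnt 0 [0], .cell [(true, 46), (false, 38), (true, 0), (true, 2), (false, 42)], .cnt 0 [0], .fin [20, 23, 50, 29, 56, 35, 0, 57, 41, 12, 10, 8, 34, 6, 16, 28, 58, 4, 46, 44, 38, 47, 43, 37, 2, 32, 14, 26, 40, 19, 52, 45, 55, 33, 27]] 1199 = true := by decide +kernel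

theorem sg12 : chkKey 3510 12 row 12 p12 keys [2100, 2600] = true := by decide +kernel

theorem cm12 : chkC 3510 12 gens p12 [8, 2] [7, 3] = true := by decide +kernel

theorem bd24 : chkB 3510 12 row 12 p24 [(false, 1), (true, 1), (true, 2), (true, 3)]
    [.cnt 3 [0, 2], .cell [(false, 3), (false, 2), (false, 0), (false, 1)], .base 0 713 7, .cell [(false, 6), (false, 5), (false, 4), (false, 8), (false, 2), (true, 11), (true, 3)], .base 0 574 7, .cell [(false, 10), (false, 4), (true, 16), (true, 14), (true, 8), (true, 20), (true, 0), (true, 18), (true, 19), (true, 11), (true, 9)], .cnt 0 [3, 2, 0], .cell [(true, 21), (false, 24), (false, 22), (true, 2)], .cnt 0 [5, 6, 4, 3, 2], .cnt 0 [16, 18, 15, 17, 14, 19, 13, 0, 5, 6], .cell [(true, 35), (true, 7), (true, 18), (true, 20), (true, 33)], .cnt 0 [2, 0], .cell [(true, 9), (false, 33), (false, 27), (false, 43), (true, 20), (true, 37)], .cnt 0 [0], .cell [(true, 40), (false, 36), (true, 38), (true, 39)], .cnt 0 [0], .cell [(true, 16), (true, 2), (true, 0), (true,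 43), (true, 37), (true, 5), (true, 32)], .cnt 0 [0], .cell [(true, 13), (false, 40), (false, 31), (false, 47), (true, 48)], .cnt 0 [0], .cell [(true, 20), (true, 2), (false, 40), (false, 35), (false, 47), (true, 42)], .cnt 0 [0], .cell [(true, 21), (false, 36), (true, 0), (false, 38), (false, 11), (true, 52)], .cnt 0 [0], .fin [33, 51, 13, 28, 53, 54, 6, 36, 35, 4, 44, 38, 39, 8, 29, 0, 41, 37, 10, 40, 2, 23, 21, 24, 45, 49, 55, 48, 47, 22, 26, 43, 12, 27, 46, 52, 32, 20, 16]] 83 = true := by decide +kernel

theorem sg24 : chkKey 3510 12 row 12 p24 keys [2072, 2072] = true := by decide +kernel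

theorem cm24 : chkC 3510 12 gens p24 [0, 8, 3] [1, 2, 7] = true := by decide +kernel

theorem bd36 : chkB 3510 12 row 12 p36 [(false, 2), (false, 3), (false, 4), (false, 6), (true, 1), (true, 2), (true, 3)]
    [.cell [(false, 2), (false, 0), (false, 3), (false, 1)], .base 0 33 12, .cell [(false, 6), (false, 3), (false, 1), (true, 13), (true, 8), (true, 4), (true, 11), (true, 5), (true, 15)], .base 0 1569 12, .cell [(false, 23), (false, 11), (false, 27), (false, 5), (false, 29), (false, 1)], .cnt 0 [0], .cell [(true, 31), (false, 10), (true, 29), (false, 30), (true, 23)], .cnt 0 [1, 0], .cell [(false, 26), (false, 1), (true, 31), (true, 11), (true, 9), (true, 6), (true, 27), (true, 21), (true, 24), (true, 8), (true, 13), (true, 14), (true, 28), (true, 12), (true, 7), (true, 33), (true, 15), (true, 5)], .cnt 0 [2, 0], .cell [(false, 14), (false, 13), (true, 6), (true, 4), (true, 31), (true, 29), (true, 18)], .cnt 0 [0], .cell [(false, 12), (false, 11), (false, 37), (true, 38), (false, 0), (true, 18), (true, 3),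 (true, 32), (true, 31), (true, 27)], .cnt 0 [0], .cell [(false, 35), (false, 31), (false, 5), (false, 30), (false, 33), (true, 32), (true, 38), (true, 23)], .cnt 0 [0], .cell [(false, 25), (false, 17), (true, 0), (false, 40), (true, 34)], .cnt 0 [0], .cell [(false, 39), (false, 23), (false, 30), (false, 9), (true, 35), (true, 43)], .cnt 0 [0], .fin [11, 14, 45, 44, 25, 22, 21, 23, 18, 36, 32, 6, 8, 29, 26, 24, 4, 40, 27, 28, 2, 20, 16, 39, 46, 19, 33, 37, 42, 34, 41, 13, 0, 50, 38, 35]] 143 = true := by decide +kernel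

theorem sg36 : chkKey 3510 12 row 12 p36 keys [2256, 1704] = true := by decide +kernel

theorem cm36 : chkC 3510 12 gens p36 [6, 2, 4, 3, 1, 4] [0, 5, 7, 3] = true := by decide +kernel

theorem bd48 : chkB 3510 12 row 12 p48 [(false, 2), (false, 4), (false, 8), (true, 1), (true, 2), (true, 3)]
    [.cell [(false, 2), (false, 0), (false, 1), (false, 3)], .base 0 444 12, .cell [(false, 6), (true, 11), (true, 7), (true, 1), (true, 5), (true, 8), (true, 9), (true, 3), (true, 4), (true, 14), (true, 13), (true, 15), (true, 0), (false, 16), (true, 10), (true, 2)], .cnt 0 [23, 24, 21, 22, 25, 20, 19, 18, 26, 17, 27], .cell [(true, 7), (false, 17), (true, 22), (true, 26), (true, 14), (true, 27), (true, 16), (true, 12), (true, 25), (true, 15), (false, 28), (true, 21), (true, 19), (true, 13)], .cnt 0 [6, 7, 8, 4, 5], .cell [(true, 13), (true, 0), (true, 23), (true, 29), (true, 33), (true, 32), (true, 21), (true, 27), (true, 25), (true, 19), (true, 28), (true, 20), (true, 31), (true, 24), (true, 18)], .cnt 0 [4, 3, 2, 1],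 .cnt 0 [25, 26, 24, 27, 28, 23, 20, 29, 3, 21], .cell [(true, 4), (true, 29), (true, 15), (true, 44), (true, 43), (true, 38), (true, 35)], .cnt 0 [0], .cell [(true, 28), (false, 50), (true, 19), (true, 9), (false, 51)], .cnt 0 [0], .cell [(true, 32), (false, 45), (false, 51), (true, 17), (true, 48)], .cnt 0 [0], .cell [(true, 28), (true, 12), (true, 53)], .cnt 0 [0], .fin [21, 26, 55, 43, 4, 52, 6, 2, 46, 47, 0, 42, 27, 51, 41, 54, 17, 50, 39, 36, 45, 20, 37, 56, 48, 38, 16, 15, 49, 14, 13, 34, 23, 11, 44, 35, 24, 10, 9, 8]] 31 = true := by decide +kernel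

theorem sg48 : chkKey 3510 12 row 12 p48 keys [2368, 2528] = true := by decide +kernel

theorem cm48 : chkC 3510 12 gens p48 [7, 2, 2, 1, 3, 6, 8, 2] [0, 2, 7, 3, 4, 5] = true := by decide +kernel

end Cfsg.Agent.H123.Cls.FiDat
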