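import Cfsg.Agent.H123.Cls.FiRep

set_option autoImplicit false
set_option maxRecDepth 1000000
set_option exponentiation.threshold 5000

namespace Cfsg.Agent.H123.Cls.FiDat

open Cfsg.Agent.H123.Cls
open Cfsg.Agent.H494.F22.Row (row)

theorem bd1 : chkB 3510 12 row 12 p1 [(false, 1), (true, 1)]
    [.cell [(false, 0), (false, 1)], .base 0 4 2, .cell [(true, 3), (true, 1), (true, 0)], .base 0 22 2, .cell [(true, 7), (false, 4), (false, 1)], .cnt 0 [4, 2, 6, 5], .cell [(false, 9), (false, 5), (true, 11), (true, 3)], .base 0 59 2, .cell [(true, 15), (false, 9), (true, 4), (false, 1)], .base 0 42 1, .cell [(false, 14), (false, 11), (true, 5), (true, 3), (true, 2), (true, 0)], .cnt 0 [15, 14, 13, 16, 12, 11, 18, 10, 9, 8], .cnt 1 [15, 16, 14, 17, 13, 18, 12, 9, 8, 5, 10, 7], .cell [(true, 9), (false, 25), (true, 20), (true, 29), (true, 23), (true, 37), (true, 36), (true, 34)], .cnt 0 [6, 5, 4, 7, 2], .cell [(true, 14), (false, 42), (true, 27), (true, 45), (true, 4), (true, 31)], .cnt 0 [5, 6, 4, 2], .cell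 [(true, 31), (true, 21), (true, 9), (true, 3), (true, 40), (true, 49), (true, 36), (true, 44)], .cnt 0 [3, 4, 1], .cnt 9 [15, 14, 16, 12, 13, 10], .cnt 24 [10, 8, 7], .cnt 13 [42, 38, 39, 34], .fin [14, 56, 20, 26, 66, 6, 49, 12, 38, 54, 64, 25, 39, 19, 62, 11, 61, 10, 48, 36, 15, 53, 65, 46, 45, 2, 1, 47, 8, 5, 59, 34, 3, 51, 24, 9, 43, 18, 0]] 106168319 = true := by decide +kernel

theorem sg1 : chkKey 3510 12 row 12 p1 keys [1024, 0] = true := by decide +kernel

theorem cm1 : chkC 3510 12 gens p1 [7] [3, 8] = true := by decide +kernel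

theorem bd13 : chkB 3510 12 row 12 p13 [(false, 3), (true, 1), (true, 2), (true, 3)]
    [.cell [(false, 2), (true, 1), (true, 0)], .base 0 336 6, .cell [(false, 5), (false, 7), (true, 2), (true, 4), (true, 0), (true, 8), (true, 9), (true, 3), (true, 1)], .cnt 0 [35, 36, 37, 38, 33, 34, 40, 32, 39, 30, 31, 44, 29, 41, 42, 28, 26], .cnt 2 [20, 18, 19, 21, 16, 22, 17, 14, 15], .cell [(true, 23), (false, 28), (true, 6), (true, 36), (true, 34), (true, 30), (true, 27)], .cnt 0 [6, 5, 7, 4, 2], .cnt 0 [31, 32, 30, 33, 29, 28, 34, 27, 25, 14, 24, 35, 4], .cnt 2 [41, 44, 43, 46, 45, 40, 39, 37, 48, 35], .cell [(true, 6), (true, 54), (true, 19), (true, 27)], .cnt 0 [0], .cell [(true, 68), (true, 44), (false, 67), (false, 29)], .cnt 0 [0], .cell [(true, 46), (false, 61), (false, 64)], .cnt 0 [0], .fin [33, 69, 43, 71, 4, 65, 0, 64, 66, 62, 63, 67, 2, 32, 41, 42, 59, 27, 28, 60, 55, 58, 24, 25, 14, 31, 13, 70, 15, 21, 12, 10, 26, 40, 9, 11, 8, 22, 20, 30, 57, 51, 53, 50, 7, 37, 19]] 431 = true := by decide +kernel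

theorem sg13 : chkKey 3510 12 row 12 p13 keys [1680, 2448] = true := by decide +kernel

theorem cm13 : chkC 3510 12 gens p13 [7, 2, 4] [1, 3, 5] = true := by decide +kernel

theorem bd25 : chkB 3510 12 row 12 p25 [(false, 1), (false, 2), (false, 4), (true, 1), (true, 2), (true, 3)]
    [.cell [(false, 2), (false, 1), (false, 0), (false, 3)], .base 0 36 8, .cell [(false, 6), (false, 5), (false, 4), (false, 3), (false, 10), (true, 9)], .base 0 2194 8, .cell [(false, 16), (false, 9), (false, 2), (true, 15), (true, 20), (true, 19), (true, 18), (true, 4), (true, 0), (true, 14), (true, 12)], .cnt 0 [3, 4, 1], .cell [(false, 13), (false, 8), (false, 7), (true, 2), (true, 22), (true, 6), (true, 15), (true, 19), (true, 10)], .cnt 0 [2], .cell [(false, 22), (false, 12), (false, 15), (false, 11), (false, 6)], .cnt 0 [2, 0], .cell [(false, 25), (false, 15), (false, 24), (false, 19), (false, 13), (false, 3)], .cnt 0 [0], .cell [(false, 30), (true, 9), (false, 5), (false, 3), (true, 20), (true, 31), (true, 11),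 (true, 29), (true, 16), (true, 18), (true, 17), (true, 14)], .cnt 0 [2, 0], .cell [(false, 28), (true, 12), (true, 8), (true, 30), (true, 20), (true, 1), (true, 34), (true, 21), (true, 14), (true, 26), (true, 23), (true, 27), (true, 33), (true, 32), (true, 19), (true, 6), (false, 3)], .cnt 0 [3, 1, 0], .cell [(false, 37), (true, 16), (false, 2), (true, 5), (true, 10), (true, 22), (true, 12), (true, 32), (true, 20), (true, 23), (false, 1), (true, 21), (true, 38), (true, 31), (true, 28), (true, 19), (true, 18)], .cnt 0 [1, 0], .cell [(true, 17), (false, 28), (true, 1), (true, 30)], .cnt 0 [0], .cell [(true, 6), (false, 24), (false, 23), (false, 10), (true, 43)], .cnt 0 [0], .cell [(false, 39), (false, 28), (false, 37), (false, 25), (false, 45), (false, 9)], .cnt 0 [0], .cell [(false, 40), (false, 34), (false, 27), (true, 7), (false, 11), (true, 19), (true, 47), (false, 25)], .cnt 0 [0], .cell [(false, 43), (true, 4), (false, 42), (false, 16), (true, 13), (false, 49)], .cnt 0 [0], .fin [15, 28, 25, 18,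 23, 11, 50, 51, 49, 2, 0, 35, 8, 33, 32, 4, 43, 20, 36, 6, 47, 38, 41, 37, 40, 44, 34, 31, 29, 45, 42, 52, 46]] 63 = true := by decide +kernel

theorem sg25 : chkKey 3510 12 row 12 p25 keys [2240, 1792] = true := by decide +kernel

theorem cm25 : chkC 3510 12 gens p25 [5, 2, 8] [3, 4, 6, 7] = true := by decide +kernel

theorem bd37 : chkB 3510 12 row 12 p37 [(false, 2), (false, 3), (false, 4), (false, 6), (true, 1), (true, 2), (true, 3)]
    [.cell [(false, 0), (false, 1), (false, 3)], .base 0 72 12, .cell [(false, 10), (false, 0), (true, 14), (true, 13), (true, 6), (true, 4), (true, 11), (true, 9), (true, 1), (true, 7), (true, 3), (true, 15), (true, 8)], .cnt 0 [6, 8, 5, 7, 2], .cell [(true, 18), (true, 2), (false, 14), (true, 13), (true, 17)], .cnt 0 [4, 3, 2, 0], .cell [(true, 6), (false, 25), (true, 2), (true, 24), (true, 22), (true, 18), (true, 26), (true, 17), (true, 16), (true, 19), (true, 15)], .cnt 0 [5, 4, 6, 2, 3], .cell [(false, 28), (true, 3), (true, 14), (true, 9), (true, 22), (true,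 20), (true, 30), (true, 32), (true, 21)], .cnt 0 [2, 3, 0], .cnt 10 [5, 4, 2], .cnt 8 [57, 63, 64, 56, 61, 62, 55, 58, 50, 53, 26, 42], .cnt 0 [3], .cell [(true, 20), (true, 14), (true, 34), (false, 50), (false, 0)], .cnt 0 [0], .cell [(true, 7), (false, 42), (false, 40), (true, 25)], .cnt 0 [0], .fin [4, 21, 33, 39, 19, 28, 55, 54, 41, 42, 46, 26, 2, 18, 50, 38, 0, 43, 45, 56, 32, 48, 52, 27, 47, 49, 15, 11, 10, 22, 14, 9, 12, 24, 51, 37, 16, 44, 17, 8, 5]] 287 = true := by decide +kernel

theorem sg37 : chkKey 3510 12 row 12 p37 keys [2016, 1728] = true := by decide +kernel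

theorem cm37 : chkC 3510 12 gens p37 [7, 5, 1] [4, 3, 2, 4, 3, 8] = true := by decide +kernel

theorem bd49 : chkB 3510 12 row 12 p49 [(false, 1), (false, 2), (false, 3), (false, 6), (true, 1), (true, 2), (true, 3)]
    [.cell [(true, 3), (false, 4), (false, 5)], .cnt 0 [4, 5, 3], .cell [(false, 6), (false, 1), (true, 5), (true, 4), (false, 2)], .cnt 0 [63, 65, 66, 69, 54, 58, 67, 71, 46, 61, 77], .cell [(true, 9), (true, 14)], .base 0 30 12, .cell [(false, 9), (true, 23), (false, 1), (false, 4), (true, 30), (true, 6), (true, 11)], .cnt 0 [4, 3, 2, 0], .cell [(false, 34), (false, 8), (false, 3), (true, 12), (true, 13), (true, 36), (false, 38), (true, 35)], .cnt 0 [4, 3, 1], .cell [(true, 23), (false, 12), (false, 40), (true, 2), (true, 17), (true, 19)], .cnt 0 [2, 0], .cell [(true, 25), (false, 18), (false, 5), (true, 23), (true, 20)], .cnt 0 [2, 0], .cell [(true, 33), (false, 23), (true, 13), (true, 46)], .cnt 0 [0], .cell [(true, 40), (true, 9), (true, 15), (false, 3), (true, 48), (true, 6), (true,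 20), (true, 24), (true, 44), (true, 28), (true, 27), (true, 21)], .cnt 0 [0], .cell [(false, 50), (false, 26), (true, 45), (false, 21), (false, 17), (true, 23), (false, 16)], .cnt 0 [0], .cell [(true, 6), (true, 43), (false, 26), (false, 29)], .cnt 0 [0], .cell [(true, 45), (false, 33), (true, 0), (false, 31), (false, 50), (true, 28)], .cnt 0 [0], .cell [(true, 47), (false, 34), (true, 23), (true, 18), (true, 51), (false, 8), (true, 26)], .cnt 0 [0], .cell [(true, 23), (true, 2), (false, 30), (true, 8)], .cnt 0 [0], .fin [22, 55, 27, 18, 15, 59, 10, 40, 39, 2, 8, 12, 33, 36, 37, 35, 34, 4, 32, 0, 30, 21, 31, 56, 29, 38, 6, 51, 60, 49, 25, 14, 17]] 107 = true := by decide +kernel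

theorem sg49 : chkKey 3510 12 row 12 p49 keys [2708, 2076] = true := by decide +kernel

theorem cm49 : chkC 3510 12 gens p49 [2, 5, 0, 8] [1, 4, 7, 3, 6] = true := by decide +kernel

end Cfsg.Agent.H123.Cls.FiDat
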