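import Cfsg.Agent.H123.Cls.FiRep

set_option autoImplicit false
set_option maxRecDepth 1000000
set_option exponentiation.threshold 5000

namespace Cfsg.Agent.H123.Cls.FiDat

open Cfsg.Agent.H123.Cls
open Cfsg.Agent.H494.F22.Row (row)

theorem bd10 : chkB 3510 12 row 12 p10 [(false, 1), (false, 2), (true, 1), (true, 2)]
    [.cell [(false, 1), (false, 2)], .base 0 1 4, .cell [(false, 0), (true, 5), (true, 6), (true, 2)], .cnt 0 [40, 32, 38, 36, 24, 34, 44], .cell [(true, 1), (false, 14)], .base 0 51 4, .cell [(true, 17), (false, 13), (false, 2), (false, 1), (true, 14), (true, 11)], .base 0 914 4, .cell [(false, 2), (true, 16), (true, 8), (true, 6), (false, 23), (true, 3), (true, 1), (true, 21), (true, 5), (false, 25), (true, 7)], .cnt 0 [18, 17, 19, 16, 20, 15, 14, 13, 22, 12, 10], .cnt 1 [10, 9, 11, 8, 7, 6, 5, 3], .cnt 1 [23, 22, 21, 24, 20, 19, 25, 17, 16, 18], .cell [(true, 24), (true, 9), (false, 33), (true, 17), (false, 30)], .cnt 0 [0], .cnt 20 [3, 2], .cell [(true, 4), (true,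 27), (true, 48), (true, 1)], .cnt 0 [0], .cell [(true, 14), (false, 57), (false, 37), (true, 34), (true, 56), (true, 38)], .cnt 0 [0], .cnt 50 [6, 5], .cell [(true, 14), (true, 37), (false, 45), (true, 63)], .cnt 0 [0], .fin [9, 3, 58, 65, 27, 40, 50, 6, 4, 10, 29, 47, 62, 42, 39, 44, 0, 60, 28, 49, 45, 38, 20, 21, 63, 37, 48, 17, 18, 16, 15, 66, 43, 19, 26, 25, 61, 56, 55, 35, 34]] 92159 = true := by decide +kernel

theorem sg10 : chkKey 3510 12 row 12 p10 keys [2688, 0] = true := by decide +kernel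

theorem cm10 : chkC 3510 12 gens p10 [3, 5, 2, 7, 3] [4, 6, 8, 7, 3, 5, 4] = true := by decide +kernel

theorem bd22 : chkB 3510 12 row 12 p22 [(false, 1), (false, 2), (false, 3), (true, 1), (true, 2)]
    [.cell [(false, 0), (false, 2), (false, 3)], .base 0 4 6, .cell [(false, 5), (false, 0), (true, 6), (true, 4), (true, 1)], .base 0 18 6, .cell [(false, 9), (false, 8), (true, 14), (false, 4), (false, 16), (true, 2)], .base 0 1055 6, .cell [(false, 22), (false, 4), (false, 18), (true, 10), (true, 19)], .cnt 0 [2, 1, 0], .cell [(true, 27), (false, 7), (true, 2), (true, 26), (true, 23), (true, 21), (true, 22), (true, 14), (true, 9), (true, 15)], .cnt 0 [6, 7, 5, 8, 3, 2], .cnt 1 [29, 28, 30, 27, 31, 26, 25, 32, 23, 33, 21, 13, 17, 24, 10], .cnt 4 [18, 16, 17, 20, 15, 14, 8], .cnt 0 [7, 5], .cell [(false, 57), (true, 20), (false, 54), (false, 40)], .cnt 0 [0], .cell [(true, 6), (false, 40), (true, 24), (false, 52), (false, 49)], .cnt 0 [0], .cell [(true, 26), (false, 56), (false,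 41), (false, 49), (true, 51)], .cnt 0 [0], .fin [61, 39, 34, 6, 46, 2, 60, 59, 0, 35, 53, 48, 45, 7, 49, 41, 4, 58, 12, 13, 14, 44, 28, 57, 29, 55, 24, 11, 52, 33, 38, 63, 51, 25, 26, 21, 9, 66, 56, 31, 27]] 186623 = true := by decide +kernel

theorem sg22 : chkKey 3510 12 row 12 p22 keys [2816, 1296] = true := by decide +kernel

theorem cm22 : chkC 3510 12 gens p22 [1, 7, 0, 5, 2, 1] [3, 2, 6, 7, 3, 5, 4, 5, 7, 3, 4, 8] = true := by decide +kernel

theorem bd34 : chkB 3510 12 row 12 p34 [(false, 1), (true, 1), (true, 2), (true, 3)]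
    [.cell [(false, 1), (false, 0), (true, 2)], .cnt 0 [42, 43, 47, 40, 45, 39, 46, 38, 44, 35, 41, 48, 49, 50, 51, 36], .cell [(true, 15), (false, 19), (true, 18)], .cnt 0 [9, 7, 8, 10, 6], .cell [(true, 19), (false, 24), (true, 25), (false, 1)], .base 0 32 11, .cell [(true, 28), (false, 10), (false, 35), (false, 8)], .cnt 0 [4, 2, 0], .cell [(true, 25), (false, 10), (false, 39), (false, 20), (true, 2)], .cnt 0 [2, 1, 0], .cell [(true, 37), (false, 13), (false, 9), (true, 24)], .cnt 0 [2, 0], .cell [(true, 32), (false, 17), (true, 25), (true, 46), (true, 12), (true, 21), (true, 9), (true, 5)], .cnt 0 [0], .cell [(true, 41), (false, 22), (false, 48), (false, 7), (false, 20)], .cnt 0 [2, 0], .cell [(true, 43), (false, 53), (false, 26), (false, 22), (false, 6)], .cnt 0 [0], .cell [(true, 47), (true, 0), (true, 5), (false, 26), (true, 28)], .cnt 0 [0], .cell [(true, 42), (false, 22), (false, 21), (false, 10)], .cnt 0 [0], .cell [(true, 53), (true, 4), (true, 38), (false, 23), (true,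 28)], .cnt 0 [0], .cell [(true, 44), (false, 27), (true, 6), (true, 40)], .cnt 0 [0], .cell [(true, 47), (false, 33), (false, 28), (true, 0)], .cnt 0 [0], .fin [26, 22, 18, 13, 44, 8, 2, 34, 64, 4, 41, 6, 0, 28, 32, 31, 65, 38, 15, 30, 37, 25, 33, 10, 42, 55, 63, 29, 61, 57, 36, 21, 35, 58, 12, 60, 53, 51, 20]] 21 = true := by decide +kernel

theorem sg34 : chkKey 3510 12 row 12 p34 keys [2244, 2244] = true := by decide +kernel

theorem cm34 : chkC 3510 12 gens p34 [3, 2, 8, 6, 0] [1, 8, 7, 3, 4, 5] = true := by decide +kernel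

theorem bd46 : chkB 3510 12 row 12 p46 [(false, 1), (false, 2), (false, 7), (true, 1), (true, 2), (true, 3)]
    [.cell [(true, 4), (false, 5)], .cnt 0 [2], .cell [(false, 2), (false, 3), (false, 0), (false, 5)], .base 0 455 12, .cell [(false, 8), (true, 13), (true, 10), (true, 6), (false, 18), (true, 3), (true, 11), (true, 15), (true, 7), (true, 2), (true, 9), (true, 17), (true, 0), (true, 5), (true, 4)], .cnt 0 [15, 16, 14, 17, 13, 18, 12, 11, 8, 10], .cnt 0 [18, 17, 19, 16, 20, 15, 14, 21, 11, 10, 7, 12], .cnt 3 [8, 9, 7, 6, 4], .cnt 0 [26, 27, 25, 23, 22, 28, 24], .cell [(true, 16), (true, 1), (false, 46), (false, 45), (true, 51)], .cnt 0 [0], .cell [(true, 20), (false, 46), (false, 47), (true, 34)], .cnt 0 [0], .cell [(true, 5), (true, 26), (false, 46), (false, 40)], .cnt 0 [0], .fin [54, 17, 57, 39, 4, 44, 43, 56, 2, 16, 48, 47, 42, 52, 0, 59, 46, 37, 38, 49, 29, 28, 50, 10, 26, 12, 15, 35, 11, 27, 45, 41, 51, 36, 13, 58, 24, 33, 20, 9, 25, 14, 8, 7]] 27 = true := by decide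 +kernel

theorem sg46 : chkKey 3510 12 row 12 p46 keys [2256, 2156] = true := by decide +kernel

theorem cm46 : chkC 3510 12 gens p46 [2, 8, 4, 0] [1, 7, 3, 5] = true := by decide +kernel

theorem bd58 : chkB 3510 12 row 12 p58 []
    [.cell [], .base 0 0 1, .base 0 1 1, .cell [(false, 1), (false, 0)], .cnt 0 [0, 96], .cell [(false, 0), (true, 4), (false, 1)], .base 0 35 1, .cell [(true, 4), (false, 0)], .cnt 0 [12, 0], .cell [(false, 3), (false, 1), (true, 9), (false, 0)], .base 0 351 1, .cell [(true, 4), (true, 0)], .base 0 67 1, .cell [(false, 12), (false, 2), (false, 0), (false, 5), (true, 13)], .cnt 0 [3, 4, 5, 0], .cell [(true, 3), (false, 12), (false, 7), (false, 5), (true, 17), (true, 18), (true, 14)], .cnt 0 [2, 0], .cell [(false, 20), (false, 10), (true, 1), (false, 5), (false, 6), (true, 13), (true, 8), (false, 4)], .base 0 29 1, .cell [(false, 12), (true, 6), (false, 3), (false, 15), (true, 0), (false, 19), (false, 2)], .cnt 0 [12, 13, 11, 14, 10, 9, 8, 6, 7], .cell [(true,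 6), (false, 22), (true, 28), (true, 17), (true, 13), (true, 10), (true, 27), (true, 20), (false, 25)], .cnt 0 [11, 10, 12, 9, 8, 7, 13, 5], .cnt 10 [14, 15, 13, 16, 12, 11, 4, 10], .cell [(true, 23), (true, 15), (true, 7), (true, 33), (false, 46), (true, 27)], .cnt 0 [4, 3, 5], .cell [(true, 6), (true, 13), (true, 28), (true, 54)], .cnt 0 [0], .cell [(false, 55), (true, 13), (true, 20), (true, 4), (true, 30), (true, 48)], .cnt 0 [0], .cell [(true, 14), (true, 33), (true, 23), (true, 6), (false, 54), (true, 52), (false, 50)], .cnt 0 [0], .cell [(true, 12), (true, 35), (true, 24), (true, 8), (false, 56)], .cnt 0 [0], .cell [(true, 21), (true, 0), (false, 49), (false, 46), (true, 61)], .cnt 0 [0], .cnt 22 [5, 4], .cell [(true, 64), (true, 25), (true, 20)], .cnt 0 [0], .fin [52, 64, 16, 3, 48, 33, 60, 43, 25, 12, 6, 32, 42, 8, 57, 2, 0, 10, 14, 41, 31, 55, 45, 22, 21, 29, 4, 51, 67, 15, 62, 24, 39, 53, 36, 30, 20]] 129123503308799 = true := by decide +kernel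

theorem sg58 : chkKey 3510 12 row 12 p58 keys [0, 0] = true := by decide +kernel

theorem cm58 : chkC 3510 12 gens p58 [0] [0] = true := by decide +kernel

end Cfsg.Agent.H123.Cls.FiDat
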