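import Cfsg.Agent.H123.Cls.FiRep

set_option autoImplicit false
set_option maxRecDepth 1000000
set_option exponentiation.threshold 5000

namespace Cfsg.Agent.H123.Cls.FiDat

open Cfsg.Agent.H123.Cls
open Cfsg.Agent.H494.F22.Row (row)

theorem bd11 : chkB 3510 12 row 12 p11 [(false, 1), (false, 2), (true, 1), (true, 2)]
    [.base 0 26 4, .cell [(false, 1), (false, 0), (false, 5), (false, 7)], .cnt 0 [28, 30, 24, 27, 36, 0, 31], .cell [(true, 13), (false, 12), (false, 3), (false, 5), (false, 0), (false, 4), (true, 11)], .base 0 42 4, .cell [(true, 8), (true, 17), (false, 3), (false, 2), (false, 16)], .base 0 2958 4, .cell [(false, 8), (true, 22), (true, 3), (true, 0), (false, 16), (false, 15), (false, 10), (true, 21), (true, 20), (false, 14), (false, 12), (true, 19), (false, 13), (false, 11), (true, 7), (true, 5)], .cnt 0 [8, 7, 6, 5, 4, 9], .cell [(false, 7), (true, 22), (true, 5), (false, 29), (true, 30), (true, 14), (true, 13), (true, 12), (true, 10), (true, 8)], .cnt 0 [4, 5, 3, 1], .cnt 0 [24, 23, 22, 21, 20, 25, 26, 18, 15,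 27], .cnt 1 [14, 12, 13, 11, 15], .cell [(true, 13), (false, 28), (false, 46), (false, 50), (true, 4), (false, 51)], .cnt 0 [2, 0], .cell [(true, 4), (true, 16), (true, 19), (false, 38), (false, 53)], .cnt 0 [0], .cell [(true, 27), (true, 15), (true, 48), (false, 52)], .cnt 0 [0], .cell [(true, 28), (false, 40), (true, 19), (false, 56)], .cnt 0 [0], .fin [27, 59, 7, 34, 13, 51, 43, 36, 2, 37, 33, 42, 12, 54, 4, 39, 41, 0, 46, 57, 26, 11, 23, 22, 58, 21, 32, 38, 18, 25, 10, 44, 31, 52, 19, 61, 56, 50, 20]] 221183 = true := by decide +kernel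

theorem sg11 : chkKey 3510 12 row 12 p11 keys [2176, 0] = true := by decide +kernel

theorem cm11 : chkC 3510 12 gens p11 [1, 5, 3] [0, 2, 4, 6] = true := by decide +kernel

theorem bd23 : chkB 3510 12 row 12 p23 [(false, 1), (false, 2), (false, 3), (true, 1)]
    [.cell [(false, 0), (false, 3)], .base 0 1 6, .cell [(false, 4), (true, 7), (false, 8), (true, 5), (true, 3), (false, 9)], .base 0 183 6, .cell [(false, 10), (false, 8), (false, 3), (false, 2), (false, 9), (false, 17)], .base 0 1581 6, .cell [(true, 22), (false, 11), (false, 4), (true, 19), (true, 18), (true, 5), (true, 12), (true, 17), (true, 3)], .cnt 0 [4, 3, 5, 0, 1], .cell [(true, 28), (true, 4), (true, 18), (true, 16), (true, 17), (true, 23), (true, 25), (true, 10), (true, 9), (true, 11), (false, 30), (true, 24)], .cnt 0 [29, 28, 31, 27, 30, 26, 32, 24, 34, 25, 23, 33, 21, 18], .cnt 1 [6, 7, 5, 4, 2], .cnt 0 [4, 2, 3], .cell [(true, 16), (false, 38), (false, 48), (true, 6)], .cnt 0 [0], .cell [(true, 20), (false, 48), (true, 7), (true, 4), (false, 52)], .cnt 0 [0],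 .cell [(true, 21), (false, 50), (false, 33), (false, 51), (false, 34), (true, 44)], .cnt 0 [0], .cell [(true, 27), (false, 45), (false, 51), (true, 31), (false, 4), (true, 52), (true, 50)], .cnt 0 [0], .cell [(true, 24), (false, 56), (false, 38), (false, 59)], .cnt 0 [0], .fin [35, 60, 12, 16, 51, 42, 55, 0, 8, 6, 53, 4, 48, 17, 46, 2, 37, 39, 10, 50, 41, 54, 47, 49, 43, 28, 30, 56, 22, 15, 31, 25, 27, 58, 36, 24, 57, 29, 21, 23]] 311039 = true := by decide +kernel

theorem sg23 : chkKey 3510 12 row 12 p23 keys [1520, 2088] = true := by decide +kernel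

theorem cm23 : chkC 3510 12 gens p23 [3, 6, 7, 2, 3] [5, 4, 7] = true := by decide +kernel

theorem bd35 : chkB 3510 12 row 12 p35 [(false, 3), (false, 6), (true, 1), (true, 2), (true, 3)]
    [.cell [(false, 2), (false, 0), (false, 4)], .base 0 30 12, .cell [(false, 8), (false, 3), (false, 7), (true, 0), (true, 11), (true, 14), (true, 10), (true, 15), (true, 13), (true, 2)], .cnt 0 [3, 2, 1], .cell [(false, 13), (false, 6), (true, 2), (true, 14), (true, 10), (true, 9), (true, 17), (true, 18), (true, 19)], .cnt 0 [2, 0], .cell [(false, 18), (true, 5), (false, 1), (true, 10), (true, 15), (true, 22), (true, 20), (true, 14), (true, 16), (true, 8), (true, 11), (true, 9)], .cnt 0 [2, 0], .cell [(false, 21), (true, 4), (true, 1), (true, 12), (true, 18), (true, 17), (true, 25), (true, 24), (true, 13), (true, 23), (true, 19), (true, 10), (false, 8), (true, 20), (true, 11), (false, 7)], .cnt 0 [2, 0], .cell [(true, 10), (false, 24), (false, 7), (true, 4), (true, 26), (true, 27), (false, 6), (true, 20), (true, 23), (true, 22)], .cnt 0 [2,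 0], .cell [(false, 20), (false, 30), (false, 4), (false, 7), (true, 27), (false, 14), (true, 23), (true, 16), (true, 1)], .cnt 0 [2, 0], .cell [(true, 16), (false, 28), (false, 24), (false, 7), (false, 33), (true, 30)], .cnt 0 [0], .cell [(false, 36), (true, 0), (false, 26), (true, 19), (true, 6), (true, 30), (true, 12)], .cnt 0 [2, 0], .cell [(false, 30), (false, 25), (false, 1), (true, 22), (true, 29), (true, 33), (true, 39)], .cnt 0 [0], .cell [(false, 36), (false, 26), (false, 32), (false, 11), (true, 17), (true, 39)], .cnt 0 [0], .cell [(true, 9), (false, 38), (true, 2), (false, 42)], .cnt 0 [0], .cell [(false, 30), (false, 43), (false, 7), (true, 28), (true, 33), (true, 38), (true, 21), (true, 18)], .cnt 0 [0], .cell [(false, 33), (true, 2), (false, 45), (true, 30), (false, 26), (false, 11), (true, 47)], .cnt 0 [0], .cell [(true, 46), (true, 30), (false, 37)], .cnt 0 [0], .fin [30, 34, 27, 21, 24, 13, 18, 49, 4, 39, 44, 2, 46, 10, 15, 50, 8, 6, 38, 0, 36, 41, 43, 47, 40, 45, 33, 42, 52, 37, 26, 17, 51, 29, 23, 20]] 71 = true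 := by decide +kernel

theorem sg35 : chkKey 3510 12 row 12 p35 keys [1944, 2592] = true := by decide +kernel

theorem cm35 : chkC 3510 12 gens p35 [7, 5, 1] [2, 4, 3] = true := by decide +kernel

theorem bd47 : chkB 3510 12 row 12 p47 [(false, 1), (false, 3), (false, 5), (true, 1), (true, 2), (true, 3)]
    [.cell [(false, 2), (false, 1), (false, 0), (false, 3)], .base 0 571 12, .cell [(false, 5), (false, 1), (false, 14), (false, 4), (true, 10), (true, 15)], .base 0 1127 12, .cnt 30 [8, 7, 6, 0, 9], .cell [(false, 20), (false, 10), (false, 18), (true, 0), (false, 15), (true, 32)], .cnt 0 [0], .cell [(false, 31), (false, 33), (false, 11), (true, 6), (true, 9), (true, 35), (true, 18), (true, 15), (true, 30), (true, 14)], .cnt 0 [0], .cell [(false, 25), (false, 24), (true, 4), (true, 32), (true, 18), (true, 19), (true, 22), (true, 9), (true, 14), (true, 27), (true, 20)], .cnt 0 [0], .cell [(false, 35), (false, 26), (false, 19), (false, 16), (false, 34), (true, 27)], .cnt 0 [0], .cell [(false, 32), (true, 6), (true, 4), (false, 41),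 (false, 0)], .cnt 0 [0], .cell [(true, 13), (true, 4), (false, 35), (true, 0), (true, 39)], .cnt 0 [0], .cell [(false, 37), (false, 32), (false, 27), (false, 20), (true, 40), (true, 39), (false, 34)], .cnt 0 [0], .cell [(false, 37), (false, 28), (false, 23), (false, 35), (true, 22), (true, 46)], .cnt 0 [0], .fin [20, 47, 49, 14, 4, 27, 38, 22, 26, 0, 10, 21, 12, 31, 40, 44, 28, 6, 8, 2, 35, 32, 48, 43, 24, 41, 34, 16, 42, 30, 39, 25, 23, 37, 18, 45, 17]] 59 = true := by decide +kernel

theorem sg47 : chkKey 3510 12 row 12 p47 keys [2040, 2504] = true := by decide +kernel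

theorem cm47 : chkC 3510 12 gens p47 [4, 8, 0] [1, 7, 3] = true := by decide +kernel

end Cfsg.Agent.H123.Cls.FiDat
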