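import Cfsg.Agent.H123.Cls.FiRep

set_option autoImplicit false
set_option maxRecDepth 1000000
set_option exponentiation.threshold 5000

namespace Cfsg.Agent.H123.Cls.FiDat

open Cfsg.Agent.H123.Cls
open Cfsg.Agent.H494.F22.Row (row)

theorem bd2 : chkB 3510 12 row 12 p2 [(false, 1)]
    [.cell [(false, 0)], .base 0 1 2, .cell [(false, 3), (true, 1), (true, 0)], .base 0 5 2, .cell [(true, 6), (false, 4), (false, 1)], .cnt 0 [0, 12], .cell [(false, 3), (false, 0), (false, 9), (false, 1)], .base 0 42 2, .cell [(false, 10), (false, 1), (true, 3), (true, 6), (false, 12), (true, 7)], .base 0 8 2, .cell [(false, 12), (false, 9), (false, 3), (false, 1), (false, 15)], .cnt 0 [0], .cell [(false, 15), (false, 12), (true, 0), (false, 5), (false, 2), (false, 17)], .base 0 487 2, .cell [(true, 10), (false, 8), (false, 3), (true, 0), (true, 5), (true, 1)], .cnt 0 [10, 9, 11, 8, 7, 6, 5, 0], .cnt 1 [19, 20, 18, 17, 21, 16, 14, 15, 22, 3, 4, 8, 10, 11], .cnt 0 [5, 4, 3, 1], .cell [(true, 17), (false, 42), (false, 44), (true, 25), (true, 33),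 (true, 27), (true, 3)], .cnt 0 [2, 0], .cell [(true, 15), (false, 39), (false, 48), (false, 41), (true, 36)], .cnt 0 [2, 0], .cell [(true, 22), (false, 39), (true, 31), (true, 49), (true, 9), (true, 4), (true, 47)], .cnt 0 [2, 0], .cell [(true, 23), (true, 32), (false, 45), (true, 11), (true, 52)], .cnt 0 [2, 0], .cell [(true, 13), (true, 29), (false, 1), (false, 10), (true, 37), (true, 48)], .cnt 0 [0], .cell [(true, 30), (false, 50), (false, 47), (false, 41), (true, 16), (false, 6), (true, 59), (true, 56)], .cnt 0 [0], .cnt 45 [1], .cell [(true, 32), (true, 18), (true, 1), (false, 45), (true, 52)], .cnt 0 [0], .cell [(true, 32), (true, 43), (true, 20), (false, 60)], .cnt 0 [0], .fin [64, 23, 16, 13, 19, 10, 4, 46, 59, 7, 53, 45, 5, 24, 51, 38, 0, 37, 36, 56, 57, 48, 44, 62, 2, 68, 43, 63, 54, 34, 66, 49, 42, 33, 9]] 36787322879 = true := by decide +kernel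

theorem sg2 : chkKey 3510 12 row 12 p2 keys [2816, 0] = true := by decide +kernel

theorem cm2 : chkC 3510 12 gens p2 [8, 6, 5, 4, 3, 2, 7, 0, 4, 2, 2, 3, 4, 5, 6, 8] [3, 4, 6, 7, 8, 7, 3, 2, 4] = true := by decide +kernel

theorem bd14 : chkB 3510 12 row 12 p14 [(false, 1), (false, 2), (false, 3), (true, 1), (true, 2), (true, 3)]
    [.cell [(false, 2), (true, 1)], .base 0 6 6, .cell [(false, 5), (false, 3), (false, 0), (true, 4), (true, 7), (true, 9)], .base 0 173 6, .cell [(false, 8), (false, 7), (false, 15), (true, 12), (true, 11), (true, 5), (true, 0), (true, 16), (true, 4), (true, 1), (true, 14), (true, 3), (true, 2)], .cnt 0 [3, 4, 1], .cell [(true, 17), (true, 1), (true, 15), (true, 13), (true, 9), (true, 11), (true, 7), (true, 5), (true, 8), (true, 16), (true, 14), (true, 4), (true, 6), (true, 12)], .cnt 0 [19, 20, 18, 21, 17, 16, 22, 15, 23], .cell [(true, 6), (false, 17), (true, 29), (true, 30), (true, 22), (true, 26), (true, 24), (true, 18)], .cnt 0 [3, 4, 2], .cell [(true, 12), (false, 19), (true, 1), (false,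 33), (false, 16), (false, 15), (true, 32), (true, 30), (true, 29)], .cnt 0 [2, 0], .cnt 27 [10, 11, 9, 8], .cell [(true, 2), (true, 18), (false, 5), (true, 22), (true, 9), (true, 41), (true, 39), (true, 35)], .cnt 0 [1, 0], .cell [(true, 41), (true, 5), (false, 29), (true, 21), (true, 12)], .cnt 0 [0], .cell [(true, 6), (true, 24), (false, 38), (false, 28), (false, 27), (false, 45), (true, 44)], .cnt 0 [0], .cell [(true, 20), (true, 10), (false, 40), (false, 32), (true, 48), (true, 36)], .cnt 0 [0], .cell [(true, 28), (false, 14), (true, 32), (true, 49), (true, 18), (true, 50), (true, 46), (false, 7), (true, 43), (true, 39)], .cnt 0 [0], .cell [(true, 18), (true, 13), (true, 29), (true, 50), (false, 51), (true, 16)], .cnt 0 [0], .cell [(true, 25), (true, 13), (false, 42)], .cnt 0 [0], .fin [23, 37, 55, 20, 13, 18, 54, 33, 0, 49, 6, 4, 8, 43, 2, 15, 10, 34, 40, 42, 32, 41, 48, 56, 52, 38, 51, 31, 17, 45, 29, 47, 36]] 6911 = true := by decide +kernel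

theorem sg14 : chkKey 3510 12 row 12 p14 keys [1920, 720] = true := by decide +kernel

theorem cm14 : chkC 3510 12 gens p14 [4, 7, 2] [1, 3, 8] = true := by decide +kernel

theorem bd26 : chkB 3510 12 row 12 p26 [(false, 1), (false, 2), (false, 4), (true, 1), (true, 2), (true, 3)]
    [.cell [(false, 1), (false, 2), (false, 3)], .base 0 756 8, .cell [(false, 1), (false, 9), (false, 0), (true, 6), (true, 4)], .cnt 0 [8, 4], .cell [(false, 5), (false, 12), (true, 1), (true, 10), (true, 9), (true, 7), (true, 6)], .base 0 1917 8, .cell [(false, 6), (false, 21), (false, 10), (true, 1), (true, 13), (true, 3), (true, 17), (false, 9), (true, 12), (true, 7), (true, 5)], .cnt 0 [3, 4, 2, 0], .cnt 0 [5, 4, 2, 3], .cell [(true, 1), (true, 5), (true, 15), (false, 19), (true, 16), (true, 31), (true, 30), (false, 18), (true, 14)], .cnt 0 [1, 0], .cell [(false, 12), (true, 10), (false, 22), (false, 6), (false, 5), (true, 24), (false, 21), (true, 25), (false, 1), (true, 17), (true, 35), (true, 15), (true, 33), (true, 29), (true, 19), (true,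 14)], .cnt 0 [2], .cell [(true, 38), (true, 24), (true, 8), (true, 37), (true, 12), (true, 21), (true, 20), (true, 18), (false, 3)], .cnt 0 [2, 0], .cell [(false, 39), (false, 23), (false, 36), (false, 18), (true, 32), (false, 26)], .cnt 0 [0], .cell [(false, 37), (false, 34), (true, 8), (false, 32), (true, 16), (true, 22)], .cnt 0 [0], .cell [(true, 0), (false, 42), (false, 7), (true, 18), (true, 31), (true, 26), (true, 36), (false, 10), (true, 5)], .cnt 0 [0], .cell [(false, 41), (false, 29), (false, 28), (false, 37), (false, 26)], .cnt 0 [0], .cell [(false, 29), (true, 2), (false, 48), (false, 9), (false, 19), (true, 25), (true, 27)], .cnt 0 [0], .cell [(true, 36), (false, 41), (true, 21), (false, 40), (true, 33), (true, 49)], .cnt 0 [0], .fin [27, 23, 15, 39, 13, 18, 50, 52, 4, 30, 46, 36, 48, 34, 2, 8, 22, 35, 41, 31, 10, 6, 32, 43, 26, 33, 47, 51, 29, 0, 53, 45, 44, 38, 25]] 255 = true := by decide +kernel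

theorem sg26 : chkKey 3510 12 row 12 p26 keys [2112, 768] = true := by decide +kernel

theorem cm26 : chkC 3510 12 gens p26 [1, 7, 6, 3, 0] [1, 2, 4, 3, 5, 4] = true := by decide +kernel

theorem bd38 : chkB 3510 12 row 12 p38 [(false, 1), (false, 2), (false, 3), (false, 4), (false, 6), (true, 1), (true, 2), (true, 3)]
    [.cell [(false, 2), (false, 0), (false, 1), (false, 4)], .base 0 230 12, .cell [(false, 8), (false, 5), (false, 14), (false, 13), (true, 11), (true, 10), (true, 6), (true, 9)], .base 0 25 12, .cell [(false, 15), (false, 10), (false, 28), (false, 14), (true, 17), (true, 20)], .cnt 0 [0], .cell [(false, 20), (false, 3), (false, 30), (false, 19), (true, 22), (true, 25)], .cnt 0 [0], .cell [(true, 34), (true, 0), (true, 32), (true, 13), (true, 27)], .cnt 0 [3, 2, 0], .cell [(false, 29), (false, 11), (true, 6), (false, 35), (false, 22), (true, 30)], .cnt 0 [0], .cell [(false, 31), (false, 20), (false, 26), (false, 38), (false, 37), (true, 21)], .cnt 0 [0], .cell [(false, 34), (false, 18), (false, 29), (true,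 31), (true, 28), (true, 40), (false, 10), (true, 19)], .cnt 0 [0], .cell [(false, 38), (false, 25), (false, 20), (false, 35), (false, 31), (false, 44)], .cnt 0 [0], .cell [(false, 38), (false, 24), (false, 23), (false, 43), (false, 18), (true, 40)], .cnt 0 [0], .cell [(false, 35), (false, 20), (false, 34), (true, 14), (false, 46)], .cnt 0 [0], .cell [(false, 44), (false, 23), (false, 34), (true, 8), (true, 43), (true, 29)], .cnt 0 [0], .cell [(false, 44), (false, 23), (true, 20), (false, 50)], .cnt 0 [0], .cell [(false, 25), (true, 12), (false, 50), (true, 18), (true, 31), (false, 51), (true, 42)], .cnt 0 [0], .fin [20, 53, 52, 54, 10, 14, 24, 34, 42, 16, 12, 28, 2, 35, 44, 4, 33, 46, 26, 27, 39, 31, 30, 48, 6, 0, 32, 22, 50, 29, 47, 19, 8, 45, 36, 49, 18]] 191 = true := by decide +kernel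

theorem sg38 : chkKey 3510 12 row 12 p38 keys [1936, 2616] = true := by decide +kernel

theorem cm38 : chkC 3510 12 gens p38 [2, 5, 8] [1, 6, 7, 3] = true := by decide +kernel

theorem bd50 : chkB 3510 12 row 12 p50 [(false, 1), (false, 2), (false, 3), (false, 6), (true, 1), (true, 2), (true, 3)]
    [.cell [(false, 0), (false, 2), (false, 6)], .base 0 5 12, .cell [(false, 15), (false, 9), (false, 8), (true, 10), (true, 5), (true, 14), (true, 2), (true, 0), (true, 6), (true, 11), (true, 4)], .cnt 0 [3, 4, 1], .cell [(false, 15), (false, 1), (false, 2), (true, 13), (true, 12), (false, 0), (true, 5), (true, 18), (true, 4), (true, 19), (true, 7)], .cnt 0 [5, 4, 6, 3], .cell [(false, 10), (true, 1), (true, 7), (true, 12), (true, 13), (true, 24), (true, 19), (true, 9), (true, 23), (true, 22), (true, 14)], .cnt 0 [7, 6, 5, 8, 3], .cnt 0 [34, 35, 32, 33, 31, 36, 30, 37, 29, 38, 13, 14, 15, 18, 22, 39], .cnt 49 [6, 4, 2], .cnt 4 [5, 6, 2], .cell [(true, 3), (true, 18), (false, 47), (false, 51)], .cnt 0 [0], .cell [(false, 52), (false,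 45), (true, 33), (true, 37), (false, 27), (false, 28), (false, 25), (true, 50)], .cnt 0 [0], .fin [38, 35, 30, 6, 9, 0, 43, 47, 51, 8, 44, 2, 5, 29, 56, 34, 48, 52, 41, 39, 45, 46, 50, 49, 22, 28, 25, 20, 21, 55, 24, 19, 54, 42, 33, 18, 27, 10]] 71 = true := by decide +kernel

theorem sg50 : chkKey 3510 12 row 12 p50 keys [2284, 2352] = true := by decide +kernel

theorem cm50 : chkC 3510 12 gens p50 [1, 4, 8] [5, 7, 3, 2] = true := by decide +kernel

end Cfsg.Agent.H123.Cls.FiDat
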