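import Cfsg.Agent.H123.Cls.FiRep

set_option autoImplicit false
set_option maxRecDepth 1000000
set_option exponentiation.threshold 5000

namespace Cfsg.Agent.H123.Cls.FiDat

open Cfsg.Agent.H123.Cls
open Cfsg.Agent.H494.F22.Row (row)

theorem bd3 : chkB 3510 12 row 12 p3 [(true, 1)]
    [.cell [(false, 0)], .cnt 0 [324], .cell [(true, 2), (false, 0)], .tri 0 2 1 2 270, .base 0 6 3, .cell [(false, 7), (false, 1), (false, 0)], .base 0 10 3, .cell [(false, 6), (false, 0), (false, 7), (true, 8), (true, 1), (true, 5), (true, 2), (true, 4)], .cnt 0 [14, 15, 16, 13, 12, 17, 11, 10, 9, 8], .cell [(true, 9), (false, 15), (true, 18), (true, 17), (true, 12), (true, 13), (true, 16), (true, 11)], .cnt 0 [22, 21, 20, 19, 23, 18, 24, 17, 16, 15, 25], .cnt 13 [13, 14, 12, 10, 11, 15, 16, 4], .cnt 9 [29, 30, 31, 28, 32, 26, 27, 24, 23, 33, 21, 15, 22], .cnt 2 [11, 10, 12, 9, 7], .cnt 5 [25, 26, 24, 27, 21, 23], .cnt 44 [3], .cell [(true, 38), (false, 67), (true, 6), (false, 62)], .cnt 0 [0], .fin [65, 2, 13, 32, 55, 0, 62, 63, 64, 60, 12, 33,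 59, 44, 54, 45, 34, 43, 8, 7, 6, 56, 10, 58, 42, 41, 53, 26, 23, 20, 24, 52, 28, 4, 40, 22, 69, 19, 11, 38, 30, 5]] 34991 = true := by decide +kernel

theorem sg3 : chkKey 3510 12 row 12 p3 keys [0, 3024] = true := by decide +kernel

theorem cm3 : chkC 3510 12 gens p3 [1, 8, 6] [2, 5, 7] = true := by decide +kernel

theorem bd15 : chkB 3510 12 row 12 p15 [(false, 1), (false, 2), (false, 3), (true, 1), (true, 2), (true, 3)]
    [.cell [(false, 0), (true, 2), (true, 1)], .base 0 83 6, .cell [(false, 5), (false, 4), (false, 0), (false, 2), (true, 7)], .base 0 808 6, .cell [(false, 4), (false, 16), (true, 14), (true, 5), (true, 3), (true, 12), (true, 7), (true, 0), (true, 2), (true, 11), (true, 10)], .cnt 0 [5, 4, 6, 3], .cell [(false, 8), (false, 7), (true, 3), (true, 20), (true, 17), (true, 14), (true, 16), (true, 12), (true, 19), (true, 13)], .cnt 0 [4, 3, 2, 0], .cell [(false, 21), (false, 19), (true, 8), (true, 2), (true, 24), (true, 26), (true, 11), (false, 28), (true, 20)], .cnt 0 [2, 0], .cell [(false, 14), (true, 9), (true,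 6), (false, 28), (true, 1), (true, 21), (true, 18), (true, 27), (true, 16), (true, 29), (true, 20)], .cnt 0 [3, 4, 1], .cell [(false, 27), (false, 18), (false, 33), (true, 1), (true, 15), (true, 32), (true, 28)], .cnt 0 [0], .cell [(true, 14), (false, 21), (false, 23), (true, 34), (true, 3)], .cnt 0 [0], .cell [(true, 12), (false, 26), (false, 24), (true, 17), (true, 32), (false, 39), (false, 38)], .cnt 0 [2, 0], .cell [(true, 5), (true, 3), (true, 20), (true, 9), (false, 12), (true, 39)], .cnt 0 [0], .cell [(false, 36), (true, 7), (false, 40), (false, 41), (true, 11), (true, 26), (true, 38)], .cnt 0 [0], .cell [(false, 36), (true, 7), (false, 44), (false, 28), (true, 43), (true, 21)], .cnt 0 [0], .cell [(true, 21), (false, 38), (true, 4), (true, 26), (false, 45), (true, 44)], .cnt 0 [0], .cell [(true, 13), (true, 11), (true, 28), (true, 24), (true, 4), (true, 48)], .cnt 0 [0], .fin [27, 18, 49, 32, 11, 22, 48, 0, 34, 43, 2, 38, 41, 6, 39, 35, 4, 36, 31, 19, 15, 45, 13, 50, 26, 42, 46, 30, 44, 37, 29, 10, 8, 21]] 863 = true :=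 by decide +kernel

theorem sg15 : chkKey 3510 12 row 12 p15 keys [1992, 1656] = true := by decide +kernel

theorem cm15 : chkC 3510 12 gens p15 [8, 2, 5] [1, 4, 7, 3] = true := by decide +kernel

theorem bd27 : chkB 3510 12 row 12 p27 [(false, 1), (false, 2), (false, 4), (true, 1), (true, 2), (true, 3)]
    [.cell [(false, 0), (true, 2), (false, 1)], .base 0 118 8, .cell [(false, 7), (false, 6), (false, 5), (false, 3), (false, 2), (false, 12)], .base 0 1030 8, .cell [(false, 14), (false, 13), (false, 7), (true, 19), (false, 11), (true, 16), (false, 6)], .cnt 0 [2, 0], .cell [(false, 13), (true, 22), (true, 1), (true, 8), (true, 6), (true, 10), (true, 15), (true, 5), (true, 19), (true, 4), (true, 17), (true, 16), (true, 18)], .cnt 0 [6, 8, 7, 4, 5], .cnt 17 [3, 2], .cell [(false, 25), (false, 31), (true, 4), (true, 29), (true, 27)], .cnt 0 [2, 3], .cell [(false, 34), (true, 4), (false, 12), (true, 9), (true, 21), (true, 27), (false, 1), (false, 11)], .cnt 0 [2, 0], .cell [(true, 6), (false, 31), (true, 12), (false, 15), (false,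 20), (true, 32), (true, 29)], .cnt 0 [2, 0], .cell [(false, 27), (false, 4), (true, 7), (false, 39), (true, 18), (true, 30), (true, 40), (true, 38), (true, 34)], .cnt 0 [0], .cell [(true, 13), (false, 38), (false, 41), (true, 34), (true, 32), (true, 20), (true, 3), (false, 12)], .cnt 0 [0], .cell [(true, 15), (true, 2), (false, 28), (false, 43), (true, 42), (true, 22), (false, 14)], .cnt 0 [0], .cell [(false, 40), (false, 30), (true, 19), (false, 35), (false, 29), (false, 24)], .cnt 0 [0], .cell [(false, 44), (false, 48), (false, 32), (true, 46), (true, 43), (false, 39), (true, 42)], .cnt 0 [0], .cell [(false, 42), (true, 23), (false, 33), (true, 20), (false, 17), (true, 11), (true, 46), (true, 45), (true, 49)], .cnt 0 [0], .cell [(false, 45), (false, 39), (true, 0), (false, 42), (false, 33), (true, 43)], .cnt 0 [0], .fin [20, 53, 15, 24, 29, 32, 18, 12, 8, 36, 46, 10, 6, 47, 27, 2, 52, 34, 39, 44, 0, 4, 49, 50, 43, 48, 21, 23, 26, 40, 25, 54, 56, 41, 35, 17, 45, 38]] 767 = true := by decide +kernel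

theorem sg27 : chkKey 3510 12 row 12 p27 keys [2528, 896] = true := by decide +kernel

theorem cm27 : chkC 3510 12 gens p27 [5, 4, 6, 7, 0] [1, 3, 2, 6, 7, 3] = true := by decide +kernel

theorem bd39 : chkB 3510 12 row 12 p39 [(false, 1), (false, 2), (false, 3), (false, 4), (false, 6), (true, 1), (true, 2), (true, 3)]
    [.cell [(true, 4), (false, 1), (false, 6)], .cnt 0 [40, 42, 0, 32], .cell [(false, 5), (false, 3), (false, 8)], .base 0 25 12, .cell [(false, 11), (false, 10), (false, 9), (false, 19), (false, 7)], .base 0 258 12, .cell [(false, 33), (false, 13), (true, 32), (true, 28), (true, 1), (true, 4), (true, 9), (true, 23), (true, 8), (true, 15), (true, 5)], .cnt 0 [0], .cell [(false, 35), (false, 18), (false, 16), (true, 34), (true, 6), (true, 25), (true, 21), (true, 13)], .cnt 0 [0], .cell [(true, 29), (false, 13), (true, 24), (true, 9), (true, 5), (true, 15), (true, 21), (true, 27), (true, 26), (true, 14), (true, 28), (true, 10), (true, 4)], .cnt 0 [3, 2, 0], .cell [(false, 28), (false, 24), (false, 40), (true, 26),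 (true, 12), (false, 43), (false, 4), (true, 18), (true, 16)], .cnt 0 [2, 0], .cell [(false, 30), (false, 28), (true, 39), (false, 1), (true, 43), (true, 44), (true, 27), (true, 22)], .cnt 0 [0], .cell [(true, 38), (true, 11), (false, 23), (false, 13), (true, 28), (true, 36)], .cnt 0 [0], .cell [(false, 48), (false, 39), (false, 21), (false, 38), (true, 43)], .cnt 0 [0], .cell [(true, 6), (false, 36), (false, 28), (false, 49), (false, 45)], .cnt 0 [0], .fin [13, 50, 9, 48, 15, 34, 29, 2, 22, 28, 36, 4, 21, 17, 24, 51, 23, 0, 6, 43, 20, 37, 42, 27, 25, 35, 12, 19, 38, 45, 40, 26, 33, 30, 39, 52, 41]] 1151 = true := by decide +kernel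

theorem sg39 : chkKey 3510 12 row 12 p39 keys [1648, 2856] = true := by decide +kernel

theorem cm39 : chkC 3510 12 gens p39 [7, 4, 6, 0, 2] [1, 3, 5] = true := by decide +kernel

theorem bd51 : chkB 3510 12 row 12 p51 [(false, 1), (false, 2), (false, 3), (false, 6), (true, 1), (true, 2), (true, 3)]
    [.cell [(false, 0), (false, 2), (false, 6)], .base 0 413 9, .cell [(false, 11), (false, 4), (false, 0), (true, 10), (true, 12), (true, 8), (true, 5)], .base 0 982 12, .cell [(false, 9), (false, 25), (true, 4), (true, 10), (true, 20), (true, 15), (true, 2), (true, 0), (true, 8), (true, 3), (true, 1), (true, 24), (true, 21), (true, 19)], .cnt 0 [3, 1, 0], .cell [(false, 13), (true, 2), (true, 19), (true, 24), (true, 8), (true, 28), (true, 12), (true, 7), (true, 11), (true, 5), (true, 4), (true, 15), (true, 14), (true, 17)], .cnt 0 [2, 0], .cell [(false, 25), (false, 16), (false, 7), (false, 14), (false, 5), (false, 1), (true, 12)], .cnt 0 [0], .cell [(false, 20), (false, 3), (true, 7), (true, 24), (true, 22), (true, 26), (true,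 14), (true, 34), (true, 30), (true, 17), (true, 18), (true, 33), (true, 19), (true, 16)], .cnt 0 [1, 0], .cell [(false, 32), (false, 19), (true, 1), (true, 10), (true, 31), (true, 20), (true, 17), (true, 36), (true, 21)], .cnt 0 [0], .cnt 42 [6, 3, 4], .cell [(false, 28), (false, 25), (false, 11), (true, 15), (true, 23), (true, 32), (true, 30), (true, 35)], .cnt 0 [0], .cell [(true, 16), (false, 33), (false, 19), (true, 34), (true, 44)], .cnt 0 [0], .cell [(false, 28), (false, 21), (false, 46), (true, 2), (false, 19), (true, 31)], .cnt 0 [0], .fin [21, 17, 12, 8, 48, 4, 39, 29, 14, 44, 6, 9, 25, 37, 0, 33, 26, 42, 28, 27, 38, 34, 36, 2, 30, 23, 40, 31, 41, 32, 24, 20, 47, 16, 43, 11]] 107 = true := by decide +kernel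

theorem sg51 : chkKey 3510 12 row 12 p51 keys [2492, 2208] = true := by decide +kernel

theorem cm51 : chkC 3510 12 gens p51 [2, 3, 2, 5, 8, 1] [0, 4, 3, 7] = true := by decide +kernel

end Cfsg.Agent.H123.Cls.FiDat
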