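import Cfsg.Agent.H123.Cls.FiRep

set_option autoImplicit false
set_option maxRecDepth 1000000
set_option exponentiation.threshold 5000

namespace Cfsg.Agent.H123.Cls.FiDat

open Cfsg.Agent.H123.Cls
open Cfsg.Agent.H494.F22.Row (row)

theorem bd4 : chkB 3510 12 row 12 p4 [(false, 1), (true, 1)]
    [.cell [(false, 0), (false, 1)], .base 0 72 3, .cell [(false, 2), (true, 3), (true, 1), (true, 0)], .base 0 218 3, .cell [(true, 3), (false, 1), (false, 2), (true, 0)], .base 0 692 3, .cell [(true, 7), (false, 2), (true, 6), (true, 5), (true, 0), (true, 1), (true, 4)], .cnt 0 [15, 14, 16, 13, 12, 17, 11, 10, 8], .cell [(true, 6), (false, 16), (true, 22), (true, 15), (true, 10), (true, 12), (true, 19), (true, 18), (true, 11)], .cnt 0 [13, 14, 12, 11, 15, 10, 9, 8, 6], .cell [(true, 16), (true, 8), (true, 32), (true, 24), (true, 25), (true, 28), (true, 21), (true, 20), (true, 30), (true, 29), (true, 22)], .cnt 0 [9, 10, 8, 7, 6, 5], .cnt 0 [26, 23, 25, 27, 22, 28, 24, 21, 14, 15, 29], .cnt 1 [6, 5, 7, 4], .cnt 23 [18, 21, 19,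 20, 17, 23], .cell [(true, 19), (true, 7), (true, 5), (true, 34)], .cnt 0 [0], .cell [(true, 18), (false, 51), (false, 56), (false, 55)], .cnt 0 [0], .fin [63, 13, 30, 40, 50, 2, 52, 0, 60, 54, 61, 56, 12, 49, 29, 38, 58, 48, 39, 62, 7, 8, 9, 6, 24, 28, 23, 57, 53, 47, 36, 18, 22, 19, 45, 5, 65, 37, 27, 21, 10, 4]] 5038847 = true := by decide +kernel

theorem sg4 : chkKey 3510 12 row 12 p4 keys [0, 1296] = true := by decide +kernel

theorem cm4 : chkC 3510 12 gens p4 [3, 7, 4, 0, 3, 8, 5, 4, 7, 3] [2, 8, 7] = true := by decide +kernel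

theorem bd16 : chkB 3510 12 row 12 p16 [(false, 1), (false, 2), (false, 3), (true, 1), (true, 3)]
    [.cell [(true, 3), (true, 1)], .cnt 0 [32, 48, 36, 40], .cell [(true, 0), (true, 5)], .base 0 334 6, .cell [(true, 15), (false, 4), (false, 13), (true, 5)], .base 0 5 2, .cell [(false, 7), (false, 1), (false, 15), (true, 10), (true, 4), (true, 8), (true, 6), (true, 0)], .cnt 0 [17, 16, 18, 15, 19, 14, 21, 13, 10, 11, 0], .cell [(false, 28), (false, 18), (true, 8), (true, 17), (true, 12)], .cnt 0 [5, 4, 6, 2, 1], .cnt 0 [6, 5, 7, 3, 0], .cell [(true, 17), (false, 27), (true, 32), (true, 9), (true, 4), (true, 31), (true, 26)], .cnt 0 [3, 2, 0], .cnt 17 [7, 8, 5, 4], .cell [(true, 26), (true, 15), (false, 32), (true, 6), (true, 3), (true, 12), (true, 46), (false, 42)], .cnt 0 [0], .cell [(true, 4), (true, 17), (false, 48), (true, 14), (true, 7), (false, 27), (false, 46), (true, 41), (true, 39), (false, 29)], .cnt 0 [0], .cell [(true, 31), (false, 36), (true, 19), (false, 38), (false, 50), (false, 10), (false, 2)], .cnt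 0 [0], .cnt 26 [7, 5, 6], .cell [(true, 58), (true, 34), (true, 12), (true, 48), (false, 26)], .cnt 0 [0], .cell [(true, 37), (false, 42), (true, 51), (false, 50)], .cnt 0 [0], .fin [54, 19, 16, 30, 25, 6, 59, 7, 0, 50, 2, 9, 49, 11, 48, 29, 4, 51, 14, 23, 52, 44, 41, 47, 24, 42, 60, 18, 37, 38, 28, 40, 22, 45, 39, 36, 34, 5]] 6911 = true := by decide +kernel

theorem sg16 : chkKey 3510 12 row 12 p16 keys [1872, 2952] = true := by decide +kernel

theorem cm16 : chkC 3510 12 gens p16 [1, 7, 4] [2, 3] = true := by decide +kernel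

theorem bd28 : chkB 3510 12 row 12 p28 [(false, 1), (false, 2), (false, 4), (true, 1), (true, 2), (true, 3)]
    [.cell [(false, 0), (false, 1), (false, 3)], .base 0 4 8, .cell [(false, 6), (false, 9), (false, 2), (false, 1), (true, 10)], .base 0 451 8, .cell [(false, 9), (false, 0), (true, 19), (true, 12), (true, 5), (true, 3), (true, 16), (true, 6), (true, 4), (true, 1), (true, 15)], .cnt 0 [6, 5, 4, 7], .cell [(false, 11), (true, 3), (false, 24), (true, 6), (true, 19), (true, 16), (true, 9), (true, 15), (true, 8), (true, 7), (true, 23), (true, 21), (true, 20), (true, 17), (true, 5)], .cnt 0 [4, 3, 2, 5, 0], .cell [(false, 18), (true, 9), (true, 4), (true, 30), (true, 21), (true, 31), (true, 25), (true, 26), (true, 22), (true, 13), (true, 27), (true, 23)], .cnt 0 [3, 4, 2], .cnt 23 [4, 3], .cell [(false, 33), (false, 32), (false, 24), (true, 15), (true, 36), (true, 37)], .cnt 0 [0], .cell [(true, 11), (false, 20), (true, 17), (true, 38), (true, 5), (true, 29), (true, 3)], .cnt 0 [0], .cell [(false, 32), (false, 22),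 (true, 2), (true, 14), (false, 4)], .cnt 0 [0], .cell [(false, 38), (false, 23), (false, 33), (false, 30), (true, 9)], .cnt 0 [0], .cell [(false, 39), (false, 26), (false, 25), (true, 20), (true, 37)], .cnt 0 [0], .cell [(false, 28), (false, 27), (true, 8), (true, 17), (false, 45)], .cnt 0 [0], .fin [15, 13, 48, 22, 27, 49, 35, 6, 34, 4, 8, 41, 2, 26, 33, 0, 42, 31, 10, 40, 16, 19, 32, 44, 45, 29, 30, 12, 43, 24, 39, 36, 51, 38, 50, 47, 21, 14]] 767 = true := by decide +kernel

theorem sg28 : chkKey 3510 12 row 12 p28 keys [2400, 896] = true := by decide +kernel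

theorem cm28 : chkC 3510 12 gens p28 [7, 5, 4, 2, 1, 3, 5, 2, 4] [0, 6, 7, 3] = true := by decide +kernel

theorem bd40 : chkB 3510 12 row 12 p40 [(false, 1), (false, 2), (false, 3), (false, 4), (false, 6), (true, 1), (true, 2), (true, 3)]
    [.cell [(false, 1), (true, 0)], .base 0 27 12, .cell [(false, 5), (false, 4), (false, 0), (true, 14), (true, 13), (true, 2), (false, 17), (true, 7)], .base 0 235 12, .cell [(false, 28), (false, 11), (false, 4), (true, 13), (false, 26), (true, 9), (false, 30), (true, 17), (true, 6)], .cnt 0 [0], .cell [(true, 31), (false, 22), (true, 26), (true, 24), (false, 33), (true, 23), (true, 9), (true, 21), (true, 13), (true, 12), (true, 11)], .cnt 0 [3, 1, 0], .cell [(false, 26), (false, 22), (false, 8), (false, 2), (true, 32), (true, 33), (true, 24), (false, 36)], .cnt 0 [0], .cell [(false, 36), (false, 12), (false, 24), (false, 30), (true, 4), (true, 31), (true, 19)], .cnt 0 [0], .cell [(false, 34), (false, 26), (true, 6), (true, 37), (true, 36), (true, 24), (true, 11), (true, 27), (true,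 20)], .cnt 0 [0], .cell [(true, 37), (false, 22), (false, 34), (false, 21), (false, 12)], .cnt 0 [0], .cell [(false, 42), (false, 18), (false, 35), (false, 16), (true, 40)], .cnt 0 [0], .cell [(true, 41), (false, 23), (false, 40), (true, 4), (true, 39), (true, 22)], .cnt 0 [0], .cell [(true, 13), (false, 22), (false, 18), (true, 33)], .cnt 0 [0], .fin [16, 46, 47, 12, 42, 30, 39, 0, 31, 27, 8, 35, 4, 10, 26, 18, 38, 29, 41, 34, 6, 2, 37, 20, 44, 22, 40, 28, 15, 24, 36, 25, 33, 50, 48, 23]] 1151 = true := by decide +kernel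

theorem sg40 : chkKey 3510 12 row 12 p40 keys [1984, 2904] = true := by decide +kernel

theorem cm40 : chkC 3510 12 gens p40 [2, 7, 6, 4, 7, 3, 1, 7] [0, 2, 8, 7, 3, 4, 5, 8] = true := by decide +kernel

theorem bd52 : chkB 3510 12 row 12 p52 [(false, 2), (false, 4), (false, 5), (true, 1), (true, 2), (true, 3)]
    [.cell [(true, 3), (true, 2), (true, 1)], .base 0 261 5, .cell [(false, 4), (false, 6), (false, 2), (false, 1), (true, 8)], .base 0 736 12, .cell [(false, 14), (false, 21), (false, 4), (false, 5), (false, 10), (false, 22)], .cnt 0 [0], .cell [(false, 10), (true, 0), (false, 23), (true, 11), (true, 22), (true, 16), (true, 13), (true, 15), (true, 8)], .cnt 0 [2, 0], .cell [(false, 20), (false, 19), (false, 6), (true, 11), (true, 13), (true, 9), (true, 22), (true, 1), (true, 26), (true, 24)], .cnt 0 [2, 0], .cell [(false, 17), (false, 29), (false, 1), (true, 4), (true, 10), (true, 9), (true, 11), (true, 21)], .cnt 0 [2, 0], .cell [(false, 27), (false, 30), (false, 1), (true, 7), (true, 25), (true, 14), (true,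 12), (false, 9), (true, 31), (true, 4), (false, 0)], .cnt 0 [2, 1, 0], .cell [(false, 35), (false, 34), (false, 11), (false, 36), (true, 5), (true, 32), (true, 8), (false, 1), (true, 21)], .cnt 0 [1, 0], .cell [(true, 1), (true, 14), (false, 5), (true, 8), (true, 11), (true, 37), (true, 39), (true, 29), (true, 20), (true, 28), (true, 35), (true, 34), (true, 25), (false, 16), (true, 27), (true, 22), (true, 31), (true, 24), (false, 4)], .cnt 0 [0], .cell [(true, 6), (false, 31), (false, 24), (false, 10), (true, 41), (true, 40)], .cnt 0 [0], .cell [(false, 27), (true, 2), (true, 20), (true, 5), (true, 18), (true, 15), (false, 9)], .cnt 0 [0], .cell [(false, 38), (false, 35), (false, 34), (true, 7), (true, 45), (true, 32), (true, 31), (true, 17)], .cnt 0 [0], .cell [(true, 4), (false, 22), (true, 13), (true, 16), (false, 9), (false, 24), (false, 2), (false, 0), (true, 45), (true, 42), (true, 40), (true, 39)], .cnt 0 [0], .cell [(false, 43), (true, 8), (true, 6), (false, 29), (true, 49)], .cnt 0 [0], .cell [(false, 46), (false,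 45), (true, 8), (false, 26), (false, 43)], .cnt 0 [0], .fin [28, 22, 25, 19, 15, 53, 6, 8, 45, 51, 48, 4, 38, 2, 36, 35, 33, 10, 34, 12, 46, 49, 30, 47, 40, 32, 41, 52, 18, 0, 43, 42, 21, 39]] 39 = true := by decide +kernel

theorem sg52 : chkKey 3510 12 row 12 p52 keys [2228, 2040] = true := by decide +kernel

theorem cm52 : chkC 3510 12 gens p52 [5, 1, 8, 4] [6, 7, 3, 2] = true := by decide +kernel

end Cfsg.Agent.H123.Cls.FiDat
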