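import Cfsg.Agent.H123.Cls.FiRep

set_option autoImplicit false
set_option maxRecDepth 1000000
set_option exponentiation.threshold 5000

namespace Cfsg.Agent.H123.Cls.FiDat

open Cfsg.Agent.H123.Cls
open Cfsg.Agent.H494.F22.Row (row)

theorem bd5 : chkB 3510 12 row 12 p5 [(false, 1), (true, 1)]
    [.cnt 1 [30], .cell [(true, 1), (true, 0)], .base 0 8 3, .cell [(false, 2), (false, 1), (false, 5), (true, 4)], .base 0 74 3, .cell [(false, 8), (false, 6), (false, 1), (false, 2), (false, 10)], .base 0 69 3, .cell [(false, 2), (true, 11), (true, 1), (true, 0), (true, 6), (true, 5), (true, 10), (true, 8), (true, 9), (true, 4)], .cnt 0 [41, 36, 38, 39, 42, 37, 40, 35, 43, 34, 44, 33, 31, 30, 32, 46, 0, 26, 27], .cell [(true, 16), (false, 24), (true, 22), (true, 33), (true, 30), (true, 26), (true, 25), (true, 29), (true, 28)], .cnt 0 [5, 4, 6, 3, 1], .cnt 0 [8, 9, 7, 6, 10, 0, 1], .cnt 19 [22, 21, 20, 23, 19, 18, 24, 17, 13, 16], .cell [(true, 38), (true, 9), (true, 20), (true, 16), (true, 52), (false, 56), (true, 55)], .cnt 0 [2,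 0], .cell [(true, 7), (true, 43), (true, 19), (true, 24), (true, 1), (true, 51)], .cnt 0 [2, 0], .cell [(true, 10), (true, 20), (true, 46), (true, 51), (true, 62)], .cnt 0 [3, 1], .cell [(true, 27), (true, 15), (true, 47), (true, 23), (false, 4), (true, 61)], .cnt 0 [0], .cell [(true, 8), (false, 66), (false, 63), (true, 64)], .cnt 0 [0], .cell [(true, 49), (true, 25), (false, 64), (false, 5), (true, 0)], .cnt 0 [0], .fin [7, 69, 36, 13, 10, 31, 0, 67, 4, 68, 62, 30, 58, 2, 63, 34, 24, 23, 22, 29, 60, 53, 66, 21, 59, 55, 50, 49, 6, 56, 35, 19, 52, 64, 72, 70, 44, 28, 12]] 279935 = true := by decide +kernel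

theorem sg5 : chkKey 3510 12 row 12 p5 keys [0, 2016] = true := by decide +kernel

theorem cm5 : chkC 3510 12 gens p5 [0, 3] [1, 7] = true := by decide +kernel

theorem bd17 : chkB 3510 12 row 12 p17 [(false, 1), (false, 2), (false, 3), (true, 1), (true, 2), (true, 3)]
    [.cell [(false, 2), (false, 1), (false, 3), (false, 4)], .base 0 38 6, .cell [(false, 3), (false, 9), (false, 2), (true, 8), (false, 7), (true, 5), (true, 4), (true, 1)], .base 0 1327 6, .cell [(false, 3), (false, 2), (true, 15), (true, 16), (false, 14), (true, 7), (true, 5), (true, 0), (true, 12), (true, 11)], .cnt 0 [10, 9, 8, 12, 7, 6, 5], .cnt 14 [6, 7, 8, 4], .cell [(false, 12), (true, 9), (true, 3), (true, 27), (true, 22), (true, 17), (true, 21), (true, 20), (true, 16), (true, 15)], .cnt 0 [2, 0], .cnt 7 [6, 8, 7, 4], .cell [(true, 8), (false, 20), (true, 33), (false, 26), (false, 34), (false, 31)], .cnt 0 [0], .cell [(false, 31), (true, 3), (false, 28), (false, 7), (true, 19), (true, 36), (true, 24)], .cnt 0 [0], .cell [(false, 30), (false, 23),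 (true, 13), (false, 38), (false, 9), (false, 37), (true, 34), (true, 33)], .cnt 0 [0], .cell [(false, 36), (false, 28), (true, 22), (true, 15), (false, 39), (true, 35), (true, 32)], .cnt 0 [0], .cell [(false, 39), (true, 9), (false, 37), (true, 6), (false, 41), (true, 38), (true, 42)], .cnt 0 [0], .cell [(false, 41), (true, 26), (true, 20), (false, 39), (false, 15), (true, 29), (true, 45), (true, 44)], .cnt 0 [0], .cell [(true, 20), (true, 10), (false, 42), (false, 39), (true, 29)], .cnt 0 [0], .cell [(false, 42), (true, 12), (true, 23), (false, 49), (true, 31)], .cnt 0 [0], .fin [50, 21, 19, 25, 33, 49, 51, 6, 2, 4, 12, 36, 10, 44, 38, 8, 37, 26, 32, 0, 17, 14, 40, 31, 35, 43, 45, 46, 18, 42, 20, 30, 24, 53, 16, 47, 28]] 1727 = true := by decide +kernel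

theorem sg17 : chkKey 3510 12 row 12 p17 keys [880, 1536] = true := by decide +kernel

theorem cm17 : chkC 3510 12 gens p17 [5, 0, 3, 8] [1, 6, 7] = true := by decide +kernel

theorem bd29 : chkB 3510 12 row 12 p29 [(true, 1), (true, 2), (true, 3)]
    [.cell [(false, 0), (false, 2), (false, 1)], .base 0 21 9, .cell [(false, 0), (false, 12), (true, 8), (true, 1), (true, 11), (true, 6), (true, 10), (true, 4), (true, 5), (true, 7), (true, 2)], .cnt 0 [10, 11, 9, 8, 7, 6, 5], .cnt 0 [7, 6, 5, 8, 3, 2, 0], .cnt 1 [10, 9, 11, 8, 7], .cell [(true, 1), (false, 25), (true, 11), (true, 18), (true, 27), (true, 26), (true, 24)], .cnt 0 [3, 2, 0], .cell [(true, 5), (false, 35), (true, 21), (true, 15), (true, 1), (true, 29)], .cnt 0 [3, 4, 2], .cell [(false, 40), (true, 24), (true, 12), (true, 18), (true, 2), (true, 6)], .cnt 0 [0], .cell [(true, 2), (true, 18), (true, 26), (true, 14), (true, 7)], .cnt 0 [0], .cell [(true, 13), (true, 0), (true, 28), (true, 9), (true, 23), (true, 40)], .cnt 0 [2, 0], .cell [(false, 41), (false, 46),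 (true, 33), (true, 25), (true, 43), (true, 39), (true, 1)], .cnt 0 [0], .cell [(true, 32), (true, 9), (false, 49), (true, 0), (true, 41)], .cnt 0 [0], .cell [(true, 11), (false, 45), (true, 22), (true, 36), (true, 9)], .cnt 0 [0], .cell [(true, 9), (false, 52), (true, 37), (true, 32), (true, 14), (false, 25), (true, 48)], .cnt 0 [0], .cell [(true, 32), (true, 25), (false, 54), (true, 4)], .cnt 0 [0], .cell [(true, 26), (true, 4), (true, 41), (false, 51), (true, 49), (true, 52)], .cnt 0 [0], .fin [25, 20, 13, 38, 31, 45, 58, 0, 48, 17, 4, 43, 37, 2, 52, 8, 30, 15, 51, 49, 10, 6, 55, 53, 50, 59, 54, 57, 42, 24, 36, 47, 29, 21, 41, 23]] 53 = true := by decide +kernel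

theorem sg29 : chkKey 3510 12 row 12 p29 keys [2484, 2268] = true := by decide +kernel

theorem cm29 : chkC 3510 12 gens p29 [5, 1, 7] [2, 3, 4] = true := by decide +kernel

theorem bd41 : chkB 3510 12 row 12 p41 [(false, 1), (false, 3), (false, 4), (false, 6), (true, 1), (true, 2), (true, 3)]
    [.cell [(false, 2), (false, 0), (false, 5)], .base 0 78 12, .cell [(false, 1), (false, 0), (true, 15), (true, 9), (true, 4), (true, 14), (true, 8), (true, 3), (true, 10), (true, 5)], .cnt 0 [6, 5, 4, 3], .cell [(false, 10), (false, 3), (false, 2), (true, 14), (true, 9), (true, 7), (false, 1), (true, 19), (true, 20), (true, 5), (true, 15), (true, 13), (true, 18), (true, 12), (true, 11), (true, 6)], .cnt 0 [4, 3, 5, 1], .cell [(false, 24), (false, 23), (true, 3), (true, 8), (true, 17), (true, 18), (true, 16), (true, 13), (false, 29), (true, 21), (true, 19), (true, 15), (true, 11)], .cnt 0 [8, 9, 7, 6, 10, 3], .cell [(false, 31), (true, 5), (true, 15), (true, 10), (true, 32), (true, 30), (true, 17), (true, 27), (true, 24), (true,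 25), (true, 23), (true, 26), (true, 20), (true, 18)], .cnt 0 [3, 4, 1], .cnt 4 [2, 3], .cell [(true, 7), (false, 23), (true, 21), (false, 25), (true, 4), (false, 36)], .cnt 0 [0], .cell [(false, 32), (true, 11), (false, 28), (true, 22), (true, 39), (false, 42), (false, 17)], .cnt 0 [0], .cell [(true, 12), (false, 37), (false, 27), (false, 34), (true, 31), (true, 41)], .cnt 0 [0], .cell [(true, 25), (false, 42), (true, 9), (true, 20), (true, 6), (false, 0), (false, 16), (false, 15), (false, 45)], .cnt 0 [0], .fin [8, 11, 24, 29, 19, 44, 45, 46, 6, 4, 32, 18, 2, 28, 35, 22, 0, 34, 12, 41, 42, 40, 17, 38, 37, 36, 31, 9, 23, 39, 16, 47, 27, 26]] 143 = true := by decide +kernel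

theorem sg41 : chkKey 3510 12 row 12 p41 keys [1824, 864] = true := by decide +kernel

theorem cm41 : chkC 3510 12 gens p41 [8, 2, 5] [4, 7, 3] = true := by decide +kernel

theorem bd53 : chkB 3510 12 row 12 p53 [(false, 3), (false, 7), (true, 1), (true, 2), (true, 3)]
    [.cell [(true, 3), (false, 1), (false, 0)], .base 0 2 7, .cell [(false, 10), (false, 5), (false, 4), (false, 3), (false, 2), (true, 6)], .base 0 225 12, .cell [(false, 9), (false, 1), (true, 19), (true, 13), (true, 11), (true, 5), (true, 21), (true, 18), (true, 14), (true, 23), (true, 22), (true, 16)], .cnt 0 [3, 1], .cell [(false, 25), (false, 12), (false, 1), (true, 26), (true, 19), (false, 0), (true, 13), (true, 11), (true, 7), (true, 4), (false, 27), (true, 24)], .cnt 0 [2, 0], .cell [(false, 24), (false, 1), (true, 4), (true, 11), (true, 22), (true, 6), (true, 21), (true, 12), (true, 28), (true, 27), (true, 20), (true, 10), (true, 14)], .cnt 0 [2, 1], .cnt 29 [12, 10], .cell [(true, 3), (true, 1), (true, 9), (true, 6), (true, 16), (true, 19), (true,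 33), (true, 32), (true, 18), (true, 21), (true, 11), (true, 34), (true, 29), (true, 28), (true, 12), (true, 22), (true, 30), (true, 27), (true, 25), (true, 24), (true, 17)], .cnt 0 [6, 5, 4, 7], .cell [(false, 39), (false, 27), (false, 38), (true, 3), (false, 14), (false, 16), (true, 26)], .cnt 0 [0], .cell [(false, 26), (false, 39), (true, 4), (false, 16), (true, 21), (true, 18), (true, 40), (false, 42)], .cnt 0 [0], .cell [(false, 30), (false, 21), (true, 0), (false, 41), (false, 20), (false, 44)], .cnt 0 [0], .cell [(false, 45), (false, 33), (true, 12), (true, 20), (false, 14), (false, 9), (true, 36), (true, 23), (true, 39)], .cnt 0 [0], .cell [(false, 37), (true, 4), (false, 24), (true, 16), (false, 22), (true, 45)], .cnt 0 [0], .cell [(true, 23), (false, 45), (false, 43), (true, 18), (true, 10)], .cnt 0 [0], .fin [18, 26, 20, 15, 23, 49, 8, 30, 34, 10, 4, 6, 14, 42, 0, 33, 50, 41, 46, 2, 37, 31, 45, 28, 51, 35, 38, 29, 39, 44, 36, 13, 32, 47, 25, 19, 17]] 41 = true := by decide +kernel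

theorem sg53 : chkKey 3510 12 row 12 p53 keys [2156, 2348] = true := by decide +kernel

theorem cm53 : chkC 3510 12 gens p53 [2, 5, 0, 8] [1, 6, 7, 3] = true := by decide +kernel

end Cfsg.Agent.H123.Cls.FiDat
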