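import Cfsg.Agent.H123.Cls.FiRep

set_option autoImplicit false
set_option maxRecDepth 1000000
set_option exponentiation.threshold 5000

namespace Cfsg.Agent.H123.Cls.FiDat

open Cfsg.Agent.H123.Cls
open Cfsg.Agent.H494.F22.Row (row)

theorem bd6 : chkB 3510 12 row 12 p6 [(false, 1)]
    [.cnt 0 [0, 96], .base 0 0 3, .cell [(false, 3), (true, 2), (true, 1), (true, 0), (false, 5)], .base 0 572 3, .cell [(false, 6), (false, 5), (false, 2), (false, 9)], .base 0 82 3, .cell [(false, 8), (false, 6), (false, 5), (false, 1), (false, 13)], .cnt 0 [4, 3, 5, 1, 0], .cell [(false, 14), (false, 12), (false, 8), (true, 4), (true, 17), (true, 15), (true, 16)], .base 0 720 3, .cell [(true, 7), (true, 21), (true, 18), (true, 16), (true, 14), (true, 15), (true, 20), (true, 11), (true, 0), (true, 19), (true, 2), (true, 1)], .cnt 0 [11, 12, 13, 10, 9, 8, 7], .cnt 0 [23, 22, 21, 24, 20, 19, 18, 25, 15, 17, 10], .cell [(true, 8), (true, 14), (true, 40), (true, 27), (true, 38), (true, 21), (true, 33), (true, 31), (true, 34), (true, 37), (true, 30),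 (true, 29)], .cnt 0 [3, 4, 2], .cnt 6 [26, 28, 25, 30, 27, 21, 24, 29, 20], .cell [(true, 25), (true, 17), (true, 40), (true, 11), (false, 55), (false, 8)], .cnt 0 [0], .cell [(true, 3), (true, 23), (true, 30), (true, 51)], .cnt 0 [0], .cell [(true, 11), (false, 55), (true, 27), (false, 50), (false, 57)], .cnt 0 [0], .fin [59, 16, 46, 35, 39, 54, 58, 2, 48, 4, 0, 36, 40, 57, 53, 50, 17, 44, 38, 33, 56, 52, 29, 28, 34, 49, 14, 7, 24, 8, 12, 10, 26, 6, 22, 27, 9, 30, 13]] 39191039 = true := by decide +kernel

theorem sg6 : chkKey 3510 12 row 12 p6 keys [0, 3384] = true := by decide +kernel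

theorem cm6 : chkC 3510 12 gens p6 [2] [1] = true := by decide +kernel

theorem bd18 : chkB 3510 12 row 12 p18 [(false, 1), (false, 2), (false, 3), (true, 1), (true, 2)]
    [.cell [(false, 1), (false, 2)], .base 0 3 6, .cell [(false, 3), (false, 2), (false, 7), (true, 4), (true, 1), (false, 9)], .base 0 381 6, .cell [(false, 11), (false, 1), (false, 0), (true, 15), (true, 14), (false, 16), (true, 12), (true, 10), (true, 9), (true, 7)], .cnt 0 [5, 4, 3, 6], .cell [(false, 13), (true, 0), (false, 19), (true, 17), (true, 15), (true, 9), (true, 8), (false, 21), (true, 14), (true, 6), (true, 5), (true, 12)], .cnt 0 [6, 5, 4, 7, 1], .cnt 0 [5, 4, 6, 2], .cell [(true, 31), (false, 25), (true, 1), (true, 30), (true, 8), (true, 27), (true, 10)], .cnt 0 [2, 0], .cell [(true, 34), (true, 6), (true, 16), (false, 33), (true, 11), (true, 1), (true, 23)], .cnt 0 [3, 2, 1], .cell [(true, 13), (false, 23), (true, 35), (true, 20), (false, 9), (true, 32)], .cnt 0 [0], .cell [(true, 3), (false, 33), (false, 24), (true, 16), (true, 12)], .cnt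 0 [0], .cell [(true, 5), (false, 30), (false, 29), (false, 28), (true, 24)], .cnt 0 [0], .cell [(false, 11), (true, 16), (true, 26), (true, 21), (false, 42), (false, 44), (false, 8), (true, 38), (true, 40), (true, 35), (false, 10)], .cnt 0 [0], .cell [(true, 46), (false, 42), (true, 22), (true, 28), (false, 45), (true, 18)], .cnt 0 [0], .cell [(true, 10), (true, 23), (true, 29), (false, 48)], .cnt 0 [0], .fin [48, 14, 32, 27, 22, 17, 49, 39, 8, 10, 4, 0, 38, 41, 26, 2, 6, 45, 20, 36, 31, 46, 37, 13, 43, 44, 34, 25, 35, 21, 12, 42, 29, 16]] 7775 = true := by decide +kernel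

theorem sg18 : chkKey 3510 12 row 12 p18 keys [2168, 1368] = true := by decide +kernel

theorem cm18 : chkC 3510 12 gens p18 [4, 3, 6, 2, 3] [7, 3, 5] = true := by decide +kernel

theorem bd30 : chkB 3510 12 row 12 p30 [(false, 1), (false, 3), (true, 1), (true, 2), (true, 3)]
    [.cell [(false, 2), (false, 1), (false, 0), (false, 4)], .base 0 22 9, .cell [(false, 4), (false, 0), (true, 10), (false, 12), (true, 7), (true, 6), (true, 11)], .base 0 481 9, .cell [(false, 16), (false, 7), (false, 15), (true, 20), (true, 4), (true, 8), (true, 6), (true, 5), (true, 0)], .cnt 0 [2, 0], .cell [(false, 10), (false, 7), (true, 23), (false, 24), (false, 1), (true, 21), (true, 19), (true, 18), (true, 8), (true, 5)], .cnt 0 [3, 2], .cell [(true, 0), (false, 7), (true, 4), (false, 26), (true, 13), (true, 8), (true, 6), (true, 27), (true, 17), (true, 28), (true, 11), (true, 12), (true, 20)], .cnt 0 [2, 0], .cell [(false, 23), (false, 30), (false, 20), (true, 4), (true, 7), (true, 21), (true, 12)], .cnt 0 [2, 0], .cell [(true, 6), (false,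 14), (false, 23), (false, 10), (false, 19), (false, 32)], .cnt 0 [0], .cell [(false, 31), (false, 26), (false, 25), (false, 6), (false, 20), (true, 36), (true, 35)], .cnt 0 [0], .cell [(false, 30), (false, 20), (false, 19), (false, 8), (true, 11), (true, 23), (true, 38), (false, 36)], .cnt 0 [0], .cell [(true, 6), (false, 25), (false, 23), (true, 12), (true, 35)], .cnt 0 [0], .cell [(false, 32), (false, 25), (false, 20), (false, 9), (false, 41), (true, 42)], .cnt 0 [0], .cell [(false, 40), (false, 30), (false, 25), (false, 11), (true, 17)], .cnt 0 [0], .fin [19, 44, 16, 22, 13, 46, 45, 36, 6, 26, 4, 28, 0, 24, 40, 34, 8, 10, 30, 38, 29, 2, 41, 25, 37, 32, 18, 39, 27, 31, 42, 35, 15]] 323 = true := by decide +kernel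

theorem sg30 : chkKey 3510 12 row 12 p30 keys [972, 1968] = true := by decide +kernel

theorem cm30 : chkC 3510 12 gens p30 [4, 8, 2] [1, 7, 3] = true := by decide +kernel

theorem bd42 : chkB 3510 12 row 12 p42 [(false, 1), (false, 2), (false, 3), (false, 4), (false, 6), (true, 1), (true, 2), (true, 3)]
    [.cell [(false, 0), (false, 1), (false, 5)], .base 0 54 12, .cell [(false, 14), (false, 11), (false, 4), (false, 2), (true, 1), (true, 15), (true, 13)], .base 0 1891 12, .cell [(false, 2), (true, 20), (true, 15), (true, 0), (true, 8), (true, 4), (true, 3), (true, 19), (true, 18), (true, 28), (true, 7), (true, 13), (true, 14), (true, 5), (true, 22), (true, 11), (true, 21)], .cnt 0 [4, 3, 5, 1], .cnt 0 [17, 18, 19, 15, 16, 14, 20], .cell [(false, 30), (false, 23), (false, 14), (true, 27), (false, 10), (true, 36), (true, 32)], .cnt 0 [0], .cell [(true, 4), (false, 32), (false, 31), (true, 11), (false, 29)], .cnt 0 [0], .cell [(false, 34), (false, 18), (false, 16), (true, 14), (true, 35), (false, 0), (false, 6), (false, 9),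 (true, 42), (true, 26)], .cnt 0 [0], .cell [(true, 47), (false, 24), (false, 44), (true, 4), (true, 42)], .cnt 0 [0], .fin [18, 4, 42, 20, 21, 41, 6, 30, 24, 29, 43, 14, 39, 2, 0, 48, 44, 31, 13, 27, 34, 16, 10, 25, 28, 35, 23, 37, 33, 8, 9, 22, 40, 11, 47, 46, 26, 38]] 191 = true := by decide +kernel

theorem sg42 : chkKey 3510 12 row 12 p42 keys [2496, 1152] = true := by decide +kernel

theorem cm42 : chkC 3510 12 gens p42 [8, 3, 7, 0, 4, 3, 8, 5, 2, 8] [6, 7, 3, 2, 1] = true := by decide +kernel

theorem bd54 : chkB 3510 12 row 12 p54 [(false, 1), (true, 1), (true, 2), (true, 3)]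
    [.cell [(false, 1), (false, 0), (true, 2)], .cnt 0 [48, 41, 44, 47, 46, 40, 42, 43, 45, 50, 33, 37, 39, 49, 51, 35], .cell [(true, 13), (false, 19), (false, 18), (false, 20)], .base 0 61 12, .cell [(true, 22), (false, 2), (true, 4), (true, 1), (true, 0), (true, 3), (true, 11), (true, 30), (true, 10), (true, 8), (true, 32), (true, 9)], .cnt 0 [2, 0], .cell [(true, 25), (false, 7), (true, 1), (true, 8), (true, 9), (true, 6), (true, 13), (true, 5), (true, 14), (true, 35), (true, 33)], .cnt 0 [2, 3, 0], .cell [(true, 31), (false, 9), (false, 5), (true, 39), (true, 37), (true, 38), (true, 1), (true, 18), (true, 12)], .cnt 0 [3, 2, 0], .cell [(true, 32), (false, 20), (false, 9), (true, 21), (true, 2), (true, 5), (true, 43), (true, 41)], .cnt 0 [2, 0], .cell [(true, 38), (false, 20), (false, 12), (true, 9), (false, 45), (true, 5)], .cnt 0 [0], .cell [(true, 40), (false, 47), (false, 48), (false, 14), (true, 11), (true, 7), (false, 0)], .cnt 0 [0], .cell [(true, 40), (false, 48), (false, 18), (false, 5), (true, 21), (true, 24),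 (true, 22)], .cnt 0 [0], .cell [(true, 44), (false, 22), (true, 15), (false, 10), (false, 11), (true, 52), (true, 24)], .cnt 0 [0], .cell [(true, 48), (false, 31), (false, 26), (false, 29), (true, 53)], .cnt 0 [0], .cell [(true, 45), (false, 31), (true, 2), (false, 30), (false, 24)], .cnt 0 [0], .cell [(true, 52), (false, 36), (true, 4), (false, 57), (true, 16), (true, 37)], .cnt 0 [0], .fin [22, 19, 26, 15, 58, 34, 0, 4, 39, 60, 29, 10, 6, 33, 12, 8, 28, 38, 2, 36, 32, 37, 31, 30, 59, 23, 35, 50, 49, 53, 55, 48, 18, 56, 54, 51, 14]] 21 = true := by decide +kernel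

theorem sg54 : chkKey 3510 12 row 12 p54 keys [2244, 2200] = true := by decide +kernel

theorem cm54 : chkC 3510 12 gens p54 [2, 7, 1, 8, 6, 4] [0, 5, 7, 3, 4, 7, 3] = true := by decide +kernel

end Cfsg.Agent.H123.Cls.FiDat
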