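import Cfsg.Agent.H123.Cls.FiRep

set_option autoImplicit false
set_option maxRecDepth 1000000
set_option exponentiation.threshold 5000

namespace Cfsg.Agent.H123.Cls.FiDat

open Cfsg.Agent.H123.Cls
open Cfsg.Agent.H494.F22.Row (row)

theorem bd7 : chkB 3510 12 row 12 p7 [(false, 1), (false, 2), (true, 1), (true, 2)]
    [.cnt 3 [4], .cell [(false, 0), (true, 2)], .base 0 344 4, .cell [(false, 3), (false, 2), (false, 0), (true, 6), (false, 7)], .base 0 247 4, .cell [(false, 8), (false, 5), (false, 3), (false, 0), (true, 10), (true, 11)], .base 0 859 4, .cell [(false, 8), (true, 14), (true, 13), (true, 12), (true, 10), (true, 3), (true, 2), (true, 11), (true, 7), (true, 5), (true, 1), (true, 0)], .cnt 0 [15, 14, 16, 13, 12, 17, 11, 10], .cell [(true, 6), (false, 10), (false, 11), (true, 23), (true, 20), (true, 22), (true, 21), (true, 16)], .cnt 0 [2, 0], .cell [(true, 10), (true, 27), (true, 28), (true, 1), (true, 17), (true, 19), (true, 25), (true, 23), (true, 22), (true, 24), (true, 15), (true, 18), (true,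 20), (true, 14), (true, 12)], .cnt 0 [8, 7, 9, 6, 5, 3, 4], .cnt 0 [15, 16, 13, 12, 14, 11, 1, 9], .cnt 0 [9, 10, 8, 7, 6], .cell [(true, 12), (false, 39), (false, 36), (true, 31), (true, 50)], .cnt 0 [0], .cell [(true, 13), (true, 4), (true, 31), (false, 50), (true, 45)], .cnt 0 [0], .cell [(true, 14), (true, 33), (false, 54), (true, 22), (true, 50)], .cnt 0 [0], .cell [(true, 34), (false, 51), (true, 14), (true, 0), (true, 47)], .cnt 0 [0], .fin [56, 30, 58, 27, 12, 39, 2, 52, 51, 44, 25, 11, 43, 38, 53, 0, 4, 6, 54, 41, 20, 26, 18, 36, 16, 48, 57, 19, 10, 47, 46, 35, 17, 24, 9, 8, 49, 42, 23]] 9215 = true := by decide +kernel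

theorem sg7 : chkKey 3510 12 row 12 p7 keys [2496, 0] = true := by decide +kernel

theorem cm7 : chkC 3510 12 gens p7 [2, 4, 7] [3, 8] = true := by decide +kernel

theorem bd19 : chkB 3510 12 row 12 p19 [(false, 1), (false, 2), (false, 3), (true, 1), (true, 2), (true, 3)]
    [.cell [(false, 1), (false, 0), (false, 3)], .base 0 73 6, .cell [(false, 5), (false, 2), (false, 1), (true, 4), (true, 3), (true, 0)], .base 0 502 6, .cell [(false, 16), (false, 1), (true, 4), (true, 10), (true, 8), (true, 0), (true, 2), (true, 12), (true, 11)], .cnt 0 [11, 10, 12, 9, 8, 7, 6, 5], .cnt 1 [25, 26, 24, 27, 23, 28, 22, 20, 21, 29, 17, 19, 7, 10, 30], .cnt 4 [12, 11, 10, 13, 9, 8, 7], .cnt 37 [10, 11, 9, 12, 7], .cnt 27 [7, 8, 5, 6], .cell [(true, 30), (true, 13), (true, 8), (true, 38), (true, 44)], .cnt 0 [0], .cell [(true, 31), (true, 15), (false, 46), (true, 55), (true, 10), (true, 54), (true, 44)], .cnt 0 [0], .cell [(true, 30), (false, 49), (true, 11), (false, 52)], .cnt 0 [0], .fin [59, 14, 8, 44, 20, 2, 48, 53,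 4, 0, 21, 47, 9, 43, 56, 55, 54, 50, 49, 12, 19, 42, 36, 33, 34, 35, 40, 60, 13, 46, 18, 6, 58, 39, 31, 61, 30, 32]] 20735 = true := by decide +kernel

theorem sg19 : chkKey 3510 12 row 12 p19 keys [1024, 720] = true := by decide +kernel

theorem cm19 : chkC 3510 12 gens p19 [7, 1, 8, 3, 5, 7, 7, 2] [1, 2, 8, 7, 3, 4, 3] = true := by decide +kernel

theorem bd31 : chkB 3510 12 row 12 p31 [(false, 1), (false, 3), (true, 1), (true, 2), (true, 3)]
    [.cell [(false, 1), (false, 0), (false, 4)], .base 0 343 9, .cell [(true, 9), (false, 6), (false, 3), (true, 4), (true, 1), (true, 7)], .base 0 2928 9, .cell [(false, 16), (false, 5), (false, 10), (false, 8), (true, 21), (true, 22), (true, 12), (true, 14), (true, 3)], .cnt 0 [2, 1, 0], .cell [(false, 14), (false, 7), (false, 2), (false, 24), (true, 21), (true, 9), (true, 4), (true, 22), (true, 25), (true, 15), (true, 20), (true, 17), (true, 11)], .cnt 0 [3, 1, 0], .cell [(false, 29), (false, 12), (true, 6), (true, 2), (true, 28), (true, 26), (true, 18), (true,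 19), (true, 15), (true, 24)], .cnt 0 [1, 0], .cell [(true, 4), (false, 28), (false, 25), (false, 21), (true, 24), (true, 23)], .cnt 0 [2, 0], .cell [(true, 33), (false, 28), (false, 22), (false, 1), (true, 20), (true, 30), (true, 27)], .cnt 0 [2, 0], .cell [(false, 32), (false, 21), (false, 29), (false, 24), (true, 11), (false, 15), (true, 38), (false, 7)], .cnt 0 [0], .cell [(true, 16), (false, 37), (false, 36), (false, 35)], .cnt 0 [0], .cell [(true, 4), (false, 32), (false, 24), (false, 41), (true, 38)], .cnt 0 [0], .cell [(true, 6), (false, 25), (false, 23), (false, 31), (false, 43)], .cnt 0 [0], .cell [(false, 29), (true, 0), (false, 9), (true, 19), (false, 23), (true, 27), (true, 38), (true, 46), (true, 33)], .cnt 0 [0], .fin [21, 25, 47, 14, 11, 17, 0, 45, 40, 34, 27, 8, 44, 33, 6, 32, 28, 4, 29, 38, 39, 48, 49, 43, 2, 31, 20, 41, 42, 30, 50, 16, 10, 37, 35, 19, 13]] 647 = true := by decide +kernel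

theorem sg31 : chkKey 3510 12 row 12 p31 keys [972, 2208] = true := by decide +kernel

theorem cm31 : chkC 3510 12 gens p31 [8, 5, 7, 2, 8] [1, 3, 4, 7, 3] = true := by decide +kernel

theorem bd43 : chkB 3510 12 row 12 p43 [(false, 1), (false, 2), (false, 3), (false, 4), (false, 6), (true, 1), (true, 2), (true, 3)]
    [.cell [(false, 0), (true, 1), (false, 3), (false, 4)], .base 0 394 12, .cell [(false, 11), (false, 10), (false, 6), (true, 7), (true, 13), (true, 15), (true, 14), (true, 9), (true, 1)], .base 0 863 12, .cell [(true, 25), (false, 9), (false, 19), (false, 16), (true, 23), (true, 18)], .cnt 0 [0], .cell [(false, 18), (false, 4), (false, 29), (true, 28), (true, 2), (true, 16), (true, 30), (true, 17)], .cnt 0 [0], .cell [(true, 29), (true, 0), (false, 22), (false, 28), (true, 23), (true, 21)], .cnt 0 [0], .cell [(false, 23), (false, 21), (false, 16), (false, 7), (false, 34)], .cnt 0 [0], .cell [(false, 27), (false, 16), (false, 34), (false, 15), (false, 35)], .cnt 0 [0], .cell [(false, 28),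 (false, 18), (true, 6), (false, 13), (true, 33)], .cnt 0 [0], .cell [(false, 33), (false, 28), (false, 22), (true, 10), (false, 39)], .cnt 0 [0], .cell [(false, 38), (false, 33), (false, 31), (false, 20), (false, 42)], .cnt 0 [0], .cell [(false, 38), (false, 24), (false, 26), (true, 6), (true, 42), (true, 44), (true, 40)], .cnt 0 [0], .fin [45, 46, 44, 2, 0, 23, 32, 33, 6, 22, 16, 25, 12, 18, 14, 10, 40, 27, 41, 8, 39, 29, 38, 34, 31, 28, 19, 21, 4, 26, 35, 36, 37, 48, 20]] 575 = true := by decide +kernel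

theorem sg43 : chkKey 3510 12 row 12 p43 keys [1968, 2616] = true := by decide +kernel

theorem cm43 : chkC 3510 12 gens p43 [7, 5, 1] [0, 4, 3, 2] = true := by decide +kernel

theorem bd55 : chkB 3510 12 row 12 p55 [(false, 2), (false, 3), (false, 4), (false, 6), (false, 8), (true, 1), (true, 2), (true, 3)]
    [.cell [(false, 2), (false, 0), (true, 1), (false, 3)], .base 0 1594 12, .cell [(false, 14), (false, 0), (true, 7), (true, 1), (true, 3), (true, 8), (true, 9), (true, 15), (true, 2), (true, 6), (true, 4), (true, 11)], .cnt 0 [8, 9, 7, 6, 10, 4], .cell [(true, 23), (true, 1), (true, 22), (true, 13), (true, 12), (true, 20), (true, 18), (true, 17)], .cnt 0 [7, 8, 6, 5, 4, 3], .cnt 0 [19, 18, 20, 17, 21, 15, 16, 11, 8, 22, 6, 12], .cnt 4 [14, 13, 15, 11, 17, 12], .cnt 25 [26, 24, 27, 25, 29, 11, 21, 22], .cell [(true, 52), (true, 3), (false, 51), (false, 50)], .cnt 0 [0], .cell [(true, 22), (false, 57), (false, 48), (true, 39)], .cnt 0 [0], .cell [(true, 11), (false, 44), (false, 49), (false, 55), (true,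 45)], .cnt 0 [0], .fin [37, 44, 19, 59, 53, 48, 0, 4, 50, 2, 49, 36, 43, 54, 30, 18, 46, 56, 17, 51, 52, 47, 42, 55, 61, 31, 57, 10, 35, 13, 11, 12, 28, 60, 27, 9, 34, 16, 41, 22, 33, 26, 15]] 95 = true := by decide +kernel

theorem sg55 : chkKey 3510 12 row 12 p55 keys [2408, 1952] = true := by decide +kernel

theorem cm55 : chkC 3510 12 gens p55 [3, 4, 2, 0, 6] [7, 3, 2, 1, 5] = true := by decide +kernel

end Cfsg.Agent.H123.Cls.FiDat
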