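import Cfsg.Agent.H123.Cls.FiRep

set_option autoImplicit false
set_option maxRecDepth 1000000
set_option exponentiation.threshold 5000

namespace Cfsg.Agent.H123.Cls.FiDat

open Cfsg.Agent.H123.Cls
open Cfsg.Agent.H494.F22.Row (row)

theorem bd8 : chkB 3510 12 row 12 p8 [(false, 1), (false, 2), (true, 1), (true, 2)]
    [.cnt 3 [4], .cell [(false, 0), (false, 3)], .base 0 1 4, .cell [(false, 7), (false, 2), (true, 0), (true, 3), (true, 1)], .base 0 90 4, .cell [(false, 8), (false, 0), (true, 11), (true, 7), (true, 5), (true, 3), (true, 1)], .cnt 0 [18, 17, 16, 20, 19, 14, 15, 21, 12, 22], .cell [(false, 23), (true, 5), (false, 12), (true, 14), (true, 17), (true, 16), (true, 13)], .cnt 0 [6, 5, 4, 7, 3, 1], .cell [(true, 12), (false, 24), (true, 5), (true, 20), (false, 28), (true, 18), (true, 26), (true, 25)], .cnt 0 [6, 5, 7, 3, 2], .cell [(true, 18), (true, 2), (true, 35), (true, 11), (true, 29), (true, 32), (true, 26)], .cnt 0 [6, 7, 5, 4, 3], .cnt 6 [20, 19, 21, 18, 23, 17, 3, 8, 13, 16], .cnt 10 [23, 24,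 21, 22, 26, 13, 19, 27], .cell [(true, 13), (true, 6), (false, 51), (false, 55)], .cnt 0 [0], .cell [(true, 35), (true, 6), (true, 48), (false, 57)], .cnt 0 [0], .fin [62, 32, 39, 25, 57, 54, 2, 60, 0, 59, 26, 53, 38, 31, 50, 58, 21, 46, 20, 49, 19, 48, 10, 11, 18, 55, 47, 9, 8, 30, 7, 24, 63, 52, 64, 17, 45, 37, 28, 23, 6]] 24575 = true := by decide +kernel

theorem sg8 : chkKey 3510 12 row 12 p8 keys [3072, 0] = true := by decide +kernel

theorem cm8 : chkC 3510 12 gens p8 [3, 7, 5, 1, 0, 8, 2, 4, 6, 1, 5, 7, 3] [4, 3, 2] = true := by decide +kernel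

theorem bd20 : chkB 3510 12 row 12 p20 [(false, 1), (false, 2), (false, 3), (true, 1), (true, 2), (true, 3)]
    [.cnt 5 [6, 9, 0], .cell [(true, 4), (true, 5), (false, 1)], .base 0 0 6, .cell [(false, 4), (false, 3), (true, 8), (false, 12), (true, 5), (true, 2)], .base 0 15 6, .cell [(false, 9), (false, 19), (true, 18), (true, 12), (false, 16), (true, 4), (true, 3), (true, 10), (true, 8), (true, 5), (true, 2), (true, 1), (true, 0)], .cnt 0 [8, 9, 7, 6, 5, 3, 4], .cnt 1 [12, 11, 10, 9, 13, 14, 6, 7], .cell [(false, 26), (false, 20), (true, 7), (true, 31), (true, 34), (true, 13), (true, 25), (true, 19)], .cnt 0 [2, 0], .cnt 25 [3, 2], .cell [(false, 21), (true, 12), (false, 38), (true, 39), (false, 1), (false, 0), (true, 3), (true, 33), (true, 28), (false, 17)], .cnt 0 [2, 0], .cell [(true, 18), (true, 14), (false, 35), (true, 42)], .cnt 0 [1, 0], .cell [(true, 6), (true, 25), (false, 4), (true, 18), (true, 32), (true, 45), (false, 46)], .cnt 0 [0], .cell [(true, 18), (true, 26), (false, 36), (false, 37), (true,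 29)], .cnt 0 [0], .cell [(true, 19), (false, 39), (true, 2), (true, 44), (true, 38)], .cnt 0 [0], .cell [(true, 22), (false, 33), (true, 46), (false, 38), (true, 29), (true, 45)], .cnt 0 [0], .cell [(false, 44), (false, 37), (true, 0), (false, 12), (false, 38)], .cnt 0 [0], .fin [55, 19, 17, 14, 54, 11, 35, 28, 0, 44, 45, 42, 34, 4, 49, 52, 46, 6, 41, 8, 47, 37, 2, 24, 48, 25, 39, 33, 38, 56, 53, 40, 26, 13, 18, 16]] 3455 = true := by decide +kernel

theorem sg20 : chkKey 3510 12 row 12 p20 keys [1824, 1440] = true := by decide +kernel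

theorem cm20 : chkC 3510 12 gens p20 [7, 1, 5] [3, 2, 4, 8] = true := by decide +kernel

theorem bd32 : chkB 3510 12 row 12 p32 [(false, 1), (false, 2), (false, 5), (true, 1), (true, 2), (true, 3)]
    [.cell [(false, 2), (false, 0), (false, 1), (false, 3), (false, 4)], .base 0 564 10, .cell [(false, 8), (false, 4), (false, 6), (false, 3), (true, 11), (true, 1), (true, 5)], .base 0 568 10, .cell [(true, 25), (false, 7), (true, 24), (true, 20), (true, 17), (true, 18), (true, 23), (true, 16), (true, 9), (true, 8), (true, 6), (true, 5)], .cnt 0 [2, 0], .cell [(false, 6), (false, 26), (true, 1), (true, 4), (true, 11), (true, 12), (true, 25), (true, 15), (true, 10), (true, 27), (true, 22), (true, 21), (true, 16), (true, 17), (true, 9), (true, 8)], .cnt 0 [4, 3, 5], .cell [(false, 5), (true, 2), (true, 14), (true, 30), (true, 16), (true, 9), (true, 12), (true, 13), (true, 11), (true, 15), (true, 31), (false, 32), (true, 24), (true, 26), (true, 25), (true, 21), (true, 20), (true, 19), (true, 18), (true, 7), (true,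 8)], .cnt 0 [4, 5, 2, 3], .cell [(false, 27), (false, 18), (false, 19), (false, 10), (true, 36), (true, 26)], .cnt 0 [0], .cell [(false, 34), (true, 2), (false, 22), (false, 33), (true, 38), (false, 31)], .cnt 0 [0], .cell [(false, 38), (false, 22), (false, 36), (false, 33), (true, 30), (true, 39)], .cnt 0 [0], .cell [(false, 26), (false, 25), (true, 12), (true, 4), (true, 41)], .cnt 0 [0], .cell [(false, 42), (false, 24), (true, 8), (false, 22), (false, 39)], .cnt 0 [0], .cell [(false, 46), (false, 42), (true, 0), (true, 8), (false, 45)], .cnt 0 [0], .fin [19, 15, 22, 47, 6, 27, 0, 24, 36, 25, 4, 8, 38, 2, 31, 42, 33, 29, 14, 48, 18, 32, 40, 44, 10, 28, 35, 41, 30, 37, 49, 12, 46, 21, 39, 26, 17]] 79 = true := by decide +kernel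

theorem sg32 : chkKey 3510 12 row 12 p32 keys [2324, 2120] = true := by decide +kernel

theorem cm32 : chkC 3510 12 gens p32 [3, 5, 2, 7, 0] [1, 4, 8] = true := by decide +kernel

theorem bd44 : chkB 3510 12 row 12 p44 [(false, 1), (false, 3), (false, 4), (false, 6), (true, 1), (true, 2), (true, 3)]
    [.cell [(false, 0), (true, 1), (false, 3)], .base 0 0 12, .cell [(false, 11), (false, 4), (false, 15), (false, 1), (true, 8)], .base 0 22 12, .cell [(false, 27), (false, 3), (false, 26), (true, 5), (true, 22), (true, 17), (true, 4), (true, 0), (true, 23), (true, 21)], .cnt 0 [3, 2, 1], .cell [(false, 26), (false, 21), (false, 18), (true, 2), (true, 30), (true, 22), (true, 14)], .cnt 0 [1, 0], .cell [(true, 4), (false, 17), (true, 32), (true, 1), (true, 26), (true, 29)], .cnt 0 [0], .cell [(true, 6), (false, 17), (false, 9), (false, 11), (true, 37), (true, 31)], .cnt 0 [0], .cell [(false, 38), (false, 22), (true, 0), (false, 12), (true, 13)], .cnt 0 [0], .cell [(false, 29), (false, 41), (false, 22), (true, 23),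 (true, 16), (true, 21), (true, 33), (false, 11), (true, 37), (true, 36), (false, 10)], .cnt 0 [0], .cell [(true, 11), (false, 28), (false, 20), (true, 43), (true, 42)], .cnt 0 [0], .cell [(false, 38), (false, 28), (true, 4), (true, 11), (false, 34), (true, 43), (true, 41)], .cnt 0 [0], .cell [(true, 16), (false, 40), (false, 29), (false, 38)], .cnt 0 [0], .fin [47, 19, 15, 37, 26, 2, 36, 12, 10, 0, 28, 6, 25, 49, 4, 38, 8, 21, 41, 24, 45, 34, 48, 18, 22, 39, 43, 23, 32, 31, 44, 29, 40, 17, 51]] 1727 = true := by decide +kernel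

theorem sg44 : chkKey 3510 12 row 12 p44 keys [1312, 864] = true := by decide +kernel

theorem cm44 : chkC 3510 12 gens p44 [7, 5, 2, 1, 6, 3, 2, 5, 7] [1, 0, 4, 8, 7, 3, 6, 5, 4] = true := by decide +kernel

theorem bd56 : chkB 3510 12 row 12 p56 [(false, 2), (false, 3), (false, 4), (false, 6), (false, 8), (true, 1), (true, 2), (true, 3)]
    [.cell [(true, 5), (false, 2), (false, 7)], .cnt 0 [2, 3, 0], .cell [(false, 6), (true, 2), (false, 7)], .base 0 0 12, .cell [(false, 1), (false, 0), (false, 15), (false, 14), (true, 7), (true, 10), (true, 6), (true, 9), (true, 17), (true, 3), (true, 19), (true, 11), (true, 5), (true, 4)], .cnt 0 [5, 4, 6, 2], .cell [(true, 1), (false, 19), (false, 20), (true, 7), (true, 15), (true, 11), (true, 13), (true, 10), (true, 9), (true, 14), (true, 12), (true, 16), (true, 23), (true, 22), (true, 8), (true, 5), (true, 6), (true, 24), (false, 26)], .cnt 0 [27, 28, 26, 29, 25, 24, 23, 30, 22, 20, 31, 32], .cnt 2 [10, 11, 9, 7, 8, 5], .cnt 0 [25, 24, 23, 26, 21, 28, 22], .cell [(true,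 23), (false, 31), (false, 34), (true, 11), (true, 45), (true, 50)], .cnt 0 [0], .cell [(true, 20), (false, 52), (true, 30), (false, 47)], .cnt 0 [0], .cell [(true, 24), (true, 7), (false, 46), (false, 41)], .cnt 0 [0], .fin [35, 51, 18, 54, 2, 42, 46, 47, 45, 4, 0, 39, 41, 17, 43, 38, 37, 16, 56, 33, 44, 40, 48, 30, 28, 12, 27, 25, 29, 14, 11, 52, 10, 22, 8, 7, 34, 55, 23, 21, 58, 13, 6]] 95 = true := by decide +kernel

theorem sg56 : chkKey 3510 12 row 12 p56 keys [2280, 2048] = true := by decide +kernel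

theorem cm56 : chkC 3510 12 gens p56 [8, 0, 2, 4, 6] [1, 5, 7, 3] = true := by decide +kernel

end Cfsg.Agent.H123.Cls.FiDat
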