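import Cfsg.Agent.H123.Cls.FiRep

set_option autoImplicit false
set_option maxRecDepth 1000000
set_option exponentiation.threshold 5000

namespace Cfsg.Agent.H123.Cls.FiDat

open Cfsg.Agent.H123.Cls
open Cfsg.Agent.H494.F22.Row (row)

theorem bd9 : chkB 3510 12 row 12 p9 [(false, 1), (false, 2), (true, 1), (true, 2)]
    [.cnt 3 [8, 10, 0, 12], .cell [(true, 7), (false, 3)], .cnt 0 [0], .cell [(true, 2), (true, 7), (false, 6), (false, 8), (false, 0)], .base 0 26 4, .cell [(false, 3), (false, 2), (false, 7), (false, 9), (true, 12)], .base 0 754 4, .cell [(false, 3), (true, 16), (true, 12), (true, 8), (true, 7), (true, 2), (true, 0), (true, 6), (true, 5)], .cnt 0 [16, 17, 15, 18, 14, 13, 12, 19, 11, 8], .cell [(true, 4), (false, 13), (true, 20), (true, 11), (true, 17), (true, 16)], .cnt 0 [3, 4, 2], .cell [(true, 13), (false, 16), (true, 2), (true, 29), (true, 32), (true, 31), (true, 21), (true, 23)], .cnt 0 [3, 2, 0], .cnt 8 [6, 5, 4, 0], .cell [(true, 20), (false, 31), (true, 37), (true, 10), (false, 39), (true,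 29), (true, 6), (true, 24)], .cnt 0 [2, 0], .cell [(true, 24), (false, 43), (false, 1), (true, 6), (true, 38), (true, 12), (true, 34), (true, 33), (true, 9)], .cnt 0 [0], .cell [(true, 25), (true, 37), (false, 28), (true, 14), (true, 36), (false, 8), (true, 35)], .cnt 0 [0], .cell [(true, 20), (true, 17), (true, 33), (true, 12), (false, 48), (true, 47), (true, 38)], .cnt 0 [0], .cell [(true, 27), (false, 40), (true, 41), (true, 38), (true, 7), (true, 32), (false, 19), (true, 37)], .cnt 0 [0], .cell [(true, 52), (true, 25), (true, 49), (false, 42)], .cnt 0 [0], .cell [(true, 31), (false, 44), (false, 43), (true, 45), (false, 11)], .cnt 0 [0], .cell [(true, 29), (false, 41), (false, 45), (true, 50)], .cnt 0 [0], .cell [(true, 37), (true, 6), (false, 41), (true, 54), (true, 26), (false, 22)], .cnt 0 [0], .fin [54, 25, 28, 17, 22, 58, 47, 8, 10, 2, 14, 6, 4, 21, 0, 59, 48, 12, 44, 40, 29, 45, 39, 37, 42, 50, 43, 38, 56, 49, 60, 27, 57, 35, 24, 16]] 6143 = true := by decide +kernel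

theorem sg9 : chkKey 3510 12 row 12 p9 keys [2560, 0] = true := by decide +kernel

theorem cm9 : chkC 3510 12 gens p9 [8, 4] [5, 7, 3] = true := by decide +kernel

theorem bd21 : chkB 3510 12 row 12 p21 [(false, 1), (false, 2), (false, 3), (true, 1), (true, 3)]
    [.cell [(false, 1), (true, 0)], .base 0 3 6, .cell [(false, 3), (false, 8), (false, 7), (true, 4), (true, 2), (false, 10)], .base 0 914 6, .cell [(false, 10), (false, 0), (true, 11), (true, 5), (true, 9), (true, 3), (true, 1), (false, 14), (true, 12), (true, 8)], .cnt 0 [10, 11, 12, 9, 8, 7, 6, 5], .cell [(false, 9), (true, 7), (true, 24), (true, 16), (true, 10), (true, 18), (false, 23), (true, 20), (true, 14), (true, 12), (true, 21), (true, 17), (true, 19)], .cnt 0 [8, 9, 7, 10, 6, 5], .cnt 7 [14, 13, 15, 12, 16, 10, 9, 2], .cell [(true, 4), (true, 12), (true, 19), (true, 27), (true, 25), (false, 38), (true, 34), (false, 40), (true, 39), (true, 29)], .cnt 0 [1, 0], .cnt 19 [21, 20, 22, 25, 19, 23], .cell [(true, 10), (true, 3), (true, 47)], .cnt 0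 [0], .cell [(true, 6), (false, 37), (true, 0), (true, 33)], .cnt 0 [0], .cell [(true, 23), (true, 35), (true, 18), (false, 40), (true, 47)], .cnt 0 [0], .cell [(true, 17), (false, 41), (true, 33), (false, 53)], .cnt 0 [0], .fin [15, 30, 55, 38, 56, 24, 43, 51, 49, 6, 2, 41, 39, 53, 29, 22, 4, 46, 42, 13, 0, 50, 8, 44, 45, 21, 37, 28, 52, 9, 12, 48, 27, 19, 10, 58, 57, 23, 20, 17]] 13823 = true := by decide +kernel

theorem sg21 : chkKey 3510 12 row 12 p21 keys [448, 2424] = true := by decide +kernel

theorem cm21 : chkC 3510 12 gens p21 [1, 4, 6] [0, 5] = true := by decide +kernel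

theorem bd33 : chkB 3510 12 row 12 p33 [(false, 1), (false, 2), (false, 5), (true, 1), (true, 2), (true, 3)]
    [.cnt 5 [3, 0, 1], .cell [(false, 5), (false, 3), (true, 2)], .base 0 4 10, .cell [(false, 4), (false, 0), (true, 13), (false, 15), (true, 8), (true, 16), (true, 7), (true, 6)], .base 0 349 10, .cell [(true, 28), (false, 16), (true, 24), (true, 9), (true, 5), (true, 27), (true, 26), (true, 7), (true, 8), (true, 6)], .cnt 0 [6, 4, 8, 3, 5], .cnt 16 [4, 2], .cell [(false, 26), (false, 35), (false, 25), (true, 32), (true, 6), (true, 33), (true, 15), (true, 13)], .cnt 0 [2, 0], .cell [(true, 39), (false, 31), (false, 18), (false, 37), (false, 30), (true, 19)], .cnt 0 [0], .cell [(false, 31), (false, 27), (false, 28), (true, 39), (true, 29), (true, 15), (true, 16), (false, 9), (true, 38), (true, 21)], .cnt 0 [0], .cell [(true, 43), (true, 13), (false, 8), (true, 24), (true, 5), (true, 41), (true, 21), (false, 39), (false, 7), (true, 20), (true, 23), (false, 2), (true, 42), (false, 0)], .cnt 0 [3, 2, 1],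 .cell [(false, 37), (false, 23), (false, 45), (false, 36), (true, 43), (true, 38)], .cnt 0 [0], .cell [(false, 37), (true, 17), (false, 36), (false, 23), (false, 13), (false, 49)], .cnt 0 [0], .cell [(true, 15), (false, 28), (false, 50), (false, 13), (true, 47)], .cnt 0 [0], .cell [(true, 14), (true, 22), (false, 50)], .cnt 0 [0], .fin [51, 10, 20, 25, 17, 53, 52, 4, 2, 12, 27, 34, 47, 30, 33, 6, 54, 14, 23, 43, 41, 19, 0, 46, 9, 39, 35, 32, 42, 50, 31, 55, 45, 8, 22]] 119 = true := by decide +kernel

theorem sg33 : chkKey 3510 12 row 12 p33 keys [2036, 2000] = true := by decide +kernel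

theorem cm33 : chkC 3510 12 gens p33 [3, 5, 2] [4, 3, 6, 7] = true := by decide +kernel

theorem bd45 : chkB 3510 12 row 12 p45 [(true, 1), (true, 2), (true, 3)]
    [.cell [(false, 2), (false, 0), (true, 1)], .cnt 0 [29, 33, 28, 30, 32, 34, 35, 27, 31, 24, 26, 36, 22], .cell [(true, 6), (false, 16), (false, 15)], .base 0 467 12, .cell [(true, 17), (false, 5), (false, 1), (true, 4), (true, 2), (true, 28)], .cnt 0 [4, 2, 1], .cell [(true, 29), (false, 9), (false, 31), (false, 5)], .cnt 0 [2, 0], .cell [(true, 27), (false, 18), (false, 17), (true, 5), (true, 1), (true, 15)], .cnt 0 [3, 1, 0], .cell [(true, 29), (false, 5), (false, 9), (true, 16), (true, 12), (false, 8), (true, 22), (true, 19)], .cnt 0 [3, 2, 1], .cell [(true, 30), (false, 20), (true, 0)], .cnt 0 [0], .cell [(true, 35), (false, 45), (false, 23)], .cnt 0 [0], .cell [(true, 39), (false, 23), (false, 48), (false, 22), (false, 17)], .cnt 0 [0], .cell [(true, 11), (true, 45), (false, 49), (false, 23)], .cnt 0 [0], .cell [(false, 52), (false, 51), (true,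 10), (false, 21), (false, 43), (false, 20), (false, 37), (false, 45), (false, 38), (true, 14)], .cnt 0 [0], .cell [(true, 22), (false, 34), (true, 0), (false, 53)], .cnt 0 [0], .cell [(true, 13), (false, 38), (false, 27), (true, 48), (false, 29), (true, 55)], .cnt 0 [0], .fin [20, 27, 16, 23, 56, 10, 29, 6, 36, 8, 58, 39, 33, 12, 4, 50, 57, 0, 30, 37, 2, 40, 34, 32, 26, 35, 15, 53, 31, 46, 49, 19, 51, 47, 25, 18]] 12 = true := by decide +kernel

theorem sg45 : chkKey 3510 12 row 12 p45 keys [2184, 2184] = true := by decide +kernel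

theorem cm45 : chkC 3510 12 gens p45 [5, 8, 2, 0] [1, 3, 4, 7] = true := by decide +kernel

theorem bd57 : chkB 3510 12 row 12 p57 [(false, 1), (false, 3), (false, 5), (false, 6), (true, 1), (true, 2), (true, 3)]
    [.cell [(false, 2), (false, 0), (false, 1), (false, 4)], .base 0 1 12, .cell [(false, 7), (false, 5), (true, 8), (true, 4), (true, 10), (true, 14), (true, 9), (true, 3), (true, 2), (true, 13), (true, 0), (true, 11), (true, 1)], .cnt 0 [10, 11, 9, 12, 8, 7, 6], .cnt 0 [23, 28, 26, 22, 24, 27, 20, 25, 19, 29, 18, 2, 4, 10], .cnt 38 [9, 8, 7, 10], .cnt 7 [53, 49, 52, 50, 48, 54, 59, 46, 47, 39, 41, 55, 56], .cell [(true, 20), (false, 50), (false, 42), (true, 52)], .cnt 0 [0], .cell [(true, 36), (false, 55), (true, 17), (false, 27), (true, 52), (true, 56), (true, 42), (false, 31), (false, 28), (true, 48), (false, 23), (false, 8)], .cnt 0 [0], .cell [(true, 27), (true, 41), (true, 16), (true, 43), (false, 0), (false, 20), (false, 19)], .cnt 0 [0], .cell [(true, 18), (false, 50), (false, 56), (false, 49),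 (true, 55)], .cnt 0 [0], .cell [(true, 35), (false, 53), (true, 45), (false, 62), (false, 49)], .cnt 0 [0], .fin [26, 47, 62, 63, 49, 6, 56, 60, 4, 0, 59, 46, 52, 25, 53, 2, 57, 8, 50, 55, 44, 40, 51, 37, 36, 64, 58, 24, 35, 21, 19, 20, 22, 34, 43, 32, 17, 14, 16, 15, 39, 38, 33, 31, 28]] 59 = true := by decide +kernel

theorem sg57 : chkKey 3510 12 row 12 p57 keys [2240, 2228] = true := by decide +kernel

theorem cm57 : chkC 3510 12 gens p57 [4, 0, 3, 6, 8, 4] [5, 7, 3, 2, 1] = true := by decide +kernel

end Cfsg.Agent.H123.Cls.FiDat
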