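import Cfsg.Agent.H494.F22.RepCard
import Cfsg.Agent.H777.Ore.Base
import Cfsg.Agent.H134.Sq.Base
import Cfsg.Agent.H123.Cls.FiC0
import Cfsg.Agent.H123.Cls.FiC1
import Cfsg.Agent.H123.Cls.FiC2
import Cfsg.Agent.H123.Cls.FiC3
import Cfsg.Agent.H123.Cls.FiC4
import Cfsg.Agent.H123.Cls.FiC5
import Cfsg.Agent.H123.Cls.FiC6
import Cfsg.Agent.H123.Cls.FiC7
import Cfsg.Agent.H123.Cls.FiC8
import Cfsg.Agent.H123.Cls.FiC9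
import Cfsg.Agent.H123.Cls.FiC10
import Cfsg.Agent.H123.Cls.FiC11

/-!
# The classes of `Fi22` and the Ore conjecture for `Fi22` (helper123; words of helper878, model of helper494)

`words_cover` : every element of `Fi22` is the image under an automorphism of one of 59 explicit commutators
`[t₁ t₂, b]` with `t₁² = t₂² = 1`.
`ore_fi22`, `four_fi22`, `sq_fi22` : the rows of S2443, S4171, S2453.
-/

set_option autoImplicit false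
set_option maxRecDepth 1000000
set_option exponentiation.threshold 5000

namespace Cfsg.Agent.H123.Cls.FiDat

open Cfsg Cfsg.Spor Cfsg.Agent.H123.Cls Cfsg.Agent.Lib.BitNet
open Cfsg.Agent.H494.F22 (A N A_conj card_A card_N N_le_A A_le_Aut rho rho_of rho_injective S S_val S_mul_self ix
  exists_aut gens_tb)
open Cfsg.Agent.H494.F22.Row (row)
open Cfsg.Agent.Lib.BitNetSimple (force force_eq)

/-- table, `t₁ t₂`, `b`, `t₁`, `t₂` -/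
noncomputable def W : List (ℕ × List ℕ × List ℕ × List ℕ × List ℕ) := [(p0, [3, 7, 4, 3], [2, 4], [3, 7, 4, 3], []),
  (p1, [7], [3, 8], [7], []),
  (p2, [8, 6, 5, 4, 3, 2, 7, 0, 4, 2, 2, 3, 4, 5, 6, 8], [3, 4, 6, 7, 8, 7, 3, 2, 4], [8, 6, 5, 4, 3, 2, 7, 0, 4, 2, 2, 3, 4, 5, 6, 8], []),
  (p3, [1, 8, 6], [2, 5, 7], [1, 8, 6], []),
  (p4, [3, 7, 4, 0, 3, 8, 5, 4, 7, 3], [2, 8, 7], [3, 7, 4, 0, 3, 8, 5, 4, 7, 3], []),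
  (p5, [0, 3], [1, 7], [0, 3], []),
  (p6, [2], [1], [2], []),
  (p7, [2, 4, 7], [3, 8], [2, 4, 7], []),
  (p8, [3, 7, 5, 1, 0, 8, 2, 4, 6, 1, 5, 7, 3], [4, 3, 2], [3, 7, 5, 1, 0, 8, 2, 4, 6, 1, 5, 7, 3], []),
  (p9, [8, 4], [5, 7, 3], [8, 4], []),
  (p10, [3, 5, 2, 7, 3], [4, 6, 8, 7, 3, 5, 4], [3, 5, 2, 7, 3], []),
  (p11, [1, 5, 3], [0, 2, 4, 6], [1, 5, 3], []),
  (p12, [8, 2], [7, 3], [8, 2], []),
  (p13, [7, 2, 4], [1, 3, 5], [7, 2, 4], []),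
  (p14, [4, 7, 2], [1, 3, 8], [4, 7, 2], []),
  (p15, [8, 2, 5], [1, 4, 7, 3], [8, 2, 5], []),
  (p16, [1, 7, 4], [2, 3], [1, 7, 4], []),
  (p17, [5, 0, 3, 8], [1, 6, 7], [5, 0, 3, 8], []),
  (p18, [4, 3, 6, 2, 3], [7, 3, 5], [4], [3, 6, 2, 3]),
  (p19, [7, 1, 8, 3, 5, 7, 7, 2], [1, 2, 8, 7, 3, 4, 3], [7, 1, 8, 3, 5, 7], [7, 2]),
  (p20, [7, 1, 5], [3, 2, 4, 8], [7, 1, 5], []),
  (p21, [1, 4, 6], [0, 5], [1], [4, 6]),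
  (p22, [1, 7, 0, 5, 2, 1], [3, 2, 6, 7, 3, 5, 4, 5, 7, 3, 4, 8], [1, 7, 0, 5, 2, 1], []),
  (p23, [3, 6, 7, 2, 3], [5, 4, 7], [3, 6, 7, 2, 3], []),
  (p24, [0, 8, 3], [1, 2, 7], [0, 8, 3], []),
  (p25, [5, 2, 8], [3, 4, 6, 7], [5, 2, 8], []),
  (p26, [1, 7, 6, 3, 0], [1, 2, 4, 3, 5, 4], [1, 7], [6, 3, 0]),
  (p27, [5, 4, 6, 7, 0], [1, 3, 2, 6, 7, 3], [5], [4, 6, 7, 0]),
  (p28, [7, 5, 4, 2, 1, 3, 5, 2, 4], [0, 6, 7, 3], [7, 5], [4, 2, 1, 3, 5, 2, 4]),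
  (p29, [5, 1, 7], [2, 3, 4], [5, 1, 7], []),
  (p30, [4, 8, 2], [1, 7, 3], [4, 8, 2], []),
  (p31, [8, 5, 7, 2, 8], [1, 3, 4, 7, 3], [8, 5, 7, 2, 8], []),
  (p32, [3, 5, 2, 7, 0], [1, 4, 8], [3], [5, 2, 7, 0]),
  (p33, [3, 5, 2], [4, 3, 6, 7], [3, 5], [2]),
  (p34, [3, 2, 8, 6, 0], [1, 8, 7, 3, 4, 5], [3], [2, 8, 6, 0]),
  (p35, [7, 5, 1], [2, 4, 3], [7, 5, 1], []),
  (p36, [6, 2, 4, 3, 1, 4], [0, 5, 7, 3], [6, 2], [4, 3, 1, 4]),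
  (p37, [7, 5, 1], [4, 3, 2, 4, 3, 8], [7, 5], [1]),
  (p38, [2, 5, 8], [1, 6, 7, 3], [2, 5, 8], []),
  (p39, [7, 4, 6, 0, 2], [1, 3, 5], [7, 4, 6, 0, 2], []),
  (p40, [2, 7, 6, 4, 7, 3, 1, 7], [0, 2, 8, 7, 3, 4, 5, 8], [2, 7, 6, 4], [7, 3, 1, 7]),
  (p41, [8, 2, 5], [4, 7, 3], [8, 2, 5], []),
  (p42, [8, 3, 7, 0, 4, 3, 8, 5, 2, 8], [6, 7, 3, 2, 1], [8, 3, 7, 0, 4, 3, 8], [5, 2, 8]),
  (p43, [7, 5, 1], [0, 4, 3, 2], [7, 5, 1], []),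
  (p44, [7, 5, 2, 1, 6, 3, 2, 5, 7], [1, 0, 4, 8, 7, 3, 6, 5, 4], [7, 5, 2, 1, 6, 3, 2, 5, 7], []),
  (p45, [5, 8, 2, 0], [1, 3, 4, 7], [5, 8, 2, 0], []),
  (p46, [2, 8, 4, 0], [1, 7, 3, 5], [2, 8, 4, 0], []),
  (p47, [4, 8, 0], [1, 7, 3], [4, 8, 0], []),
  (p48, [7, 2, 2, 1, 3, 6, 8, 2], [0, 2, 7, 3, 4, 5], [7, 2], [2, 1, 3, 6, 8, 2]),
  (p49, [2, 5, 0, 8], [1, 4, 7, 3, 6], [2, 5, 0, 8], []),
  (p50, [1, 4, 8], [5, 7, 3, 2], [1, 4, 8], []),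
  (p51, [2, 3, 2, 5, 8, 1], [0, 4, 3, 7], [2, 3, 2], [5, 8, 1]),
  (p52, [5, 1, 8, 4], [6, 7, 3, 2], [5], [1, 8, 4]),
  (p53, [2, 5, 0, 8], [1, 6, 7, 3], [2, 5, 0, 8], []),
  (p54, [2, 7, 1, 8, 6, 4], [0, 5, 7, 3, 4, 7, 3], [2, 7], [1, 8, 6, 4]),
  (p55, [3, 4, 2, 0, 6], [7, 3, 2, 1, 5], [3], [4, 2, 0, 6]),
  (p56, [8, 0, 2, 4, 6], [1, 5, 7, 3], [8, 0, 2, 4, 6], []),
  (p57, [4, 0, 3, 6, 8, 4], [5, 7, 3, 2, 1], [4, 0, 3, 6, 8, 4], []),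
  (p58, [0], [0], [0], [])]

theorem W_chk : ∀ x ∈ W, chkC 3510 12 gens x.1 x.2.1 x.2.2.1 = true :=
  List.forall_mem_cons.2 ⟨cm0, List.forall_mem_cons.2 ⟨cm1, List.forall_mem_cons.2 ⟨cm2, 
  List.forall_mem_cons.2 ⟨cm3, List.forall_mem_cons.2 ⟨cm4, List.forall_mem_cons.2 ⟨cm5, 
  List.forall_mem_cons.2 ⟨cm6, List.forall_mem_cons.2 ⟨cm7, List.forall_mem_cons.2 ⟨cm8, 
  List.forall_mem_cons.2 ⟨cm9, List.forall_mem_cons.2 ⟨cm10, List.forall_mem_cons.2 ⟨cm11, 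
  List.forall_mem_cons.2 ⟨cm12, List.forall_mem_cons.2 ⟨cm13, List.forall_mem_cons.2 ⟨cm14, 
  List.forall_mem_cons.2 ⟨cm15, List.forall_mem_cons.2 ⟨cm16, List.forall_mem_cons.2 ⟨cm17, 
  List.forall_mem_cons.2 ⟨cm18, List.forall_mem_cons.2 ⟨cm19, List.forall_mem_cons.2 ⟨cm20, 
  List.forall_mem_cons.2 ⟨cm21, List.forall_mem_cons.2 ⟨cm22, List.forall_mem_cons.2 ⟨cm23, 
  List.forall_mem_cons.2 ⟨cm24, List.forall_mem_cons.2 ⟨cm25, List.forall_mem_cons.2 ⟨cm26, 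
  List.forall_mem_cons.2 ⟨cm27, List.forall_mem_cons.2 ⟨cm28, List.forall_mem_cons.2 ⟨cm29, 
  List.forall_mem_cons.2 ⟨cm30, List.forall_mem_cons.2 ⟨cm31, List.forall_mem_cons.2 ⟨cm32, 
  List.forall_mem_cons.2 ⟨cm33, List.forall_mem_cons.2 ⟨cm34, List.forall_mem_cons.2 ⟨cm35, 
  List.forall_mem_cons.2 ⟨cm36, List.forall_mem_cons.2 ⟨cm37, List.forall_mem_cons.2 ⟨cm38, 
  List.forall_mem_cons.2 ⟨cm39, List.forall_mem_cons.2 ⟨cm40, List.forall_mem_cons.2 ⟨cm41, 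
  List.forall_mem_cons.2 ⟨cm42, List.forall_mem_cons.2 ⟨cm43, List.forall_mem_cons.2 ⟨cm44, 
  List.forall_mem_cons.2 ⟨cm45, List.forall_mem_cons.2 ⟨cm46, List.forall_mem_cons.2 ⟨cm47, 
  List.forall_mem_cons.2 ⟨cm48, List.forall_mem_cons.2 ⟨cm49, List.forall_mem_cons.2 ⟨cm50, 
  List.forall_mem_cons.2 ⟨cm51, List.forall_mem_cons.2 ⟨cm52, List.forall_mem_cons.2 ⟨cm53, 
  List.forall_mem_cons.2 ⟨cm54, List.forall_mem_cons.2 ⟨cm55, List.forall_mem_cons.2 ⟨cm56, 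
  List.forall_mem_cons.2 ⟨cm57, List.forall_mem_cons.2 ⟨cm58, List.forall_mem_nil _⟩⟩⟩⟩⟩⟩⟩⟩⟩⟩⟩⟩⟩⟩⟩⟩⟩⟩⟩⟩⟩⟩⟩⟩⟩⟩⟩⟩⟩⟩⟩⟩⟩⟩⟩⟩⟩⟩⟩⟩⟩⟩⟩⟩⟩⟩⟩⟩⟩⟩⟩⟩⟩⟩⟩⟩⟩⟩⟩

theorem D_bd : ∀ x ∈ D, ∃ l L, chkB 3510 12 row 12 x.1 l L x.2.1 = true :=
  List.forall_mem_cons.2 ⟨⟨_, _, bd0⟩, List.forall_mem_cons.2 ⟨⟨_, _, bd1⟩, List.forall_mem_cons.2 ⟨⟨_, _, bd2⟩, 
  List.forall_mem_cons.2 ⟨⟨_, _, bd3⟩, List.forall_mem_cons.2 ⟨⟨_, _, bd4⟩, List.forall_mem_cons.2 ⟨⟨_, _, bd5⟩, 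
  List.forall_mem_cons.2 ⟨⟨_, _, bd6⟩, List.forall_mem_cons.2 ⟨⟨_, _, bd7⟩, List.forall_mem_cons.2 ⟨⟨_, _, bd8⟩, 
  List.forall_mem_cons.2 ⟨⟨_, _, bd9⟩, List.forall_mem_cons.2 ⟨⟨_, _, bd10⟩, List.forall_mem_cons.2 ⟨⟨_, _, bd11⟩, 
  List.forall_mem_cons.2 ⟨⟨_, _, bd12⟩, List.forall_mem_cons.2 ⟨⟨_, _, bd13⟩, List.forall_mem_cons.2 ⟨⟨_, _, bd14⟩, 
  List.forall_mem_cons.2 ⟨⟨_, _, bd15⟩, List.forall_mem_cons.2 ⟨⟨_, _, bd16⟩, List.forall_mem_cons.2 ⟨⟨_, _, bd17⟩, 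
  List.forall_mem_cons.2 ⟨⟨_, _, bd18⟩, List.forall_mem_cons.2 ⟨⟨_, _, bd19⟩, List.forall_mem_cons.2 ⟨⟨_, _, bd20⟩, 
  List.forall_mem_cons.2 ⟨⟨_, _, bd21⟩, List.forall_mem_cons.2 ⟨⟨_, _, bd22⟩, List.forall_mem_cons.2 ⟨⟨_, _, bd23⟩, 
  List.forall_mem_cons.2 ⟨⟨_, _, bd24⟩, List.forall_mem_cons.2 ⟨⟨_, _, bd25⟩, List.forall_mem_cons.2 ⟨⟨_, _, bd26⟩, 
  List.forall_mem_cons.2 ⟨⟨_, _, bd27⟩, List.forall_mem_cons.2 ⟨⟨_, _, bd28⟩, List.forall_mem_cons.2 ⟨⟨_, _, bd29⟩, 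
  List.forall_mem_cons.2 ⟨⟨_, _, bd30⟩, List.forall_mem_cons.2 ⟨⟨_, _, bd31⟩, List.forall_mem_cons.2 ⟨⟨_, _, bd32⟩, 
  List.forall_mem_cons.2 ⟨⟨_, _, bd33⟩, List.forall_mem_cons.2 ⟨⟨_, _, bd34⟩, List.forall_mem_cons.2 ⟨⟨_, _, bd35⟩, 
  List.forall_mem_cons.2 ⟨⟨_, _, bd36⟩, List.forall_mem_cons.2 ⟨⟨_, _, bd37⟩, List.forall_mem_cons.2 ⟨⟨_, _, bd38⟩, 
  List.forall_mem_cons.2 ⟨⟨_, _, bd39⟩, List.forall_mem_cons.2 ⟨⟨_, _, bd40⟩, List.forall_mem_cons.2 ⟨⟨_, _, bd41⟩, 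
  List.forall_mem_cons.2 ⟨⟨_, _, bd42⟩, List.forall_mem_cons.2 ⟨⟨_, _, bd43⟩, List.forall_mem_cons.2 ⟨⟨_, _, bd44⟩, 
  List.forall_mem_cons.2 ⟨⟨_, _, bd45⟩, List.forall_mem_cons.2 ⟨⟨_, _, bd46⟩, List.forall_mem_cons.2 ⟨⟨_, _, bd47⟩, 
  List.forall_mem_cons.2 ⟨⟨_, _, bd48⟩, List.forall_mem_cons.2 ⟨⟨_, _, bd49⟩, List.forall_mem_cons.2 ⟨⟨_, _, bd50⟩, 
  List.forall_mem_cons.2 ⟨⟨_, _, bd51⟩, List.forall_mem_cons.2 ⟨⟨_, _, bd52⟩, List.forall_mem_cons.2 ⟨⟨_, _, bd53⟩, 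
  List.forall_mem_cons.2 ⟨⟨_, _, bd54⟩, List.forall_mem_cons.2 ⟨⟨_, _, bd55⟩, List.forall_mem_cons.2 ⟨⟨_, _, bd56⟩, 
  List.forall_mem_cons.2 ⟨⟨_, _, bd57⟩, List.forall_mem_cons.2 ⟨⟨_, _, bd58⟩, List.forall_mem_nil _⟩⟩⟩⟩⟩⟩⟩⟩⟩⟩⟩⟩⟩⟩⟩⟩⟩⟩⟩⟩⟩⟩⟩⟩⟩⟩⟩⟩⟩⟩⟩⟩⟩⟩⟩⟩⟩⟩⟩⟩⟩⟩⟩⟩⟩⟩⟩⟩⟩⟩⟩⟩⟩⟩⟩⟩⟩⟩⟩

theorem D_sg : ∀ x ∈ D, chkKey 3510 12 row 12 x.1 keys x.2.2 = true :=
  List.forall_mem_cons.2 ⟨sg0, List.forall_mem_cons.2 ⟨sg1, List.forall_mem_cons.2 ⟨sg2, 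
  List.forall_mem_cons.2 ⟨sg3, List.forall_mem_cons.2 ⟨sg4, List.forall_mem_cons.2 ⟨sg5, 
  List.forall_mem_cons.2 ⟨sg6, List.forall_mem_cons.2 ⟨sg7, List.forall_mem_cons.2 ⟨sg8, 
  List.forall_mem_cons.2 ⟨sg9, List.forall_mem_cons.2 ⟨sg10, List.forall_mem_cons.2 ⟨sg11, 
  List.forall_mem_cons.2 ⟨sg12, List.forall_mem_cons.2 ⟨sg13, List.forall_mem_cons.2 ⟨sg14, 
  List.forall_mem_cons.2 ⟨sg15, List.forall_mem_cons.2 ⟨sg16, List.forall_mem_cons.2 ⟨sg17, 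
  List.forall_mem_cons.2 ⟨sg18, List.forall_mem_cons.2 ⟨sg19, List.forall_mem_cons.2 ⟨sg20, 
  List.forall_mem_cons.2 ⟨sg21, List.forall_mem_cons.2 ⟨sg22, List.forall_mem_cons.2 ⟨sg23, 
  List.forall_mem_cons.2 ⟨sg24, List.forall_mem_cons.2 ⟨sg25, List.forall_mem_cons.2 ⟨sg26, 
  List.forall_mem_cons.2 ⟨sg27, List.forall_mem_cons.2 ⟨sg28, List.forall_mem_cons.2 ⟨sg29, 
  List.forall_mem_cons.2 ⟨sg30, List.forall_mem_cons.2 ⟨sg31, List.forall_mem_cons.2 ⟨sg32, 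
  List.forall_mem_cons.2 ⟨sg33, List.forall_mem_cons.2 ⟨sg34, List.forall_mem_cons.2 ⟨sg35, 
  List.forall_mem_cons.2 ⟨sg36, List.forall_mem_cons.2 ⟨sg37, List.forall_mem_cons.2 ⟨sg38, 
  List.forall_mem_cons.2 ⟨sg39, List.forall_mem_cons.2 ⟨sg40, List.forall_mem_cons.2 ⟨sg41, 
  List.forall_mem_cons.2 ⟨sg42, List.forall_mem_cons.2 ⟨sg43, List.forall_mem_cons.2 ⟨sg44, 
  List.forall_mem_cons.2 ⟨sg45, List.forall_mem_cons.2 ⟨sg46, List.forall_mem_cons.2 ⟨sg47, 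
  List.forall_mem_cons.2 ⟨sg48, List.forall_mem_cons.2 ⟨sg49, List.forall_mem_cons.2 ⟨sg50, 
  List.forall_mem_cons.2 ⟨sg51, List.forall_mem_cons.2 ⟨sg52, List.forall_mem_cons.2 ⟨sg53, 
  List.forall_mem_cons.2 ⟨sg54, List.forall_mem_cons.2 ⟨sg55, List.forall_mem_cons.2 ⟨sg56, 
  List.forall_mem_cons.2 ⟨sg57, List.forall_mem_cons.2 ⟨sg58, List.forall_mem_nil _⟩⟩⟩⟩⟩⟩⟩⟩⟩⟩⟩⟩⟩⟩⟩⟩⟩⟩⟩⟩⟩⟩⟩⟩⟩⟩⟩⟩⟩⟩⟩⟩⟩⟩⟩⟩⟩⟩⟩⟩⟩⟩⟩⟩⟩⟩⟩⟩⟩⟩⟩⟩⟩⟩⟩⟩⟩⟩⟩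

theorem D_len : ∀ x ∈ D, x.2.2.length = keys.length :=
  List.forall_mem_cons.2 ⟨rfl, List.forall_mem_cons.2 ⟨rfl, List.forall_mem_cons.2 ⟨rfl, 
  List.forall_mem_cons.2 ⟨rfl, List.forall_mem_cons.2 ⟨rfl, List.forall_mem_cons.2 ⟨rfl, 
  List.forall_mem_cons.2 ⟨rfl, List.forall_mem_cons.2 ⟨rfl, List.forall_mem_cons.2 ⟨rfl, 
  List.forall_mem_cons.2 ⟨rfl, List.forall_mem_cons.2 ⟨rfl, List.forall_mem_cons.2 ⟨rfl, 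
  List.forall_mem_cons.2 ⟨rfl, List.forall_mem_cons.2 ⟨rfl, List.forall_mem_cons.2 ⟨rfl, 
  List.forall_mem_cons.2 ⟨rfl, List.forall_mem_cons.2 ⟨rfl, List.forall_mem_cons.2 ⟨rfl, 
  List.forall_mem_cons.2 ⟨rfl, List.forall_mem_cons.2 ⟨rfl, List.forall_mem_cons.2 ⟨rfl, 
  List.forall_mem_cons.2 ⟨rfl, List.forall_mem_cons.2 ⟨rfl, List.forall_mem_cons.2 ⟨rfl, 
  List.forall_mem_cons.2 ⟨rfl, List.forall_mem_cons.2 ⟨rfl, List.forall_mem_cons.2 ⟨rfl, 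
  List.forall_mem_cons.2 ⟨rfl, List.forall_mem_cons.2 ⟨rfl, List.forall_mem_cons.2 ⟨rfl, 
  List.forall_mem_cons.2 ⟨rfl, List.forall_mem_cons.2 ⟨rfl, List.forall_mem_cons.2 ⟨rfl, 
  List.forall_mem_cons.2 ⟨rfl, List.forall_mem_cons.2 ⟨rfl, List.forall_mem_cons.2 ⟨rfl, 
  List.forall_mem_cons.2 ⟨rfl, List.forall_mem_cons.2 ⟨rfl, List.forall_mem_cons.2 ⟨rfl, 
  List.forall_mem_cons.2 ⟨rfl, List.forall_mem_cons.2 ⟨rfl, List.forall_mem_cons.2 ⟨rfl, 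
  List.forall_mem_cons.2 ⟨rfl, List.forall_mem_cons.2 ⟨rfl, List.forall_mem_cons.2 ⟨rfl, 
  List.forall_mem_cons.2 ⟨rfl, List.forall_mem_cons.2 ⟨rfl, List.forall_mem_cons.2 ⟨rfl, 
  List.forall_mem_cons.2 ⟨rfl, List.forall_mem_cons.2 ⟨rfl, List.forall_mem_cons.2 ⟨rfl, 
  List.forall_mem_cons.2 ⟨rfl, List.forall_mem_cons.2 ⟨rfl, List.forall_mem_cons.2 ⟨rfl, 
  List.forall_mem_cons.2 ⟨rfl, List.forall_mem_cons.2 ⟨rfl, List.forall_mem_cons.2 ⟨rfl, 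
  List.forall_mem_cons.2 ⟨rfl, List.forall_mem_cons.2 ⟨rfl, List.forall_mem_nil _⟩⟩⟩⟩⟩⟩⟩⟩⟩⟩⟩⟩⟩⟩⟩⟩⟩⟩⟩⟩⟩⟩⟩⟩⟩⟩⟩⟩⟩⟩⟩⟩⟩⟩⟩⟩⟩⟩⟩⟩⟩⟩⟩⟩⟩⟩⟩⟩⟩⟩⟩⟩⟩⟩⟩⟩⟩⟩⟩

theorem D_nodup : (D.map fun x => x.2.2).Nodup := by
  unfold D
  decide +kernel

theorem D_W : ∀ x ∈ D, ∃ y ∈ W, y.1 = x.1 := by
  have h : D.map (fun x => x.1) = W.map (fun y => y.1) := rfl
  intro x hx
  have h1 : x.1 ∈ D.map (fun x => x.1) := List.mem_map_of_mem hx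
  rw [h] at h1
  obtain ⟨y, hy, h2⟩ := List.mem_map.1 h1
  exact ⟨y, hy, h2⟩

theorem D_sum : Nat.ble 64561751654400 ((D.map fun x => (2 * 64561751654400) / (x.2.1 + 1)).sum) = true := by
  unfold D
  decide +kernel

/-- the generators -/
def gn : ℕ → Fi22.Gen
  | 0 => .a
  | 1 => .b
  | 2 => .c
  | 3 => .d
  | 4 => .e
  | 5 => .f
  | 6 => .g
  | 7 => .h
  | _ => .i

/-- the value of a word -/
noncomputable def el (l : List ℕ) : Spor.Fi22 := (l.map fun x => (PresentedGroup.of (gn x) : Spor.Fi22)).prod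

theorem el_cons (x : ℕ) (l : List ℕ) : el (x :: l) = PresentedGroup.of (gn x) * el l := by
  simp only [el, List.map_cons, List.prod_cons]

theorem el_append (u v : List ℕ) : el (u ++ v) = el u * el v := by
  simp only [el, List.map_append, List.prod_append]

theorem gn_S {x : ℕ} (hx : x < 9) : rho (PresentedGroup.of (gn x)) = S x := by
  rw [rho_of]
  interval_cases x <;> rfl

theorem gn_tab {x : ℕ} (hx : x < 9) (p : Fin 3510) :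
    (rho (PresentedGroup.of (gn x)) p : ℕ) = lk 12 (nth gens x) p := by
  rw [gn_S hx, S_val (by omega), ← gens_tb hx]
  rfl

theorem gn_sq (x : ℕ) : (PresentedGroup.of (gn x) : Spor.Fi22) * PresentedGroup.of (gn x) = 1 := by
  apply rho_injective
  obtain ⟨y, hy, h⟩ : ∃ y < 9, gn x = gn y := by
    rcases lt_or_ge x 9 with h | h
    · exact ⟨x, h, rfl⟩
    · refine ⟨8, by norm_num, ?_⟩
      obtain ⟨k, rfl⟩ := Nat.exists_eq_add_of_le h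
      rw [Nat.add_comm]
      rfl
  rw [h, map_mul, map_one, gn_S hy, S_mul_self (by omega)]

theorem el_reverse : ∀ l : List ℕ, el l.reverse = (el l)⁻¹
  | [] => by simp [el]
  | x :: l => by
    have h : (PresentedGroup.of (gn x) : Spor.Fi22)⁻¹ = PresentedGroup.of (gn x) := inv_eq_of_mul_eq_one_left (gn_sq x)
    have h1 : el [x] = PresentedGroup.of (gn x) := by simp [el]
    rw [List.reverse_cons, el_append, el_reverse l, h1, el_cons, mul_inv_rev, h]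

theorem el_pal {l : List ℕ} (h : l.reverse = l) : el l * el l = 1 := by
  have h1 := el_reverse l
  rw [h] at h1
  nth_rewrite 1 [h1]
  exact inv_mul_cancel _

theorem ev_tab : ∀ (l : List ℕ), (∀ x ∈ l, x < 9) → ∀ p : Fin 3510, (rho (el l) p : ℕ) = evw 12 gens l p
  | [], _, p => by
    show (rho 1 p : ℕ) = p
    rw [map_one]
    rfl
  | x :: l, h, p => by
    rw [el_cons, map_mul, Equiv.Perm.mul_apply, gn_tab (h x List.mem_cons_self), evw_cons,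
      ev_tab l fun y hy => h y (List.mem_cons_of_mem _ hy)]

/-- the word is an involution or trivial -/
theorem sq_of_chk {l : List ℕ} (h : band (chkL gens.length l)
    (allN (fun p => Nat.beq (force (evw 12 gens l p) (evw 12 gens l)) p) 3510) = true) : el l * el l = 1 := by
  obtain ⟨h1, h2⟩ := band_true h
  apply rho_injective
  rw [map_mul, map_one]
  ext p
  rw [Equiv.Perm.mul_apply, Equiv.Perm.one_apply, ev_tab l (chkL_iff _ l h1), ev_tab l (chkL_iff _ l h1)]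
  have h3 := Nat.eq_of_beq_eq_true ((allN_iff _ _).1 h2 p p.2)
  rw [force_eq] at h3
  exact h3

theorem W_inv : ∀ x ∈ W, x.2.1 = x.2.2.2.1 ++ x.2.2.2.2 ∧ el x.2.2.2.1 * el x.2.2.2.1 = 1 ∧
    el x.2.2.2.2 * el x.2.2.2.2 = 1 :=
  List.forall_mem_cons.2 ⟨⟨rfl, sq_of_chk (by decide +kernel), el_pal rfl⟩, List.forall_mem_cons.2 ⟨⟨rfl, el_pal rfl, el_pal rfl⟩, List.forall_mem_cons.2 ⟨⟨rfl, sq_of_chk (by decide +kernel), el_pal rfl⟩, 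
  List.forall_mem_cons.2 ⟨⟨rfl, sq_of_chk (by decide +kernel), el_pal rfl⟩, List.forall_mem_cons.2 ⟨⟨rfl, sq_of_chk (by decide +kernel), el_pal rfl⟩, List.forall_mem_cons.2 ⟨⟨rfl, sq_of_chk (by decide +kernel), el_pal rfl⟩, 
  List.forall_mem_cons.2 ⟨⟨rfl, el_pal rfl, el_pal rfl⟩, List.forall_mem_cons.2 ⟨⟨rfl, sq_of_chk (by decide +kernel), el_pal rfl⟩, List.forall_mem_cons.2 ⟨⟨rfl, sq_of_chk (by decide +kernel), el_pal rfl⟩, 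
  List.forall_mem_cons.2 ⟨⟨rfl, sq_of_chk (by decide +kernel), el_pal rfl⟩, List.forall_mem_cons.2 ⟨⟨rfl, sq_of_chk (by decide +kernel), el_pal rfl⟩, List.forall_mem_cons.2 ⟨⟨rfl, sq_of_chk (by decide +kernel), el_pal rfl⟩, 
  List.forall_mem_cons.2 ⟨⟨rfl, sq_of_chk (by decide +kernel), el_pal rfl⟩, List.forall_mem_cons.2 ⟨⟨rfl, sq_of_chk (by decide +kernel), el_pal rfl⟩, List.forall_mem_cons.2 ⟨⟨rfl, sq_of_chk (by decide +kernel), el_pal rfl⟩, 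
  List.forall_mem_cons.2 ⟨⟨rfl, sq_of_chk (by decide +kernel), el_pal rfl⟩, List.forall_mem_cons.2 ⟨⟨rfl, sq_of_chk (by decide +kernel), el_pal rfl⟩, List.forall_mem_cons.2 ⟨⟨rfl, sq_of_chk (by decide +kernel), el_pal rfl⟩, 
  List.forall_mem_cons.2 ⟨⟨rfl, el_pal rfl, sq_of_chk (by decide +kernel)⟩, List.forall_mem_cons.2 ⟨⟨rfl, sq_of_chk (by decide +kernel), sq_of_chk (by decide +kernel)⟩, List.forall_mem_cons.2 ⟨⟨rfl, sq_of_chk (by decide +kernel), el_pal rfl⟩, 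
  List.forall_mem_cons.2 ⟨⟨rfl, el_pal rfl, sq_of_chk (by decide +kernel)⟩, List.forall_mem_cons.2 ⟨⟨rfl, sq_of_chk (by decide +kernel), el_pal rfl⟩, List.forall_mem_cons.2 ⟨⟨rfl, sq_of_chk (by decide +kernel), el_pal rfl⟩, 
  List.forall_mem_cons.2 ⟨⟨rfl, sq_of_chk (by decide +kernel), el_pal rfl⟩, List.forall_mem_cons.2 ⟨⟨rfl, sq_of_chk (by decide +kernel), el_pal rfl⟩, List.forall_mem_cons.2 ⟨⟨rfl, sq_of_chk (by decide +kernel), sq_of_chk (by decide +kernel)⟩, 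
  List.forall_mem_cons.2 ⟨⟨rfl, el_pal rfl, sq_of_chk (by decide +kernel)⟩, List.forall_mem_cons.2 ⟨⟨rfl, sq_of_chk (by decide +kernel), sq_of_chk (by decide +kernel)⟩, List.forall_mem_cons.2 ⟨⟨rfl, sq_of_chk (by decide +kernel), el_pal rfl⟩, 
  List.forall_mem_cons.2 ⟨⟨rfl, sq_of_chk (by decide +kernel), el_pal rfl⟩, List.forall_mem_cons.2 ⟨⟨rfl, sq_of_chk (by decide +kernel), el_pal rfl⟩, List.forall_mem_cons.2 ⟨⟨rfl, el_pal rfl, sq_of_chk (by decide +kernel)⟩, 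
  List.forall_mem_cons.2 ⟨⟨rfl, sq_of_chk (by decide +kernel), el_pal rfl⟩, List.forall_mem_cons.2 ⟨⟨rfl, el_pal rfl, sq_of_chk (by decide +kernel)⟩, List.forall_mem_cons.2 ⟨⟨rfl, sq_of_chk (by decide +kernel), el_pal rfl⟩, 
  List.forall_mem_cons.2 ⟨⟨rfl, sq_of_chk (by decide +kernel), sq_of_chk (by decide +kernel)⟩, List.forall_mem_cons.2 ⟨⟨rfl, sq_of_chk (by decide +kernel), el_pal rfl⟩, List.forall_mem_cons.2 ⟨⟨rfl, sq_of_chk (by decide +kernel), el_pal rfl⟩, 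
  List.forall_mem_cons.2 ⟨⟨rfl, sq_of_chk (by decide +kernel), el_pal rfl⟩, List.forall_mem_cons.2 ⟨⟨rfl, sq_of_chk (by decide +kernel), sq_of_chk (by decide +kernel)⟩, List.forall_mem_cons.2 ⟨⟨rfl, sq_of_chk (by decide +kernel), el_pal rfl⟩, 
  List.forall_mem_cons.2 ⟨⟨rfl, sq_of_chk (by decide +kernel), sq_of_chk (by decide +kernel)⟩, List.forall_mem_cons.2 ⟨⟨rfl, sq_of_chk (by decide +kernel), el_pal rfl⟩, List.forall_mem_cons.2 ⟨⟨rfl, sq_of_chk (by decide +kernel), el_pal rfl⟩, 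
  List.forall_mem_cons.2 ⟨⟨rfl, sq_of_chk (by decide +kernel), el_pal rfl⟩, List.forall_mem_cons.2 ⟨⟨rfl, sq_of_chk (by decide +kernel), el_pal rfl⟩, List.forall_mem_cons.2 ⟨⟨rfl, sq_of_chk (by decide +kernel), el_pal rfl⟩, 
  List.forall_mem_cons.2 ⟨⟨rfl, sq_of_chk (by decide +kernel), sq_of_chk (by decide +kernel)⟩, List.forall_mem_cons.2 ⟨⟨rfl, sq_of_chk (by decide +kernel), el_pal rfl⟩, List.forall_mem_cons.2 ⟨⟨rfl, sq_of_chk (by decide +kernel), el_pal rfl⟩, 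
  List.forall_mem_cons.2 ⟨⟨rfl, el_pal rfl, sq_of_chk (by decide +kernel)⟩, List.forall_mem_cons.2 ⟨⟨rfl, el_pal rfl, sq_of_chk (by decide +kernel)⟩, List.forall_mem_cons.2 ⟨⟨rfl, sq_of_chk (by decide +kernel), el_pal rfl⟩, 
  List.forall_mem_cons.2 ⟨⟨rfl, sq_of_chk (by decide +kernel), sq_of_chk (by decide +kernel)⟩, List.forall_mem_cons.2 ⟨⟨rfl, el_pal rfl, sq_of_chk (by decide +kernel)⟩, List.forall_mem_cons.2 ⟨⟨rfl, sq_of_chk (by decide +kernel), el_pal rfl⟩, 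
  List.forall_mem_cons.2 ⟨⟨rfl, sq_of_chk (by decide +kernel), el_pal rfl⟩, List.forall_mem_cons.2 ⟨⟨rfl, el_pal rfl, el_pal rfl⟩, List.forall_mem_nil _⟩⟩⟩⟩⟩⟩⟩⟩⟩⟩⟩⟩⟩⟩⟩⟩⟩⟩⟩⟩⟩⟩⟩⟩⟩⟩⟩⟩⟩⟩⟩⟩⟩⟩⟩⟩⟩⟩⟩⟩⟩⟩⟩⟩⟩⟩⟩⟩⟩⟩⟩⟩⟩⟩⟩⟩⟩⟩⟩

theorem comm_tab {P : ℕ} {a b : List ℕ} (h : chkC 3510 12 gens P a b = true) (p : Fin 3510) :
    (rho (el a * el b * (el a)⁻¹ * (el b)⁻¹) p : ℕ) = lk 12 P p := by
  obtain ⟨h1, h2⟩ := band_true h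
  obtain ⟨h3, h4⟩ := band_true h2
  set x := rho (el a) with hx
  set y := rho (el b) with hy
  have hxp : ∀ p : Fin 3510, (x p : ℕ) = evw 12 gens a p := ev_tab a (chkL_iff _ a h1)
  have hyp : ∀ p : Fin 3510, (y p : ℕ) = evw 12 gens b p := ev_tab b (chkL_iff _ b h3)
  rw [map_mul, map_mul, map_mul, map_inv, map_inv, ← hx, ← hy]
  obtain ⟨q, rfl⟩ : ∃ q, p = y (x q) := ⟨x⁻¹ (y⁻¹ p), by
    show p = y (x (x⁻¹ (y⁻¹ p)))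
    rw [show x (x⁻¹ (y⁻¹ p)) = y⁻¹ p from Equiv.apply_symm_apply x _]
    exact (Equiv.apply_symm_apply y _).symm⟩
  have h5 := (allN_iff _ _).1 h4 q q.2
  rw [Lib.BitNetSimple.force_eq, Lib.BitNetSimple.force_eq, Lib.BitNetSimple.force_eq] at h5
  have h6 := Nat.eq_of_beq_eq_true h5
  rw [← hxp, ← hyp, ← hyp, ← hxp] at h6
  rw [h6]
  have e : (x * y * x⁻¹ * y⁻¹) (y (x q)) = x (y q) := by
    show x (y (x⁻¹ (y⁻¹ (y (x q))))) = x (y q)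
    rw [show y⁻¹ (y (x q)) = x q from Equiv.symm_apply_apply y _]
    rw [show x⁻¹ (x q) = q from Equiv.symm_apply_apply x _]
  rw [e]

theorem D_mem : ∀ x ∈ D, ∃ g ∈ N, ∀ p : Fin 3510, (g p : ℕ) = lk 12 x.1 p := by
  intro x hx
  obtain ⟨y, hy, h⟩ := D_W x hx
  rw [← h]
  exact ⟨_, ⟨_, rfl⟩, comm_tab (W_chk y hy)⟩

/-- **the 59 classes** -/
theorem fi_cover : ∀ g ∈ N, ∃ x ∈ D, ∃ r ∈ N, (∀ p : Fin 3510, (r p : ℕ) = lk 12 x.1 p) ∧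
    ∃ b ∈ A, g = b * r * b⁻¹ :=
  cover_K (by norm_num) A_le_Aut (fun _ ha _ hx => A_conj ha hx) card_A D D_mem D_bd keys D_sg D_len
    D_nodup (by rw [card_N]; exact Nat.le_of_ble_eq_true D_sum)

/-- every element of `Fi22` is the image under an automorphism of one of 59 commutators of words -/
theorem words_cover (g : Spor.Fi22) : ∃ y ∈ W, ∃ θ : MulAut Spor.Fi22,
    g = θ (el y.2.1 * el y.2.2.1 * (el y.2.1)⁻¹ * (el y.2.2.1)⁻¹) := by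
  obtain ⟨x, hx, r, -, hr, b, hb, h⟩ := fi_cover (rho g) ⟨g, rfl⟩
  obtain ⟨y, hy, hyx⟩ := D_W x hx
  obtain ⟨θ, hθ⟩ := exists_aut hb
  refine ⟨y, hy, θ, rho_injective ?_⟩
  rw [hθ, h, perm_eq_of_tab hr (by rw [← hyx]; exact comm_tab (W_chk y hy))]

open Cfsg.Agent.H777.Ore in
theorem allC_Fi22 : AllC Spor.Fi22 := by
  intro g
  obtain ⟨y, -, θ, rfl⟩ := words_cover g
  exact IsC.map θ.toMonoidHom ⟨_, _, rfl⟩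

open Cfsg.Agent.H777.Ore in
theorem inv4_Fi22 : Inv4 Spor.Fi22 := by
  intro g
  obtain ⟨y, hy, θ, rfl⟩ := words_cover g
  obtain ⟨h1, e1, e2⟩ := W_inv y hy
  rw [h1, el_append]
  generalize el y.2.2.2.1 = s at e1
  generalize el y.2.2.2.2 = t at e2
  generalize el y.2.2.1 = b
  have i1 : s⁻¹ = s := inv_eq_of_mul_eq_one_left e1
  have i2 : t⁻¹ = t := inv_eq_of_mul_eq_one_left e2
  refine ⟨θ s, θ t, θ (b * t * b⁻¹), θ (b * s * b⁻¹), ?_, ?_, ?_, ?_, ?_⟩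
  · rw [← map_mul, e1, map_one]
  · rw [← map_mul, e2, map_one]
  · rw [← map_mul, show b * t * b⁻¹ * (b * t * b⁻¹) = b * (t * t) * b⁻¹ by group, e2, mul_one, mul_inv_cancel, map_one]
  · rw [← map_mul, show b * s * b⁻¹ * (b * s * b⁻¹) = b * (s * s) * b⁻¹ by group, e1, mul_one, mul_inv_cancel, map_one]
  · rw [← map_mul, ← map_mul, ← map_mul, mul_inv_rev, i1, i2]
    congr 1
    group

theorem sq_Fi22 : H134.Sq.AllP 2 Spor.Fi22 := by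
  intro g
  obtain ⟨y, hy, θ, rfl⟩ := words_cover g
  obtain ⟨h1, e1, e2⟩ := W_inv y hy
  rw [h1, el_append]
  generalize el y.2.2.2.1 = s at e1
  generalize el y.2.2.2.2 = t at e2
  generalize el y.2.2.1 = b
  have i1 : s⁻¹ = s := inv_eq_of_mul_eq_one_left e1
  have i2 : t⁻¹ = t := inv_eq_of_mul_eq_one_left e2
  obtain ⟨u, v, huv⟩ := H134.Sq.isP_two_of_real (a := s * t) (b := b) (u := s) (by
    rw [mul_inv_rev, i1, i2]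
    calc s * (s * t) * s = (s * s) * t * s := by group
      _ = t * s := by rw [e1, one_mul])
  refine ⟨θ u, θ v, ?_⟩
  rw [huv, map_mul, map_pow, map_pow]

open Cfsg.Agent.H777.Ore in
/-- **the row `Fi22` of the Ore conjecture** -/
theorem ore_fi22 {G : Type*} [Group G] (h : Spor.IsoFi22 G) : AllC G := by
  obtain ⟨e⟩ := h
  exact allC_Fi22.congr e.symm

open Cfsg.Agent.H777.Ore in
/-- **the row `Fi22` of the products of four involutions** -/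
theorem four_fi22 {G : Type*} [Group G] (h : Spor.IsoFi22 G) : Inv4 G := by
  obtain ⟨e⟩ := h
  intro g
  obtain ⟨a, b, c, d, h1, h2, h3, h4, h5⟩ := inv4_Fi22 (e g)
  refine ⟨e.symm a, e.symm b, e.symm c, e.symm d, ?_, ?_, ?_, ?_, ?_⟩
  · rw [← map_mul, h1, map_one]
  · rw [← map_mul, h2, map_one]
  · rw [← map_mul, h3, map_one]
  · rw [← map_mul, h4, map_one]
  · rw [← map_mul, ← map_mul, ← map_mul, ← h5, MulEquiv.symm_apply_apply]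

/-- **the row `Fi22` of the squares** -/
theorem sq_fi22 {G : Type*} [Group G] (h : Spor.IsoFi22 G) : H134.Sq.AllP 2 G := by
  obtain ⟨e⟩ := h
  intro g
  obtain ⟨a, b, h1⟩ := sq_Fi22 (e g)
  refine ⟨e.symm a, e.symm b, ?_⟩
  rw [← map_pow, ← map_pow, ← map_mul, ← h1, MulEquiv.symm_apply_apply]

end Cfsg.Agent.H123.Cls.FiDat
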