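import Cfsg.Agent.H123.Cls.ListCover

/-!
# Class enumeration certificates: joint invariants (helper123)

`cover_K` : as `cover_D`, the invariants are the sizes of intersections of the masks of `pwM`.
-/

set_option autoImplicit false

namespace Cfsg.Agent.H123.Cls

open Equiv Cfsg.Agent.Lib.BitNet
open Cfsg.Agent.Lib.BitNetSimple (force force_eq tb tb_eq)

/-- intersection of the masks -/
noncomputable def jM (n K : ℕ) (row : ℕ → ℕ) (w P : ℕ) (l : List (Bool × ℕ)) : ℕ → ℕ :=
  List.rec (fun U => U) (fun a _ ih U => force (pwM n K row w P a) fun m => force (Nat.land U m) ih) l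

/-- the joint invariants -/
noncomputable def chkKey (n K : ℕ) (row : ℕ → ℕ) (w P : ℕ) (keys : List (List (Bool × ℕ))) : List ℕ → Bool :=
  List.rec (fun _ => true) (fun l _ ih cs =>
    band (Nat.beq (popF K (jM n K row w P l (Nat.sub (Nat.pow 2 n) 1))) (nth cs 0)) (ih cs.tail)) keys

/-- the joint invariant of a permutation -/
noncomputable def pj {n : ℕ} (row : ℕ → ℕ) (r : Perm (Fin n)) (l : List (Bool × ℕ)) : ℕ :=
  Nat.card {p : Fin n // ∀ a ∈ l, Pw row a.1 p ((r ^ a.2) p)}

section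

variable {n K : ℕ} {row : ℕ → ℕ} {w P : ℕ}

theorem testBit_jM (hn : n ≤ 2 ^ K) {r : Perm (Fin n)} (hr : ∀ i, (r i : ℕ) = lk w P i) (p : Fin n) :
    ∀ (l : List (Bool × ℕ)) (U : ℕ), (jM n K row w P l U).testBit p = true ↔
      (U.testBit p = true ∧ ∀ a ∈ l, Pw row a.1 p ((r ^ a.2) p))
  | [], U => by
    show U.testBit p = true ↔ _
    exact ⟨fun h => ⟨h, fun a ha => absurd ha List.not_mem_nil⟩, fun h => h.1⟩
  | a :: l, U => by
    have e : jM n K row w P (a :: l) U = jM n K row w P l (U &&& pwM n K row w P a) := by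
      show (force (pwM n K row w P a) fun m => force (Nat.land U m) (jM n K row w P l)) = _
      rw [force_eq, force_eq]
      rfl
    rw [e, testBit_jM hn hr p l, Nat.testBit_and, Bool.and_eq_true, testBit_pwM hn hr, List.forall_mem_cons, and_assoc]

theorem jM_lt {l : List (Bool × ℕ)} {U : ℕ} (hU : ∀ i, U.testBit i = true → i < n) (i : ℕ)
    (h : (jM n K row w P l U).testBit i = true) : i < n := by
  induction l generalizing U with
  | nil => exact hU i h
  | cons a l ih =>
    have e : jM n K row w P (a :: l) U = jM n K row w P l (U &&& pwM n K row w P a) := by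
      show (force (pwM n K row w P a) fun m => force (Nat.land U m) (jM n K row w P l)) = _
      rw [force_eq, force_eq]
      rfl
    rw [e] at h
    refine ih (fun j hj => ?_) h
    rw [Nat.testBit_and, Bool.and_eq_true] at hj
    exact hU j hj.1

theorem univ_bits (i : ℕ) : (Nat.sub (Nat.pow 2 n) 1).testBit i = decide (i < n) := by
  change (2 ^ n - 1).testBit i = _
  exact Nat.testBit_two_pow_sub_one n i

theorem popF_jM (hn : n ≤ 2 ^ K) {r : Perm (Fin n)} (hr : ∀ i, (r i : ℕ) = lk w P i) (l : List (Bool × ℕ)) :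
    popF K (jM n K row w P l (Nat.sub (Nat.pow 2 n) 1)) = pj row r l := by
  rw [popF_eq]
  have hb : ∀ i, (jM n K row w P l (Nat.sub (Nat.pow 2 n) 1)).testBit i = true → i < n :=
    jM_lt fun i hi => by rw [univ_bits] at hi; exact of_decide_eq_true hi
  have h1 := card_pts_le (n := n) hn (jM n K row w P l (Nat.sub (Nat.pow 2 n) 1))
  have h2 := card_pts_eq (n := n) (K := K) hb
  rw [le_antisymm h2 h1, pj, ← Fintype.card_coe, ← Nat.card_eq_fintype_card]
  refine Nat.card_congr (Equiv.subtypeEquivRight fun i => ?_)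
  rw [mem_pts, testBit_jM hn hr, univ_bits]
  simp

theorem key_of_chk (hn : n ≤ 2 ^ K) {r : Perm (Fin n)} (hr : ∀ i, (r i : ℕ) = lk w P i) :
    ∀ {keys : List (List (Bool × ℕ))} {cs : List ℕ}, chkKey n K row w P keys cs = true → cs.length = keys.length →
      keys.map (pj row r) = cs
  | [], cs, _, hl => by
    rw [List.map_nil]
    exact (List.length_eq_zero_iff.1 hl).symm
  | a :: l, [], _, hl => by simp at hl
  | a :: l, c :: cs, h, hl => by
    have e : chkKey n K row w P (a :: l) (c :: cs) =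
      band (Nat.beq (popF K (jM n K row w P a (Nat.sub (Nat.pow 2 n) 1))) c) (chkKey n K row w P l cs) := rfl
    rw [e] at h
    obtain ⟨h1, h2⟩ := band_true h
    have h3 := Nat.eq_of_beq_eq_true h1
    rw [popF_jM hn hr] at h3
    rw [List.map_cons, h3, key_of_chk hn hr h2 (by simpa using hl)]

theorem pj_conj {σ r : Perm (Fin n)} (hσ : σ ∈ Aut n row) (l : List (Bool × ℕ)) :
    pj row (σ * r * σ⁻¹) l = pj row r l := by
  unfold pj
  have h : ∀ (p : Fin n) (a : Bool × ℕ), Pw row a.1 (σ p) (((σ * r * σ⁻¹) ^ a.2) (σ p)) ↔ Pw row a.1 p ((r ^ a.2) p) := by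
    intro p a
    have e : ((σ * r * σ⁻¹) ^ a.2) (σ p) = σ ((r ^ a.2) p) := by
      rw [conj_pow, Perm.mul_apply, Perm.mul_apply]
      exact congrArg (fun q => σ ((r ^ a.2) q)) (Equiv.symm_apply_apply σ p)
    rw [e, Pw_conj hσ]
  refine (Nat.card_congr (Equiv.subtypeEquiv σ fun p => ?_)).symm
  exact forall₂_congr fun a _ => (h p a).symm

/-- **The classes cover the group**, joint invariants. -/
theorem cover_K {A N : Subgroup (Perm (Fin n))} (hn : n ≤ 2 ^ K) (hA : A ≤ Aut n row)
    (hnA : ∀ a ∈ A, ∀ x ∈ N, a * x * a⁻¹ ∈ N) {a : ℕ} (haA : a ≤ Nat.card A) (D : List (ℕ × ℕ × List ℕ))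
    (hr : ∀ x ∈ D, ∃ g ∈ N, ∀ p : Fin n, (g p : ℕ) = lk w x.1 p)
    (hc : ∀ x ∈ D, ∃ l L, chkB n K row w x.1 l L x.2.1 = true)
    (keys : List (List (Bool × ℕ))) (hs : ∀ x ∈ D, chkKey n K row w x.1 keys x.2.2 = true)
    (hl : ∀ x ∈ D, x.2.2.length = keys.length) (hnd : (D.map fun x => x.2.2).Nodup)
    (hsum : Nat.card N ≤ (D.map fun x => a / (x.2.1 + 1)).sum) :
    ∀ g ∈ N, ∃ x ∈ D, ∃ r ∈ N, (∀ p : Fin n, (r p : ℕ) = lk w x.1 p) ∧ ∃ b ∈ A, g = b * r * b⁻¹ := by
  have hmem : ∀ i : Fin D.length, D[i.1] ∈ D := fun i => List.getElem_mem i.2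
  have hinj : Function.Injective (fun i : Fin D.length => (D[i.1]).2.2) := by
    intro i j hij
    have h1 := (List.nodup_iff_injective_get.1 hnd)
    have h2 : (⟨i.1, by rw [List.length_map]; exact i.2⟩ : Fin (D.map fun x => x.2.2).length) =
        ⟨j.1, by rw [List.length_map]; exact j.2⟩ := by
      apply h1
      simpa using hij
    have h3 := congrArg Fin.val h2
    exact Fin.ext h3
  have hsum' : Nat.card N ≤ ∑ i : Fin D.length, Nat.card A / ((D[i.1]).2.1 + 1) := by
    refine le_trans ?_ (Finset.sum_le_sum fun i _ => Nat.div_le_div_right haA)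
    rw [Fin.sum_univ_fun_getElem D (fun x => a / (x.2.1 + 1))]
    exact hsum
  choose r hrN hrp using fun i : Fin D.length => hr _ (hmem i)
  intro g hg
  obtain ⟨i, b, hb, h⟩ := cover hnA r hrN (fun i => (D[i.1]).2.1 + 1) (fun i => by
    obtain ⟨l, L, h1⟩ := hc _ (hmem i)
    refine card_le_bound hn (hrp i) h1 (inf_le_left.trans hA) fun σ hσ p => ?_
    have h2 := Subgroup.mem_centralizer_singleton_iff.1 (Subgroup.mem_inf.1 hσ).2
    exact congrArg (fun τ : Perm (Fin n) => τ p) h2) (fun i j hij b hb h1 => by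
      apply hij
      apply hinj
      show (D[i.1]).2.2 = (D[j.1]).2.2
      rw [← key_of_chk hn (hrp i) (hs _ (hmem i)) (hl _ (hmem i)), ← key_of_chk hn (hrp j) (hs _ (hmem j)) (hl _ (hmem j))]
      refine List.map_congr_left fun k _ => ?_
      rw [← h1, pj_conj (hA hb)]) hsum' g hg
  exact ⟨_, hmem i, r i, hrN i, hrp i, b, hb, h⟩

end

end Cfsg.Agent.H123.Cls
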