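import Cfsg.Agent.H123.Cls.LCover

/-!
# Class enumeration certificates for linear groups: list of classes (helper123)
-/

set_option autoImplicit false

namespace Cfsg.Agent.H123.Cls

open Equiv Cfsg.Agent.Lib.BitNet
open Cfsg.Agent.Lib.BitNetSimple (force force_eq tb tb_eq)

/-- a class: first letter, word, matrix, keys, bound minus one -/
structure Ent where
  /-- first letter -/
  x : Bool
  /-- other letters -/
  w : List Bool
  /-- matrix -/
  R : List ℕ
  /-- keys -/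
  K : List (ℕ × ℕ)
  /-- bound minus one -/
  c : ℕ

/-- the word has the matrix -/
noncomputable def okW (MA MB : List ℕ) (d : Ent) : Bool := chkWd MA MB d.x d.w d.R

/-- the keys -/
noncomputable def okK (C D : List ℕ) (U : ℕ) (d : Ent) : Bool := fB (cmb 18 13) fun M => chkK C D U M d.R d.K

section

variable {G : Type*} [Group G] [Finite G] (S : Mdl G)

theorem cover_ent {a b : G} {MA MB : List ℕ} (ha : ∀ c, S.L a c = xc MA c) (hb : ∀ c, S.L b c = xc MB c)
    (Dl : List Ent) (hW : ∀ d ∈ Dl, okW MA MB d = true) (hK : ∀ d ∈ Dl, okK S.C S.D S.U d = true)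
    (hc : ∀ d ∈ Dl, ∀ r, (∀ c, S.L r c = xc d.R c) → Nat.card ↥(Subgroup.centralizer {r}) ≤ d.c + 1)
    (hp : Dl.Pairwise fun d e => dif d.K e.K = true ∨
      ∀ r s, (∀ c, S.L r c = xc d.R c) → (∀ c, S.L s c = xc e.R c) → ¬ IsConj r s)
    (hsum : Nat.card G ≤ (Dl.map fun d => Nat.card G / (d.c + 1)).sum) (g : G) :
    ∃ d ∈ Dl, IsConj g (wG a b d.x d.w) ∧ ∀ c, S.L (wG a b d.x d.w) c = xc d.R c := by
  have hmem : ∀ i : Fin Dl.length, Dl[i.1] ∈ Dl := fun i => List.getElem_mem i.2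
  have hr : ∀ d ∈ Dl, ∀ c, S.L (wG a b d.x d.w) c = xc d.R c := fun d hd => S.of_chkWd ha hb (hW d hd)
  have hk : ∀ d ∈ Dl, chkK S.C S.D S.U (cmb 18 13) d.R d.K = true := by
    intro d hd
    have h := hK d hd
    rwa [okK, fB_eq] at h
  have hlt : ∀ i j : Fin Dl.length, i < j →
      ¬ IsConj (wG a b (Dl[i.1]).x (Dl[i.1]).w) (wG a b (Dl[j.1]).x (Dl[j.1]).w) := by
    intro i j hij
    rcases (List.pairwise_iff_getElem.1 hp) i.1 j.1 i.2 j.2 hij with h | h
    · exact S.not_conj (hr _ (hmem i)) (hr _ (hmem j)) (hk _ (hmem i)) (hk _ (hmem j)) h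
    · exact h _ _ (hr _ (hmem i)) (hr _ (hmem j))
  obtain ⟨i, hi⟩ := coverG (fun i : Fin Dl.length => wG a b (Dl[i.1]).x (Dl[i.1]).w) (fun i => (Dl[i.1]).c + 1)
    (fun i => hc _ (hmem i) _ (hr _ (hmem i))) (fun i j hij h => by
      rcases lt_or_gt_of_ne hij with h1 | h1
      · exact hlt i j h1 h
      · exact hlt j i h1 h.symm) (by
      rw [Fin.sum_univ_fun_getElem Dl (fun d => Nat.card G / (d.c + 1))]
      exact hsum) g
  exact ⟨_, hmem i, hi, hr _ (hmem i)⟩

end

end Cfsg.Agent.H123.Cls
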