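import Cfsg.Agent.H123.Cls.LEng

/-!
# Class enumeration certificates for linear groups: soundness (helper123)
-/

set_option autoImplicit false

namespace Cfsg.Agent.H123.Cls

open Equiv Cfsg.Agent.Lib.BitNet
open Cfsg.Agent.Lib.BitNetSimple (force force_eq tb tb_eq)

/-- A group acting linearly on the codes below `2 ^ 24` and on the points of `Fin (2 ^ 17)`; the points outside of the mask
`U` are fixed and have the code `0`. -/
structure Mdl (G : Type*) [Group G] where
  /-- the permutation of the points -/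
  π : G →* Perm (Fin (2 ^ 17))
  /-- the action on the codes -/
  L : G → ℕ → ℕ
  /-- planes of the codes -/
  C : List ℕ
  /-- planes of the dual codes -/
  D : List ℕ
  /-- the points -/
  U : ℕ
  /-- the form -/
  B : ℕ → ℕ → Bool
  /-- second relation -/
  two : ℕ → ℕ
  lenC : C.length = 24
  lenD : D.length = 24
  U_lt : ∀ i, U.testBit i = true → i < 2 ^ 17
  L_mul : ∀ g h c, L (g * h) c = L g (L h c)
  L_xor : ∀ g a b, L g (a ^^^ b) = L g a ^^^ L g b
  L_lt : ∀ g c, L g c < 2 ^ 24
  L_one : ∀ c < 2 ^ 24, L 1 c = c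
  faith : ∀ g, (∀ k < 24, L g (2 ^ k) = 2 ^ k) → g = 1
  U_inv : ∀ g (i : Fin (2 ^ 17)), U.testBit (π g i) = U.testBit i
  cod : ∀ g (i : Fin (2 ^ 17)), L g (value C i) = value C (π g i)
  inj : ∀ i j : Fin (2 ^ 17), U.testBit i = true → U.testBit j = true → value C i = value C j → i = j
  B_row : ∀ c (i : Fin (2 ^ 17)), (xc D c).testBit i = B c (value C i)
  B_xor : ∀ a b c, B (a ^^^ b) c = (B a c ^^ B b c)
  B_unit : ∀ k < 24, ∀ c < 2 ^ 24, B (2 ^ k) c =
    (Nat.lor (Nat.shiftRight c 12) (Nat.shiftLeft (Nat.land c 4095) 12)).testBit k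
  B_L : ∀ g a b, B (L g a) (L g b) = B a b
  B_symm : ∀ a b, B a b = B b a
  two_inv : ∀ g (i j : Fin (2 ^ 17)), (two (π g i)).testBit (π g j) = (two i).testBit j

/-- instructions; the indices count from the most recent mask, `s` selects fixed codes -/
inductive LIns
  /-- intersection of masks / complements of masks -/
  | cell (l : List (Bool × ℕ))
  /-- the sum of the codes of the mask `i` -/
  | sum (i m : ℕ)
  /-- base point `p` in the mask `i` -/
  | base (i p m : ℕ)
  /-- the points with `c` neighbours in the mask `i` -/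
  | cnt (i c : ℕ)
  /-- the same for the second relation -/
  | cnw (i c : ℕ)
  /-- the points in second relation to the point `p` with the fixed code `s` -/
  | two (s p : ℕ)
  /-- the points with `N e, x` joined as `e`, `s`, for the unit codes `e` -/
  | aff (J s : ℕ)
  /-- the points `x` joined to `N x` -/
  | self (J : ℕ)
  /-- the unit codes are fixed -/
  | fin (l : List ℕ)

/-- push `v, R v, …` and their rows -/
noncomputable def pushV {α : Type} (D R : List ℕ) (m : ℕ) :
    ℕ → List ℕ → List ℕ → (List ℕ → List ℕ → α) → α :=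
  Nat.rec (fun _ st fx κ => κ st fx) (fun _ ih v st fx κ =>
    fB (xF D v 0) fun r => force (xF R v 0) fun v' => ih v' (r :: st) (v :: fx) κ) m

/-- the unit codes -/
def unL : List ℕ := [1, 2, 4, 8, 16, 32, 64, 128, 256, 512, 1024, 2048, 4096, 8192, 16384, 32768, 65536, 131072, 262144,
  524288, 1048576, 2097152, 4194304, 8388608]

/-- zeros -/
def zrL : List ℕ := [0, 0, 0, 0, 0, 0, 0, 0, 0, 0, 0, 0, 0, 0, 0, 0, 0, 0, 0, 0, 0, 0, 0, 0]

/-- the combinations `l` of the fixed codes are `l'` -/
noncomputable def chkU (fx : List ℕ) (l : List ℕ) : List ℕ → Bool :=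
  List.rec (fun l' => List.rec true (fun _ _ _ => false) l') (fun s _ ih l' =>
    List.rec false (fun u l'' _ => band (Nat.beq (xF fx s 0) u) (ih l'')) l') l

/-- run the certificate; `b` : number of bits of the exponents, `M`, `W` : constants -/
noncomputable def lrun (C D : List ℕ) (U : ℕ) (two : ℕ → ℕ) (M W b : ℕ) (R : List ℕ) :
    List LIns → List ℕ → List ℕ → ℕ
  | [], _, _ => 0
  | LIns.cell l :: L, st, fx => fB (cellB st l U) fun m => lrun C D U two M W b R L (m :: st) fx
  | LIns.sum i m :: L, st, fx => fB (Nat.land (nth st i) U) fun x => force (sumC 17 C x) fun v =>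
      pushV D R m v st fx fun st' fx' => lrun C D U two M W b R L st' fx'
  | LIns.base i p m :: L, st, fx =>
      cnd (band (tb (nth st i) p) (tb U p))
        (fB (Nat.land (nth st i) U) fun x => force (popS 18 M x) fun c => force (cdF C p) fun v =>
          pushV D R m v st fx fun st' fx' => force (lrun C D U two M W b R L st' fx') fun N => Nat.mul c N) 0
  | LIns.cnt i c :: L, st, fx => fB (Nat.land (nth st i) W) fun x =>
      sumB (fun p => force (cdF C p) fun v => xF D v 0) 17 0 x [] fun ps =>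
        fB (Nat.land (eqB ps c W) U) fun m => lrun C D U two M W b R L (m :: st) fx
  | LIns.cnw i c :: L, st, fx => fB (Nat.land (nth st i) W) fun x =>
      sumB two 17 0 x [] fun ps =>
        fB (Nat.land (eqB ps c W) U) fun m => lrun C D U two M W b R L (m :: st) fx
  | LIns.two s p :: L, st, fx =>
      cnd (band (Nat.beq (xF fx s 0) (cdF C p)) (tb U p))
        (fB (two p) fun m => lrun C D U two M W b R L (m :: st) fx) 0
  | LIns.aff J s :: L, st, fx => force (xF fx s 0) fun v =>
      polyF R b J unL zrL fun Ns => fB (affF D Ns (Nat.lor (Nat.shiftRight v 12) (Nat.shiftLeft (Nat.land v 4095) 12)) U)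
        fun m => lrun C D U two M W b R L (m :: st) fx
  | LIns.self J :: L, st, fx => polyF R b J unL zrL fun Ns => fB (slfF D C Ns 0) fun m =>
      lrun C D U two M W b R L (m :: st) fx
  | LIns.fin l :: _, _, fx => cnd (chkU fx l unL) 1 0

/-! ### soundness -/

theorem xor_ind (P : ℕ → Prop) (h0 : P 0) (hx : ∀ a b, P a → P b → P (a ^^^ b)) : ∀ m, (∀ k < m, P (2 ^ k)) →
    ∀ c < 2 ^ m, P c
  | 0, _, c, hc => by
    have : c = 0 := by rw [pow_zero] at hc; omega
    rw [this]; exact h0
  | m + 1, hk, c, hc => by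
    by_cases h : c < 2 ^ m
    · exact xor_ind P h0 hx m (fun k hk' => hk k (Nat.lt_succ_of_lt hk')) c h
    · have e : c = (c ^^^ 2 ^ m) ^^^ 2 ^ m := by
        rw [Nat.xor_assoc, Nat.xor_self, Nat.xor_zero]
      have h1 : c ^^^ 2 ^ m < 2 ^ m := by
        apply Nat.lt_of_testBit m
        · rw [Nat.testBit_xor, Nat.testBit_two_pow_self]
          have : c.testBit m = true := by
            rw [Nat.testBit_eq_decide_div_mod_eq]
            have h2 : c / 2 ^ m = 1 := by
              rw [Nat.div_eq_iff (by positivity)]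
              rw [pow_succ] at hc
              omega
            rw [h2]; rfl
          rw [this]; rfl
        · exact Nat.testBit_two_pow_self
        · intro j hj
          rw [Nat.testBit_xor, Nat.testBit_two_pow_of_ne (by omega)]
          have h3 : c.testBit j = false := by
            apply Nat.testBit_lt_two_pow
            exact lt_of_lt_of_le hc (Nat.pow_le_pow_right (by norm_num) (by omega))
          rw [h3]; rfl
      rw [e]
      exact hx _ _ (xor_ind P h0 hx m (fun k hk' => hk k (Nat.lt_succ_of_lt hk')) _ h1) (hk m (Nat.lt_succ_self m))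

section

variable {G : Type*} [Group G] (S : Mdl G)

namespace Mdl

/-- the rows -/
noncomputable def row (p : ℕ) : ℕ := xc S.D (value S.C p)

theorem L_zero (g : G) : S.L g 0 = 0 := by
  have h := S.L_xor g 0 0
  rw [Nat.xor_self, Nat.xor_self] at h
  exact h

theorem val_lt (i : ℕ) : value S.C i < 2 ^ 24 := by
  have := value_lt S.C i
  rwa [S.lenC] at this

theorem aut_row (g : G) : S.π g ∈ Aut (2 ^ 17) S.row := by
  intro i j
  show (xc S.D (value S.C (S.π g i))).testBit (S.π g j) = (xc S.D (value S.C i)).testBit j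
  rw [S.B_row, S.B_row, ← S.cod, ← S.cod, S.B_L]

theorem aut_two (g : G) : S.π g ∈ Aut (2 ^ 17) S.two := fun i j => S.two_inv g i j

theorem inv_U (g : G) : Inv (S.π g) S.U := fun i => S.U_inv g i

theorem xc_lt {m : ℕ} : ∀ (l : List ℕ), (∀ x ∈ l, x < 2 ^ m) → ∀ c, xc l c < 2 ^ m
  | [], _, c => by simp [xc]
  | x :: l, h, c => by
    rw [xc]
    refine Nat.xor_lt_two_pow ?_ (xc_lt l (fun y hy => h y (List.mem_cons_of_mem _ hy)) _)
    cases c.testBit 0
    · simp
    · exact h x List.mem_cons_self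

/-- the images of the unit codes under an additive map commuting with `g` -/
def Com (g : G) (Ns : List ℕ) : Prop := ∀ c < 2 ^ 24, S.L g (xc Ns c) = xc Ns (S.L g c)

theorem xc_unL (c : ℕ) (hc : c < 2 ^ 24) : xc unL c = c := by
  refine xor_ind (fun c => xc unL c = c) (xc_zero _) (fun a b ha hb => by rw [xc_xor, ha, hb]) 24 ?_ c hc
  intro k hk
  rw [xc_two_pow]
  interval_cases k <;> rfl

theorem xc_zrL (c : ℕ) (hc : c < 2 ^ 24) : xc zrL c = 0 := by
  refine xor_ind (fun c => xc zrL c = 0) (xc_zero _) (fun a b ha hb => by rw [xc_xor, ha, hb]; rfl) 24 ?_ c hc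
  intro k hk
  rw [xc_two_pow]
  interval_cases k <;> rfl

/-- the combinations of the powers of the map `f` -/
theorem polyF_spec {R : List ℕ} (b : ℕ) : ∀ (J : ℕ) (cur acc : List ℕ), cur.length = 24 → acc.length = 24 →
    ∃ Ns : List ℕ, Ns.length = 24 ∧ (∀ {α : Type} (κ : List ℕ → α), polyF R b J cur acc κ = κ Ns) ∧
      ∀ g : G, S.Com g R → S.Com g cur → S.Com g acc → (∀ c, xc R c < 2 ^ 24) → (∀ c, xc cur c < 2 ^ 24) →
        S.Com g Ns := by
  induction b with
  | zero => exact fun J cur acc _ h => ⟨acc, h, fun κ => rfl, fun g _ _ h _ _ => h⟩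
  | succ b ih =>
    intro J cur acc hcur hacc
    have hcom : ∀ g : G, S.Com g R → S.Com g cur → (∀ c, xc cur c < 2 ^ 24) →
        S.Com g (cur.map fun x => xc R x) := by
      intro g hR hc hlt c hcl
      rw [xc_map, xc_map, hR _ (hlt c), hc c hcl]
    have hmp : (cur.map fun x => xF R x 0) = cur.map fun x => xc R x :=
      List.map_congr_left fun x _ => by rw [xF_eq, Nat.zero_xor]
    by_cases hJ : Nat.beq (Nat.land J 1) 0 = true
    · obtain ⟨Ns, h0, h1, h2⟩ := ih (Nat.shiftRight J 1) (cur.map fun x => xc R x) acc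
        (by rw [List.length_map, hcur]) hacc
      refine ⟨Ns, h0, fun κ => ?_, fun g hR hc ha hlR hlc => h2 g hR (hcom g hR hc hlc) ha hlR fun c => ?_⟩
      · show force (Nat.shiftRight J 1) (fun J' => cnd (Nat.beq (Nat.land J 1) 0)
          (mapF (fun x => xF R x 0) cur fun cur' => polyF R b J' cur' acc κ)
          (zipF acc cur fun acc' => mapF (fun x => xF R x 0) cur fun cur' => polyF R b J' cur' acc' κ)) = _
        rw [force_eq, hJ, cnd_true, mapF_eq, ← h1 κ, hmp]
      · rw [xc_map]
        exact hlR _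
    · rw [Bool.not_eq_true] at hJ
      obtain ⟨Ns, h0, h1, h2⟩ := ih (Nat.shiftRight J 1) (cur.map fun x => xc R x)
        (List.zipWith (· ^^^ ·) acc cur) (by rw [List.length_map, hcur]) (by
          rw [List.length_zipWith, hcur, hacc]; rfl)
      refine ⟨Ns, h0, fun κ => ?_, fun g hR hc ha hlR hlc => h2 g hR (hcom g hR hc hlc) ?_ hlR fun c => ?_⟩
      · show force (Nat.shiftRight J 1) (fun J' => cnd (Nat.beq (Nat.land J 1) 0)
          (mapF (fun x => xF R x 0) cur fun cur' => polyF R b J' cur' acc κ)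
          (zipF acc cur fun acc' => mapF (fun x => xF R x 0) cur fun cur' => polyF R b J' cur' acc' κ)) = _
        rw [force_eq, hJ, cnd_false, zipF_eq, mapF_eq, ← h1 κ, hmp]
      · intro c hcl
        rw [xc_zip _ _ _ (by rw [hcur, hacc]), xc_zip _ _ _ (by rw [hcur, hacc]), S.L_xor, ha c hcl, hc c hcl]
      · rw [xc_map]
        exact hlR _

theorem com_of {r g : G} {R : List ℕ} (hr : ∀ c, S.L r c = xc R c) (h : g * r = r * g) : S.Com g R := by
  intro c _
  rw [← hr, ← hr, ← S.L_mul, ← S.L_mul, h]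

/-- the full specification of the polynomials -/
theorem poly_spec {R : List ℕ} (hlR : ∀ c, xc R c < 2 ^ 24) (b J : ℕ) :
    ∃ Ns : List ℕ, Ns.length = 24 ∧ (∀ {α : Type} (κ : List ℕ → α), polyF R b J unL zrL κ = κ Ns) ∧
      ∀ g : G, S.Com g R → S.Com g Ns := by
  obtain ⟨Ns, h0, h1, h2⟩ := S.polyF_spec (R := R) b J unL zrL rfl rfl
  refine ⟨Ns, h0, h1, fun g hR => h2 g hR ?_ ?_ hlR ?_⟩
  · intro c hc
    rw [xc_unL c hc, xc_unL _ (S.L_lt g c)]
  · intro c hc
    rw [xc_zrL c hc, xc_zrL _ (S.L_lt g c), S.L_zero]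
  · exact fun c => xc_lt unL (by decide) c

/-! ### fixed codes -/

/-- the codes are fixed -/
def Fx (H : Subgroup G) (fx : List ℕ) : Prop := ∀ v ∈ fx, ∀ g ∈ H, S.L g v = v

theorem fix_xc {g : G} : ∀ {fx : List ℕ}, (∀ v ∈ fx, S.L g v = v) → ∀ s, S.L g (xc fx s) = xc fx s
  | [], _, s => by
    show S.L g 0 = 0
    exact S.L_zero g
  | x :: fx, h, s => by
    rw [xc, S.L_xor, fix_xc (fun v hv => h v (List.mem_cons_of_mem _ hv))]
    congr 1
    cases s.testBit 0
    · exact S.L_zero g
    · exact h x List.mem_cons_self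

theorem inv_row {g : G} {v : ℕ} (h : S.L g v = v) : Inv (S.π g) (xc S.D v) := by
  intro i
  rw [S.B_row, S.B_row, ← S.cod]
  conv_lhs => rw [← h]
  rw [S.B_L]

theorem pushV_spec {r : G} {R : List ℕ} (hr : ∀ c, S.L r c = xc R c) (m : ℕ) : ∀ (v : ℕ) (st fx : List ℕ),
    ∃ st' fx' : List ℕ, (∀ {α : Type} (κ : List ℕ → List ℕ → α), pushV S.D R m v st fx κ = κ st' fx') ∧
      ∀ H : Subgroup G, (∀ g ∈ H, g * r = r * g) → (∀ g ∈ H, S.L g v = v) → (∀ g ∈ H, ∀ x ∈ st, Inv (S.π g) x) →
        S.Fx H fx → (∀ g ∈ H, ∀ x ∈ st', Inv (S.π g) x) ∧ S.Fx H fx' := by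
  induction m with
  | zero => exact fun v st fx => ⟨st, fx, fun κ => rfl, fun H _ _ h1 h2 => ⟨h1, h2⟩⟩
  | succ m ih =>
    intro v st fx
    obtain ⟨st', fx', h1, h2⟩ := ih (xc R v) (xc S.D v :: st) (v :: fx)
    refine ⟨st', fx', fun κ => ?_, fun H hH hv hst hfx => h2 H hH (fun g hg => ?_) (fun g hg x hx => ?_)
      (fun w hw g hg => ?_)⟩
    · show fB (xF S.D v 0) (fun r => force (xF R v 0) fun v' => pushV S.D R m v' (r :: st) (v :: fx) κ) = _
      rw [fB_eq, force_eq, xF_eq, xF_eq, Nat.zero_xor, Nat.zero_xor, h1]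
    · rw [← hr, ← S.L_mul, hH g hg, S.L_mul, hv g hg]
    · rcases List.mem_cons.1 hx with rfl | hx
      · exact S.inv_row (hv g hg)
      · exact hst g hg x hx
    · rcases List.mem_cons.1 hw with rfl | hw
      · exact hv g hg
      · exact hfx w hw g hg

/-- xor -/
def xo (a b : ℕ) : ℕ := a ^^^ b

instance : Std.Commutative xo := ⟨fun a b => Nat.xor_comm a b⟩

instance : Std.Associative xo := ⟨fun a b c => Nat.xor_assoc a b c⟩

/-- xor of the codes of the points -/
noncomputable def xs (s : Finset (Fin (2 ^ 17))) : ℕ := s.fold xo 0 fun i : Fin (2 ^ 17) => value S.C (i : ℕ)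

theorem testBit_fold (s : Finset (Fin (2 ^ 17))) (f : Fin (2 ^ 17) → ℕ) (k : ℕ) :
    (s.fold xo 0 f).testBit k = decide ((∑ i ∈ s, ((f i).testBit k).toNat) % 2 = 1) := by
  classical
  induction s using Finset.induction_on with
  | empty => simp
  | insert a s ha ih =>
    rw [Finset.fold_insert ha, xo, Nat.testBit_xor, ih, Finset.sum_insert ha]
    cases (f a).testBit k
    · simp
    · have h : ∀ t : ℕ, decide ((true.toNat + t) % 2 = 1) = !decide (t % 2 = 1) := by
        intro t
        rw [← decide_not]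
        congr 1
        apply propext
        show (1 + t) % 2 = 1 ↔ _
        omega
      rw [h]
      simp

theorem L_fold (g : G) (s : Finset (Fin (2 ^ 17))) (f : Fin (2 ^ 17) → ℕ) :
    S.L g (s.fold xo 0 f) = s.fold xo 0 fun i => S.L g (f i) := by
  classical
  induction s using Finset.induction_on with
  | empty =>
    rw [Finset.fold_empty, Finset.fold_empty]
    exact S.L_zero g
  | insert a s ha ih => rw [Finset.fold_insert ha, Finset.fold_insert ha, xo, S.L_xor, ih, xo]

/-- the points of a mask -/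
def pts (x : ℕ) : Finset (Fin (2 ^ 17)) := Finset.univ.filter fun i => x.testBit i = true

theorem sumC_eq (x : ℕ) : sumC 17 S.C x = S.xs (pts x) := by
  apply Nat.eq_of_testBit_eq
  intro k
  have e : ∑ i ∈ Finset.range (2 ^ 17), ((x &&& S.C.getD k 0).testBit i).toNat =
      ∑ i ∈ pts x, ((value S.C i).testBit k).toNat := by
    rw [pts, Finset.sum_filter]
    refine (Finset.sum_range (fun i => ((x &&& S.C.getD k 0).testBit i).toNat)).trans ?_
    refine Finset.sum_congr rfl fun i _ => ?_
    rw [Nat.testBit_and, testBit_value]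
    cases x.testBit i <;> simp
  rw [testBit_sumC, xs, testBit_fold, e]

theorem L_xs {g : G} {x : ℕ} (h : Inv (S.π g) x) : S.L g (S.xs (pts x)) = S.xs (pts x) := by
  classical
  rw [xs, S.L_fold]
  have e : pts x = (pts x).map (S.π g).toEmbedding := by
    ext i
    rw [Finset.mem_map_equiv]
    have h1 : ∀ j, j ∈ pts x ↔ x.testBit j = true := fun j => by simp [pts]
    rw [h1, h1, ← h ((S.π g).symm i), Equiv.apply_symm_apply]
  conv_rhs => rw [e, Finset.fold_map]
  refine Finset.fold_congr fun i _ => ?_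
  exact S.cod g i

theorem popS_pts (x : ℕ) : popS 18 (cmb 18 13) (Nat.land x S.U) = (pts (Nat.land x S.U)).card := by
  have hlt : ∀ i, (x &&& S.U).testBit i = true → i < 2 ^ 17 := by
    intro i hi
    rw [Nat.testBit_and, Bool.and_eq_true] at hi
    exact S.U_lt i hi.2
  have e : ∑ i ∈ Finset.range (18 * 2 ^ 13), ((x &&& S.U).testBit i).toNat = (pts (x &&& S.U)).card := by
    have h1 : ∑ i ∈ Finset.range (18 * 2 ^ 13), ((x &&& S.U).testBit i).toNat =
        ∑ i ∈ Finset.range (2 ^ 17), ((x &&& S.U).testBit i).toNat := by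
      symm
      refine Finset.sum_subset (fun i hi => ?_) (fun i _ hi => ?_)
      · rw [Finset.mem_range] at hi ⊢
        exact lt_of_lt_of_le hi (by norm_num)
      · cases h2 : (x &&& S.U).testBit i
        · rfl
        · exact absurd (Finset.mem_range.2 (hlt i h2)) hi
    rw [h1, pts, Finset.card_filter]
    refine (Finset.sum_range (fun i => ((x &&& S.U).testBit i).toNat)).trans ?_
    refine Finset.sum_congr rfl fun i _ => ?_
    cases (x &&& S.U).testBit i <;> rfl
  have h2 : (pts (x &&& S.U)).card < 2 ^ 18 - 1 := by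
    refine lt_of_le_of_lt (Finset.card_le_univ _) ?_
    rw [Fintype.card_fin]
    norm_num
  show popS 18 (cmb 18 13) (x &&& S.U) = (pts (x &&& S.U)).card
  rw [popS_eq (by norm_num) (by rw [e]; exact h2), e]

/-- orbit and stabilizer -/
theorem card_base [Finite G] (H : Subgroup G) (p : Fin (2 ^ 17)) (x : ℕ) (hx : ∀ g ∈ H, Inv (S.π g) x)
    (hp : x.testBit p = true) {N : ℕ}
    (hN : Nat.card ↥(H ⊓ (MulAction.stabilizer (Perm (Fin (2 ^ 17))) p).comap S.π) ≤ N) :
    Nat.card H ≤ (pts x).card * N := by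
  classical
  let H1 : Subgroup G := H ⊓ (MulAction.stabilizer (Perm (Fin (2 ^ 17))) p).comap S.π
  let K : Subgroup H := H1.subgroupOf H
  have e1 : Nat.card K = Nat.card H1 := Nat.card_congr (Subgroup.subgroupOfEquivOfLe inf_le_left).toEquiv
  have e2 : Nat.card (H ⧸ K) ≤ (pts x).card := by
    rw [← Fintype.card_coe, ← Nat.card_eq_fintype_card]
    have hwd : ∀ a b : H, (QuotientGroup.leftRel K) a b → S.π (a : G) p = S.π (b : G) p := by
      intro a b hab
      rw [QuotientGroup.leftRel_apply] at hab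
      have h2 := (Subgroup.mem_inf.1 (Subgroup.mem_subgroupOf.1 hab)).2
      rw [Subgroup.mem_comap, MulAction.mem_stabilizer_iff] at h2
      have h3 : S.π ((a : G)⁻¹ * b) p = p := h2
      rw [map_mul, map_inv, Perm.mul_apply] at h3
      have h4 := congrArg (S.π (a : G)) h3
      have h5 : S.π (a : G) ((S.π (a : G))⁻¹ (S.π (b : G) p)) = S.π (b : G) p := Equiv.apply_symm_apply _ _
      rw [h5] at h4
      exact h4.symm
    refine Nat.card_le_card_of_injective (fun q : H ⧸ K => Quotient.liftOn' q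
      (fun a => (⟨S.π (a : G) p, ?_⟩ : pts x)) ?_) ?_
    · rw [pts, Finset.mem_filter]
      exact ⟨Finset.mem_univ _, by rw [hx a a.2 p]; exact hp⟩
    · intro a b hab
      exact Subtype.ext (hwd a b hab)
    · intro q q' h
      induction q using Quotient.inductionOn' with
      | h a =>
        induction q' using Quotient.inductionOn' with
        | h b =>
          have h2 : S.π (a : G) p = S.π (b : G) p := congrArg (fun z : pts x => (z : Fin (2 ^ 17))) h
          refine Quotient.sound' ?_
          rw [QuotientGroup.leftRel_apply]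
          refine Subgroup.mem_subgroupOf.2 (Subgroup.mem_inf.2 ⟨(a⁻¹ * b).2, ?_⟩)
          rw [Subgroup.mem_comap, MulAction.mem_stabilizer_iff]
          show S.π ((a : G)⁻¹ * b) p = p
          rw [map_mul, map_inv, Perm.mul_apply, ← h2]
          exact Equiv.symm_apply_apply _ _
  calc Nat.card H = Nat.card (H ⧸ K) * Nat.card K := Subgroup.card_eq_card_quotient_mul_card_subgroup K
    _ ≤ (pts x).card * N := Nat.mul_le_mul e2 (by rw [e1]; exact hN)

theorem chkU_spec : ∀ (fx l l' : List ℕ), chkU fx l l' = true → ∀ u ∈ l', ∃ s, xc fx s = u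
  | fx, [], [], _, u, hu => absurd hu List.not_mem_nil
  | fx, [], _ :: _, h, _, _ => absurd h (by show ¬ (false = true); simp)
  | fx, s :: l, [], h, u, hu => absurd hu List.not_mem_nil
  | fx, s :: l, v :: l', h, u, hu => by
    have e : chkU fx (s :: l) (v :: l') = band (Nat.beq (xF fx s 0) v) (chkU fx l l') := rfl
    rw [e] at h
    obtain ⟨h1, h2⟩ := band_true h
    rcases List.mem_cons.1 hu with rfl | hu
    · refine ⟨s, ?_⟩
      have h3 := Nat.eq_of_beq_eq_true h1
      rwa [xF_eq, Nat.zero_xor] at h3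
    · exact chkU_spec fx l l' h2 u hu

theorem inv_aff {g : G} {Ns : List ℕ} (hl : Ns.length = 24) (hN : S.Com g Ns) {v : ℕ} (hv : S.L g v = v) :
    Inv (S.π g) (affF S.D Ns (Nat.lor (Nat.shiftRight v 12) (Nat.shiftLeft (Nat.land v 4095) 12)) S.U) := by
  have hv24 : v < 2 ^ 24 := by rw [← hv]; exact S.L_lt g v
  have key : ∀ i : Fin (2 ^ 17), (affF S.D Ns (Nat.lor (Nat.shiftRight v 12)
      (Nat.shiftLeft (Nat.land v 4095) 12)) S.U).testBit i = true ↔
      (S.U.testBit i = true ∧ ∀ c < 2 ^ 24, S.B (xc Ns c) (value S.C i) = S.B c v) := by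
    intro i
    rw [testBit_affF]
    refine and_congr_right fun _ => ⟨fun h => ?_, fun h l hl' => ?_⟩
    · refine xor_ind _ ?_ (fun a b ha hb => ?_) 24 fun k hk => ?_
      · rw [xc_zero]
        have h0 : ∀ c, S.B 0 c = false := by
          intro c
          have := S.B_xor 0 0 c
          rw [Nat.xor_self, Bool.xor_self] at this
          exact this
        rw [h0, h0]
      · rw [xc_xor, S.B_xor, S.B_xor, ha, hb]
      · rw [xc_two_pow, ← S.B_row, h k (by rw [hl]; exact hk), S.B_unit k hk v hv24]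
    · rw [hl] at hl'
      have := h (2 ^ l) (Nat.pow_lt_pow_right (by norm_num) hl')
      rw [xc_two_pow] at this
      rw [S.B_row, this, S.B_unit l hl' v hv24]
  intro i
  rw [Bool.eq_iff_iff, key, key, S.U_inv]
  refine and_congr_right fun _ => ⟨fun h c hc => ?_, fun h c hc => ?_⟩
  · have := h (S.L g c) (S.L_lt g c)
    rw [← hN c hc, ← S.cod, S.B_L] at this
    conv_rhs at this => rw [← hv]
    rw [S.B_L] at this
    exact this
  · have h1 : c = S.L g (S.L g⁻¹ c) := by
      rw [← S.L_mul, mul_inv_cancel, S.L_one c hc]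
    have := h (S.L g⁻¹ c) (S.L_lt _ _)
    rw [h1, ← hN _ (S.L_lt _ _), ← S.cod, S.B_L, this]
    conv_rhs => rw [← hv]
    rw [S.B_L]

theorem inv_self {g : G} {Ns : List ℕ} (hl : Ns.length = 24) (hN : S.Com g Ns) :
    Inv (S.π g) (slf S.D S.C Ns) := by
  intro i
  rw [testBit_slf _ _ _ _ (by rw [hl, S.lenC]), testBit_slf _ _ _ _ (by rw [hl, S.lenC]), S.B_row, S.B_row,
    ← S.cod, ← hN _ (S.val_lt i), S.B_L]

theorem inv_cellB {σ : Perm (Fin (2 ^ 17))} {st : List ℕ} (h : ∀ x ∈ st, Inv σ x) : ∀ (l : List (Bool × ℕ)) (U : ℕ),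
    Inv σ U → Inv σ (cellB st l U)
  | [], _, hU => hU
  | a :: l, U, hU => by
    have e : cellB st (a :: l) U = fB (Nat.land U (nth st a.2)) fun m =>
      cnd a.1 (cellB st l m) (fB (Nat.xor U m) fun m' => cellB st l m') := rfl
    rw [e, fB_eq, fB_eq]
    cases a.1
    · exact inv_cellB h l _ (inv_xor hU (inv_land hU (inv_nth h a.2)))
    · exact inv_cellB h l _ (inv_land hU (inv_nth h a.2))

theorem cntSet_eq (K n : ℕ) (row : ℕ → ℕ) (M c : ℕ) : cntSet K n row M c =
    eqVal (sumRows row K 0 (Nat.land M (Nat.sub (Nat.pow 2 n) 1)) []) c (Nat.sub (Nat.pow 2 n) 1) := rfl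

/-- **soundness** -/
theorem lrun_sound [Finite G] {r : G} {R : List ℕ} (hr : ∀ c, S.L r c = xc R c) {M W b : ℕ} (hM : M = cmb 18 13)
    (hW : W = Nat.sub (Nat.pow 2 (2 ^ 17)) 1) :
    ∀ (L : List LIns) (st fx : List ℕ), lrun S.C S.D S.U S.two M W b R L st fx ≠ 0 →
    ∀ H : Subgroup G, (∀ g ∈ H, g * r = r * g) → (∀ g ∈ H, ∀ x ∈ st, Inv (S.π g) x) → S.Fx H fx →
      Nat.card H ≤ lrun S.C S.D S.U S.two M W b R L st fx
  | [], st, fx, h, _, _, _, _ => absurd rfl h
  | LIns.cell l :: L, st, fx, h, H, hH, hI, hF => by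
    have e : lrun S.C S.D S.U S.two M W b R (LIns.cell l :: L) st fx =
        lrun S.C S.D S.U S.two M W b R L (cellB st l S.U :: st) fx := by
      show fB (cellB st l S.U) (fun m => lrun S.C S.D S.U S.two M W b R L (m :: st) fx) = _
      rw [fB_eq]
    rw [e] at h ⊢
    refine lrun_sound hr hM hW L _ _ h H hH (fun g hg x hx => ?_) hF
    rcases List.mem_cons.1 hx with rfl | hx
    · exact inv_cellB (hI g hg) l _ (S.inv_U g)
    · exact hI g hg x hx
  | LIns.sum i m :: L, st, fx, h, H, hH, hI, hF => by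
    obtain ⟨st', fx', h1, h2⟩ := S.pushV_spec hr m (sumC 17 S.C (Nat.land (nth st i) S.U)) st fx
    have e : lrun S.C S.D S.U S.two M W b R (LIns.sum i m :: L) st fx =
        lrun S.C S.D S.U S.two M W b R L st' fx' := by
      show fB (Nat.land (nth st i) S.U) (fun x => force (sumC 17 S.C x) fun v =>
        pushV S.D R m v st fx fun st' fx' => lrun S.C S.D S.U S.two M W b R L st' fx') = _
      rw [fB_eq, force_eq, h1]
    rw [e] at h ⊢
    obtain ⟨h3, h4⟩ := h2 H hH (fun g hg => by
      rw [S.sumC_eq]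
      exact S.L_xs (inv_land (inv_nth (hI g hg) i) (S.inv_U g))) hI hF
    exact lrun_sound hr hM hW L _ _ h H hH h3 h4
  | LIns.base i p m :: L, st, fx, h, H, hH, hI, hF => by
    by_cases hb : band (tb (nth st i) p) (tb S.U p) = true
    · obtain ⟨hb1, hb2⟩ := band_true hb
      rw [tb_eq] at hb1 hb2
      have hp := S.U_lt p hb2
      obtain ⟨st', fx', h1, h2⟩ := S.pushV_spec hr m (value S.C p) st fx
      have e : lrun S.C S.D S.U S.two M W b R (LIns.base i p m :: L) st fx =
          (pts (Nat.land (nth st i) S.U)).card * lrun S.C S.D S.U S.two M W b R L st' fx' := by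
        show cnd (band (tb (nth st i) p) (tb S.U p))
          (fB (Nat.land (nth st i) S.U) fun x => force (popS 18 M x) fun c => force (cdF S.C p) fun v =>
            pushV S.D R m v st fx fun st' fx' => force (lrun S.C S.D S.U S.two M W b R L st' fx') fun N =>
              Nat.mul c N) 0 = _
        rw [hb, cnd_true, fB_eq, force_eq, force_eq, cdF_eq, h1, force_eq, hM, S.popS_pts]
        rfl
      rw [e] at h ⊢
      have h5 : lrun S.C S.D S.U S.two M W b R L st' fx' ≠ 0 := by
        intro h6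
        apply h
        rw [h6, mul_zero]
      refine S.card_base H ⟨p, hp⟩ _ (fun g hg => inv_land (inv_nth (hI g hg) i) (S.inv_U g)) ?_ ?_
      · show (nth st i &&& S.U).testBit p = true
        rw [Nat.testBit_and, hb1, hb2, Bool.and_self]
      · have h8 : ∀ g ∈ (H ⊓ (MulAction.stabilizer (Perm (Fin (2 ^ 17))) (⟨p, hp⟩ : Fin (2 ^ 17))).comap S.π),
            S.L g (value S.C p) = value S.C p := by
          intro g hg
          have h6 : S.π g ⟨p, hp⟩ = ⟨p, hp⟩ := hg.2
          have h7 := S.cod g ⟨p, hp⟩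
          rw [h6] at h7
          exact h7
        obtain ⟨h3, h4⟩ := h2 (H ⊓ (MulAction.stabilizer (Perm (Fin (2 ^ 17))) (⟨p, hp⟩ : Fin (2 ^ 17))).comap S.π)
          (fun g hg => hH g hg.1) h8 (fun g hg => hI g hg.1) (fun v hv g hg => hF v hv g hg.1)
        exact lrun_sound hr hM hW L _ _ h5 _ (fun g hg => hH g hg.1) h3 h4
    · rw [Bool.not_eq_true] at hb
      have e : lrun S.C S.D S.U S.two M W b R (LIns.base i p m :: L) st fx = 0 := by
        show cnd (band (tb (nth st i) p) (tb S.U p)) _ 0 = _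
        rw [hb]
        rfl
      exact absurd e h
  | LIns.cnt i c :: L, st, fx, h, H, hH, hI, hF => by
    have hrow : (fun p => force (cdF S.C p) fun v => xF S.D v 0) = S.row := by
      funext p
      rw [force_eq, cdF_eq, xF_eq, Nat.zero_xor]
      rfl
    have e : lrun S.C S.D S.U S.two M W b R (LIns.cnt i c :: L) st fx =
        lrun S.C S.D S.U S.two M W b R L (Nat.land (cntSet 17 (2 ^ 17) S.row (nth st i) c) S.U :: st) fx := by
      show fB (Nat.land (nth st i) W) (fun x =>
        sumB (fun p => force (cdF S.C p) fun v => xF S.D v 0) 17 0 x [] fun ps =>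
          fB (Nat.land (eqB ps c W) S.U) fun m => lrun S.C S.D S.U S.two M W b R L (m :: st) fx) = _
      rw [fB_eq, sumB_eq, fB_eq, eqB_eq, hrow, cntSet_eq, hW]
    rw [e] at h ⊢
    refine lrun_sound hr hM hW L _ _ h H hH (fun g hg x hx => ?_) hF
    rcases List.mem_cons.1 hx with rfl | hx
    · exact inv_land (Inv.cntSet le_rfl (S.aut_row g) (inv_nth (hI g hg) i) c) (S.inv_U g)
    · exact hI g hg x hx
  | LIns.cnw i c :: L, st, fx, h, H, hH, hI, hF => by
    have e : lrun S.C S.D S.U S.two M W b R (LIns.cnw i c :: L) st fx =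
        lrun S.C S.D S.U S.two M W b R L (Nat.land (cntSet 17 (2 ^ 17) S.two (nth st i) c) S.U :: st) fx := by
      show fB (Nat.land (nth st i) W) (fun x =>
        sumB S.two 17 0 x [] fun ps =>
          fB (Nat.land (eqB ps c W) S.U) fun m => lrun S.C S.D S.U S.two M W b R L (m :: st) fx) = _
      rw [fB_eq, sumB_eq, fB_eq, eqB_eq, cntSet_eq, hW]
    rw [e] at h ⊢
    refine lrun_sound hr hM hW L _ _ h H hH (fun g hg x hx => ?_) hF
    rcases List.mem_cons.1 hx with rfl | hx
    · exact inv_land (Inv.cntSet le_rfl (S.aut_two g) (inv_nth (hI g hg) i) c) (S.inv_U g)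
    · exact hI g hg x hx
  | LIns.two s p :: L, st, fx, h, H, hH, hI, hF => by
    by_cases hb : band (Nat.beq (xF fx s 0) (cdF S.C p)) (tb S.U p) = true
    · obtain ⟨hb1, hb2⟩ := band_true hb
      rw [tb_eq] at hb2
      have hp := S.U_lt p hb2
      have hb3 := Nat.eq_of_beq_eq_true hb1
      rw [xF_eq, Nat.zero_xor, cdF_eq] at hb3
      have e : lrun S.C S.D S.U S.two M W b R (LIns.two s p :: L) st fx =
          lrun S.C S.D S.U S.two M W b R L (S.two p :: st) fx := by
        show cnd (band (Nat.beq (xF fx s 0) (cdF S.C p)) (tb S.U p))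
          (fB (S.two p) fun m => lrun S.C S.D S.U S.two M W b R L (m :: st) fx) 0 = _
        rw [hb, cnd_true, fB_eq]
      rw [e] at h ⊢
      refine lrun_sound hr hM hW L _ _ h H hH (fun g hg x hx => ?_) hF
      rcases List.mem_cons.1 hx with rfl | hx
      · have h1 : S.L g (value S.C p) = value S.C p := by
          rw [← hb3]
          exact S.fix_xc (fun v hv => hF v hv g hg) s
        have h2 : S.π g ⟨p, hp⟩ = ⟨p, hp⟩ := by
          apply S.inj
          · rw [S.U_inv]; exact hb2
          · exact hb2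
          · rw [← S.cod]; exact h1
        intro j
        have h3 := S.two_inv g ⟨p, hp⟩ j
        rw [h2] at h3
        exact h3
      · exact hI g hg x hx
    · rw [Bool.not_eq_true] at hb
      have e : lrun S.C S.D S.U S.two M W b R (LIns.two s p :: L) st fx = 0 := by
        show cnd (band (Nat.beq (xF fx s 0) (cdF S.C p)) (tb S.U p)) _ 0 = _
        rw [hb]
        rfl
      exact absurd e h
  | LIns.aff J s :: L, st, fx, h, H, hH, hI, hF => by
    obtain ⟨Ns, hl, h1, h2⟩ := S.poly_spec (R := R) (fun c => by rw [← hr]; exact S.L_lt r c) b J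
    have e : lrun S.C S.D S.U S.two M W b R (LIns.aff J s :: L) st fx =
        lrun S.C S.D S.U S.two M W b R L (affF S.D Ns (Nat.lor (Nat.shiftRight (xc fx s) 12)
          (Nat.shiftLeft (Nat.land (xc fx s) 4095) 12)) S.U :: st) fx := by
      show force (xF fx s 0) (fun v =>
        polyF R b J unL zrL fun Ns => fB (affF S.D Ns (Nat.lor (Nat.shiftRight v 12)
          (Nat.shiftLeft (Nat.land v 4095) 12)) S.U) fun m => lrun S.C S.D S.U S.two M W b R L (m :: st) fx) = _
      rw [force_eq, h1, fB_eq, xF_eq, Nat.zero_xor]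
    rw [e] at h ⊢
    refine lrun_sound hr hM hW L _ _ h H hH (fun g hg x hx => ?_) hF
    rcases List.mem_cons.1 hx with rfl | hx
    · exact S.inv_aff hl (h2 g (S.com_of hr (hH g hg))) (S.fix_xc (fun v hv => hF v hv g hg) s)
    · exact hI g hg x hx
  | LIns.self J :: L, st, fx, h, H, hH, hI, hF => by
    obtain ⟨Ns, hl, h1, h2⟩ := S.poly_spec (R := R) (fun c => by rw [← hr]; exact S.L_lt r c) b J
    have e : lrun S.C S.D S.U S.two M W b R (LIns.self J :: L) st fx =
        lrun S.C S.D S.U S.two M W b R L (slf S.D S.C Ns :: st) fx := by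
      show polyF R b J unL zrL (fun Ns => fB (slfF S.D S.C Ns 0) fun m =>
        lrun S.C S.D S.U S.two M W b R L (m :: st) fx) = _
      rw [h1, fB_eq, slfF_eq, Nat.zero_xor]
    rw [e] at h ⊢
    refine lrun_sound hr hM hW L _ _ h H hH (fun g hg x hx => ?_) hF
    rcases List.mem_cons.1 hx with rfl | hx
    · exact S.inv_self hl (h2 g (S.com_of hr (hH g hg)))
    · exact hI g hg x hx
  | LIns.fin l :: L, st, fx, h, H, hH, hI, hF => by
    have e : lrun S.C S.D S.U S.two M W b R (LIns.fin l :: L) st fx = cnd (chkU fx l unL) 1 0 := rfl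
    by_cases hs : chkU fx l unL = true
    · rw [e, hs, cnd_true]
      have hbot : H = ⊥ := by
        rw [Subgroup.eq_bot_iff_forall]
        intro g hg
        apply S.faith
        intro k hk
        obtain ⟨s, h1⟩ := chkU_spec fx l unL hs (2 ^ k) (by interval_cases k <;> decide)
        rw [← h1]
        exact S.fix_xc (fun v hv => hF v hv g hg) s
      rw [hbot, Nat.card_eq_fintype_card]
      simp
    · rw [Bool.not_eq_true] at hs
      rw [e, hs] at h
      exact absurd rfl h

end Mdl

end

end Cfsg.Agent.H123.Cls
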