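import Cfsg.Agent.H123.Cls.LFin
import Cfsg.Agent.H68.CoInst
import Cfsg.Agent.H785.TC.Seven

/-!
# The 101 classes of `Co1` (helper123; model: helper68, helper264; order 7, packed form: helper785)

`cov` : every element of `Co1` is conjugate to one of 101 words in two generators.
-/

set_option autoImplicit false
set_option maxRecDepth 1000000

namespace Cfsg.Agent.H123.Cls.CoD

open Cfsg Cfsg.Agent.H123.Cls Cfsg.Agent.H68.CoMdl Cfsg.Agent.H785.TC

instance : Finite Spor.Co1 := finite_co1

/-- every element of `Co1` is conjugate to one of the 101 words in the generators -/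
theorem cover (g : Spor.Co1) :
    ∃ d ∈ Dl, IsConj g (wG ga gb d.x d.w) ∧ ∀ c, S1.L (wG ga gb d.x d.w) c = xc d.R c :=
  cov_abs S1 rfl rfl rfl rfl (a := ga) (b := gb) L_ga L_gb card_co1 (fun _ h => seven h) g

theorem reps_R : Reps.map (un 24) = Dl.map Ent.R := by decide +kernel

/-- **the class cover** -/
theorem cov : Cov S1 := by
  intro g
  obtain ⟨d, hd, hc, hm⟩ := cover g
  have h1 : d.R ∈ Reps.map (un 24) := by
    rw [reps_R]
    exact List.mem_map.2 ⟨d, hd, rfl⟩
  obtain ⟨P, hP, h2⟩ := List.mem_map.1 h1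
  obtain ⟨h, h3⟩ := isConj_iff.1 hc.symm
  exact ⟨P, hP, _, h, fun c _ => by rw [hm c, h2], h3.symm⟩

end Cfsg.Agent.H123.Cls.CoD
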