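import Cfsg.Agent.H123.Cls.LRun
import Mathlib.Data.Set.Card.Arithmetic

/-!
# Class enumeration certificates for linear groups: covering (helper123)
-/

set_option autoImplicit false

namespace Cfsg.Agent.H123.Cls

open Equiv Cfsg.Agent.Lib.BitNet
open Cfsg.Agent.Lib.BitNetSimple (force force_eq tb tb_eq)

/-- **The classes cover the group.** -/
theorem coverG {G : Type*} [Group G] [Finite G] {ι : Type} [Fintype ι] (r : ι → G) (c : ι → ℕ)
    (hc : ∀ i, Nat.card ↥(Subgroup.centralizer {r i}) ≤ c i)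
    (hne : ∀ i j, i ≠ j → ¬ IsConj (r i) (r j)) (hsum : Nat.card G ≤ ∑ i, Nat.card G / c i) :
    ∀ g, ∃ i, IsConj g (r i) := by
  classical
  let cl : ι → Set G := fun i => {x | IsConj (r i) x}
  have hcl : ∀ i, Nat.card G / c i ≤ (cl i).ncard := by
    intro i
    have h1 : Nat.card G = Nat.card ↥(Subgroup.centralizer {r i}) * (cl i).ncard := by
      let C : Subgroup G := Subgroup.centralizer {r i}
      have e2 : Nat.card (G ⧸ C) = (cl i).ncard := by
        rw [← Nat.card_coe_set_eq]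
        refine Nat.card_congr (Equiv.ofBijective (fun q : G ⧸ C => Quotient.liftOn' q
          (fun a => (⟨a * r i * a⁻¹, isConj_iff.2 ⟨a, rfl⟩⟩ : cl i)) ?_) ⟨?_, ?_⟩)
        · intro a b hab
          rw [QuotientGroup.leftRel_apply] at hab
          have h2 : (a⁻¹ * b) * r i = r i * (a⁻¹ * b) := Subgroup.mem_centralizer_singleton_iff.1 hab
          apply Subtype.ext
          change a * r i * a⁻¹ = b * r i * b⁻¹
          calc a * r i * a⁻¹ = a * (r i * (a⁻¹ * b)) * b⁻¹ := by group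
            _ = a * (a⁻¹ * b * r i) * b⁻¹ := by rw [h2]
            _ = b * r i * b⁻¹ := by group
        · intro q q' h
          induction q using Quotient.inductionOn' with
          | h a =>
            induction q' using Quotient.inductionOn' with
            | h b =>
              have h2 : a * r i * a⁻¹ = b * r i * b⁻¹ := congrArg Subtype.val h
              refine Quotient.sound' ?_
              rw [QuotientGroup.leftRel_apply]
              refine Subgroup.mem_centralizer_singleton_iff.2 ?_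
              calc (a⁻¹ * b) * r i = a⁻¹ * (b * r i * b⁻¹) * b := by group
                _ = a⁻¹ * (a * r i * a⁻¹) * b := by rw [h2]
                _ = r i * (a⁻¹ * b) := by group
        · rintro ⟨x, hx⟩
          obtain ⟨a, rfl⟩ := isConj_iff.1 hx
          exact ⟨Quotient.mk'' a, rfl⟩
      rw [← e2, mul_comm]
      exact Subgroup.card_eq_card_quotient_mul_card_subgroup C
    have h0 : 0 < Nat.card ↥(Subgroup.centralizer {r i}) := Nat.card_pos
    calc Nat.card G / c i ≤ Nat.card G / Nat.card ↥(Subgroup.centralizer {r i}) := Nat.div_le_div_left (hc i) h0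
      _ = (cl i).ncard := by
        conv_lhs => rw [h1]
        rw [Nat.mul_div_cancel_left _ h0]
  have hdis : ∀ i j, i ≠ j → Disjoint (cl i) (cl j) := by
    intro i j hij
    rw [Set.disjoint_left]
    intro x hx hy
    exact hne i j hij (IsConj.trans hx (IsConj.symm hy))
  have hcard : (⋃ i, cl i).ncard = ∑ i, (cl i).ncard := by
    have h := Set.ncard_iUnion_of_finite (s := cl) (fun i => Set.toFinite _) (fun i j hij => hdis i j hij)
    rw [h, finsum_eq_sum_of_fintype]
  have heq : (⋃ i, cl i) = Set.univ := by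
    refine Set.eq_of_subset_of_ncard_le (Set.subset_univ _) ?_ (Set.toFinite _)
    rw [hcard, Set.ncard_univ]
    exact hsum.trans (Finset.sum_le_sum fun i _ => hcl i)
  intro g
  have h1 : g ∈ (⋃ i, cl i) := by rw [heq]; exact Set.mem_univ g
  obtain ⟨i, hi⟩ := Set.mem_iUnion.1 h1
  exact ⟨i, IsConj.symm hi⟩

section

variable {G : Type*} [Group G] (S : Mdl G)

/-- the bound -/
noncomputable def bnd (C D : List ℕ) (U : ℕ) (two : ℕ → ℕ) (b : ℕ) (R : List ℕ) (L : List LIns) : ℕ :=
  fB (cmb 18 13) fun M => fB (Nat.sub (Nat.pow 2 (2 ^ 17)) 1) fun W => lrun C D U two M W b R L [] []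

/-- **bound of the centralizer** -/
theorem Mdl.card_cent [Finite G] {r : G} {R : List ℕ} (hr : ∀ c, S.L r c = xc R c) {b : ℕ} {L : List LIns} {c : ℕ}
    (h : Nat.beq (bnd S.C S.D S.U S.two b R L) (Nat.succ c) = true) :
    Nat.card ↥(Subgroup.centralizer {r}) ≤ c + 1 := by
  have h1 := Nat.eq_of_beq_eq_true h
  rw [bnd, fB_eq, fB_eq] at h1
  rw [← Nat.succ_eq_add_one, ← h1]
  refine S.lrun_sound hr rfl rfl L [] [] (by rw [h1]; exact Nat.succ_ne_zero c) _ (fun g hg => ?_)
    (fun g _ x hx => absurd hx List.not_mem_nil) (fun x hx => absurd hx List.not_mem_nil)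
  exact Subgroup.mem_centralizer_singleton_iff.1 hg

/-! ### keys -/

namespace Mdl

/-- the sum of the `g ^ (j + k)`, `k` a bit of `J` -/
noncomputable def pG (g : G) : ℕ → ℕ → ℕ → ℕ → ℕ
  | 0, _, _, _ => 0
  | b + 1, J, j, c => (bif J.testBit 0 then S.L (g ^ j) c else 0) ^^^ pG g b (J >>> 1) (j + 1) c

theorem pG_conj (h g : G) : ∀ (b J j c : ℕ), S.pG (h * g * h⁻¹) b J j (S.L h c) = S.L h (S.pG g b J j c)
  | 0, _, _, _ => (S.L_zero h).symm
  | b + 1, J, j, c => by
    have e : S.L ((h * g * h⁻¹) ^ j) (S.L h c) = S.L h (S.L (g ^ j) c) := by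
      rw [← S.L_mul, ← S.L_mul, conj_pow, inv_mul_cancel_right]
    rw [pG, pG, pG_conj h g b, S.L_xor, e]
    congr 1
    cases J.testBit 0
    · exact (S.L_zero h).symm
    · rfl

theorem polyF_val {r : G} {R : List ℕ} (hr : ∀ c, S.L r c = xc R c) (b : ℕ) : ∀ (J j : ℕ) (cur acc : List ℕ),
    cur.length = 24 → acc.length = 24 → (∀ c < 2 ^ 24, xc cur c = S.L (r ^ j) c) →
    ∃ Ns : List ℕ, Ns.length = 24 ∧ (∀ {α : Type} (κ : List ℕ → α), polyF R b J cur acc κ = κ Ns) ∧
      ∀ c < 2 ^ 24, xc Ns c = xc acc c ^^^ S.pG r b J j c := by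
  induction b with
  | zero =>
    intro J j cur acc _ h _
    exact ⟨acc, h, fun κ => rfl, fun c _ => by rw [pG, Nat.xor_zero]⟩
  | succ b ih =>
    intro J j cur acc hcur hacc hj
    have hmp : (cur.map fun x => xF R x 0) = cur.map fun x => xc R x :=
      List.map_congr_left fun x _ => by rw [xF_eq, Nat.zero_xor]
    have hj' : ∀ c < 2 ^ 24, xc (cur.map fun x => xc R x) c = S.L (r ^ (j + 1)) c := by
      intro c hc
      rw [xc_map, hj c hc, ← hr, ← S.L_mul, ← pow_succ']
    rcases land_one J with ⟨h3, h4⟩ | ⟨h3, h4⟩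
    · obtain ⟨Ns, h0, h1, h2⟩ := ih (Nat.shiftRight J 1) (j + 1) (cur.map fun x => xc R x) acc
        (by rw [List.length_map, hcur]) hacc hj'
      refine ⟨Ns, h0, fun κ => ?_, fun c hc => ?_⟩
      · show force (Nat.shiftRight J 1) (fun J' => cnd (Nat.beq (Nat.land J 1) 0)
          (mapF (fun x => xF R x 0) cur fun cur' => polyF R b J' cur' acc κ)
          (zipF acc cur fun acc' => mapF (fun x => xF R x 0) cur fun cur' => polyF R b J' cur' acc' κ)) = _
        rw [force_eq, h3, cnd_true, mapF_eq, ← h1 κ, hmp]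
      · rw [h2 c hc, pG, h4, cond_false, Nat.zero_xor]
        rfl
    · obtain ⟨Ns, h0, h1, h2⟩ := ih (Nat.shiftRight J 1) (j + 1) (cur.map fun x => xc R x)
        (List.zipWith (· ^^^ ·) acc cur) (by rw [List.length_map, hcur]) (by
          rw [List.length_zipWith, hcur, hacc]; rfl) hj'
      refine ⟨Ns, h0, fun κ => ?_, fun c hc => ?_⟩
      · show force (Nat.shiftRight J 1) (fun J' => cnd (Nat.beq (Nat.land J 1) 0)
          (mapF (fun x => xF R x 0) cur fun cur' => polyF R b J' cur' acc κ)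
          (zipF acc cur fun acc' => mapF (fun x => xF R x 0) cur fun cur' => polyF R b J' cur' acc' κ)) = _
        rw [force_eq, h3, cnd_false, zipF_eq, mapF_eq, ← h1 κ, hmp]
      · rw [h2 c hc, xc_zip _ _ _ (by rw [hcur, hacc]), hj c hc, pG, h4, cond_true, Nat.xor_assoc]
        rfl

/-- the condition of the key `(t, b, J)` -/
def KP (g : G) (t : Bool) (b J : ℕ) (i : Fin (2 ^ 17)) : Prop :=
  S.U.testBit i = true ∧ cond t (S.B (S.pG g b J 0 (value S.C i)) (value S.C i) = true)
    (∀ c < 2 ^ 24, S.B (S.pG g b J 0 c) (value S.C i) = false)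

/-- the value of the key -/
noncomputable def kv (g : G) (t : Bool) (b J : ℕ) : ℕ := Nat.card {i : Fin (2 ^ 17) // S.KP g t b J i}

theorem kv_conj (h g : G) (t : Bool) (b J : ℕ) : S.kv (h * g * h⁻¹) t b J = S.kv g t b J := by
  have key : ∀ i : Fin (2 ^ 17), S.KP (h * g * h⁻¹) t b J (S.π h i) ↔ S.KP g t b J i := by
    intro i
    unfold KP
    rw [S.U_inv]
    refine and_congr_right fun _ => ?_
    cases t
    · constructor
      · intro h1 c hc
        have h2 := h1 (S.L h c) (S.L_lt h c)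
        rw [S.pG_conj, ← S.cod, S.B_L] at h2
        exact h2
      · intro h1 c hc
        have h2 : c = S.L h (S.L h⁻¹ c) := by rw [← S.L_mul, mul_inv_cancel, S.L_one c hc]
        rw [h2, S.pG_conj, ← S.cod, S.B_L]
        exact h1 _ (S.L_lt _ _)
    · show S.B (S.pG (h * g * h⁻¹) b J 0 (value S.C (S.π h i))) (value S.C (S.π h i)) = true ↔
        S.B (S.pG g b J 0 (value S.C i)) (value S.C i) = true
      rw [← S.cod, S.pG_conj, S.B_L]
  exact (Nat.card_congr (Equiv.subtypeEquiv (S.π h) fun i => (key i).symm)).symm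

theorem kv_isConj {g g' : G} (h : IsConj g g') (t : Bool) (b J : ℕ) : S.kv g' t b J = S.kv g t b J := by
  obtain ⟨x, rfl⟩ := isConj_iff.1 h
  exact S.kv_conj x g t b J

end Mdl

/-- kernel version; key code `(J * 64 + b) * 2 + t` -/
noncomputable def kvF (C D : List ℕ) (U M : ℕ) (R : List ℕ) (k : ℕ) : ℕ :=
  force (Nat.div k 128) fun J => polyF R (Nat.mod (Nat.div k 2) 64) J unL zrL fun Ns =>
    fB (cnd (Nat.beq (Nat.land k 1) 0) (affF D Ns 0 U) (slfF D C Ns 0)) fun x =>
      fB (Nat.land x U) fun y => popS 18 M y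

/-- check of the keys -/
noncomputable def chkK (C D : List ℕ) (U M : ℕ) (R : List ℕ) (l : List (ℕ × ℕ)) : Bool :=
  List.rec true (fun x _ ih => band (Nat.beq (kvF C D U M R x.1) x.2) ih) l

theorem Mdl.kvF_eq {r : G} {R : List ℕ} (hr : ∀ c, S.L r c = xc R c) (k : ℕ) :
    kvF S.C S.D S.U (cmb 18 13) R k = S.kv r (!Nat.beq (Nat.land k 1) 0) (Nat.mod (Nat.div k 2) 64) (Nat.div k 128) := by
  obtain ⟨Ns, hl, h1, h2⟩ := S.polyF_val hr (Nat.mod (Nat.div k 2) 64) (Nat.div k 128) 0 unL zrL rfl rfl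
    (fun c hc => by rw [Mdl.xc_unL c hc, pow_zero, S.L_one c hc])
  have h3 : ∀ c < 2 ^ 24, xc Ns c = S.pG r (Nat.mod (Nat.div k 2) 64) (Nat.div k 128) 0 c := by
    intro c hc
    rw [h2 c hc, Mdl.xc_zrL c hc, Nat.zero_xor]
  have e : kvF S.C S.D S.U (cmb 18 13) R k = popS 18 (cmb 18 13)
      (Nat.land (cnd (Nat.beq (Nat.land k 1) 0) (affF S.D Ns 0 S.U) (slf S.D S.C Ns)) S.U) := by
    show force (Nat.div k 128) (fun J => polyF R (Nat.mod (Nat.div k 2) 64) J unL zrL fun Ns =>
      fB (cnd (Nat.beq (Nat.land k 1) 0) (affF S.D Ns 0 S.U) (slfF S.D S.C Ns 0)) fun x =>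
      fB (Nat.land x S.U) fun y => popS 18 (cmb 18 13) y) = _
    rw [force_eq, h1, fB_eq, fB_eq, slfF_eq, Nat.zero_xor]
  rw [e, S.popS_pts, kv, ← Fintype.card_coe, ← Nat.card_eq_fintype_card]
  refine Nat.card_congr (Equiv.subtypeEquivRight fun i => ?_)
  rw [pts, Finset.mem_filter]
  change (_ ∧ (_ &&& S.U).testBit i = true) ↔ _
  rw [Nat.testBit_and, Bool.and_eq_true, KP, and_comm (a := _ = true) (b := S.U.testBit i = true)]
  simp only [Finset.mem_univ, true_and]
  refine and_congr_right fun hU => ?_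
  cases Nat.beq (Nat.land k 1) 0
  · rw [cnd_false]
    show _ ↔ S.B (S.pG r _ _ 0 (value S.C i)) (value S.C i) = true
    rw [testBit_slf _ _ _ _ (by rw [hl, S.lenC]), S.B_row, h3 _ (S.val_lt i)]
  · rw [cnd_true]
    show _ ↔ ∀ c < 2 ^ 24, S.B (S.pG r _ _ 0 c) (value S.C i) = false
    have h0 : ∀ c, S.B 0 c = false := by
      intro c
      have := S.B_xor 0 0 c
      rw [Nat.xor_self, Bool.xor_self] at this
      exact this
    rw [testBit_affF]
    constructor
    · rintro ⟨-, h⟩ c hc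
      rw [← h3 c hc]
      refine xor_ind (fun c => S.B (xc Ns c) (value S.C i) = false) ?_ (fun a b ha hb => ?_) 24 (fun l hl' => ?_) c hc
      · show S.B (xc Ns 0) _ = false
        rw [xc_zero, h0]
      · show S.B (xc Ns (a ^^^ b)) _ = false
        rw [xc_xor, S.B_xor, ha, hb]
        rfl
      · show S.B (xc Ns (2 ^ l)) _ = false
        rw [xc_two_pow, ← S.B_row, h l (by rw [hl]; exact hl'), Nat.zero_testBit]
    · intro h
      refine ⟨hU, fun l hl' => ?_⟩
      rw [hl] at hl'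
      have h5 : (2 : ℕ) ^ l < 2 ^ 24 := Nat.pow_lt_pow_right (by norm_num) hl'
      have h4 := h (2 ^ l) h5
      rw [← h3 _ h5, xc_two_pow, ← S.B_row] at h4
      rw [h4, Nat.zero_testBit]

theorem Mdl.keys_of_chk {r : G} {R : List ℕ} (hr : ∀ c, S.L r c = xc R c) :
    ∀ {l : List (ℕ × ℕ)}, chkK S.C S.D S.U (cmb 18 13) R l = true → ∀ x ∈ l,
      S.kv r (!Nat.beq (Nat.land x.1 1) 0) (Nat.mod (Nat.div x.1 2) 64) (Nat.div x.1 128) = x.2
  | [], _, x, hx => absurd hx List.not_mem_nil
  | y :: l, h, x, hx => by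
    have e : chkK S.C S.D S.U (cmb 18 13) R (y :: l) =
      band (Nat.beq (kvF S.C S.D S.U (cmb 18 13) R y.1) y.2) (chkK S.C S.D S.U (cmb 18 13) R l) := rfl
    rw [e] at h
    obtain ⟨h1, h2⟩ := band_true h
    rcases List.mem_cons.1 hx with rfl | hx
    · rw [← S.kvF_eq hr]
      exact Nat.eq_of_beq_eq_true h1
    · exact keys_of_chk hr h2 x hx

/-- the lists have a common key with different values -/
def dif (p q : List (ℕ × ℕ)) : Bool := p.any fun x => q.any fun y => Nat.beq x.1 y.1 && !Nat.beq x.2 y.2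

theorem Mdl.not_conj {r s : G} {R Q : List ℕ} (hr : ∀ c, S.L r c = xc R c) (hs : ∀ c, S.L s c = xc Q c)
    {p q : List (ℕ × ℕ)} (hp : chkK S.C S.D S.U (cmb 18 13) R p = true) (hq : chkK S.C S.D S.U (cmb 18 13) Q q = true)
    (h : dif p q = true) : ¬ IsConj r s := by
  intro hc
  rw [dif, List.any_eq_true] at h
  obtain ⟨x, hx, h⟩ := h
  rw [List.any_eq_true] at h
  obtain ⟨y, hy, h⟩ := h
  rw [Bool.and_eq_true, Bool.not_eq_true'] at h
  have h1 := S.keys_of_chk hr hp x hx
  have h2 := S.keys_of_chk hs hq y hy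
  have h3 : x.1 = y.1 := Nat.eq_of_beq_eq_true h.1
  rw [← h3, S.kv_isConj hc, h1] at h2
  have h4 : Nat.beq x.2 y.2 = true := by rw [h2, Nat.beq_eq]
  rw [h4] at h
  exact absurd h.2 (by simp)

/-! ### words -/

/-- the value of the word `x, w` -/
def wG (a b : G) : Bool → List Bool → G
  | x, [] => cond x b a
  | x, y :: w => cond x b a * wG a b y w

/-- its matrix, strict -/
noncomputable def evK {α : Type} (MA MB : List ℕ) (w : List Bool) : Bool → (List ℕ → α) → α :=
  List.rec (fun x κ => κ (cnd x MB MA))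
    (fun y _ ih x κ => ih y fun l => mapF (fun z => xF (cnd x MB MA) z 0) l κ) w

theorem Mdl.evK_eq {a b : G} {MA MB : List ℕ} (ha : ∀ c, S.L a c = xc MA c) (hb : ∀ c, S.L b c = xc MB c) :
    ∀ (w : List Bool) (x : Bool), ∃ R : List ℕ, (∀ {α : Type} (κ : List ℕ → α), evK MA MB w x κ = κ R) ∧
      ∀ c, S.L (wG a b x w) c = xc R c
  | [], x => ⟨cnd x MB MA, fun κ => rfl, fun c => by cases x; exacts [ha c, hb c]⟩
  | y :: w, x => by
    obtain ⟨R, h1, h2⟩ := evK_eq ha hb w y
    have hx : ∀ c, S.L (cond x b a) c = xc (cnd x MB MA) c := fun c => by cases x; exacts [ha c, hb c]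
    refine ⟨R.map fun z => xc (cnd x MB MA) z, fun κ => ?_, fun c => ?_⟩
    · show evK MA MB w y (fun l => mapF (fun z => xF (cnd x MB MA) z 0) l κ) = _
      rw [h1, mapF_eq]
      congr 1
      exact List.map_congr_left fun z _ => by rw [xF_eq, Nat.zero_xor]
    · rw [wG, S.L_mul, hx, h2, xc_map]

/-- equality of lists -/
noncomputable def eqL (l : List ℕ) : List ℕ → Bool :=
  List.rec (fun l' => List.rec true (fun _ _ _ => false) l')
    (fun x _ ih l' => List.rec false (fun y l'' _ => band (Nat.beq x y) (ih l'')) l') l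

theorem eqL_eq : ∀ {l l' : List ℕ}, eqL l l' = true → l = l'
  | [], [], _ => rfl
  | [], _ :: _, h => absurd h (by show ¬ (false = true); simp)
  | _ :: _, [], h => absurd h (by show ¬ (false = true); simp)
  | x :: l, y :: l', h => by
    have e : eqL (x :: l) (y :: l') = band (Nat.beq x y) (eqL l l') := rfl
    rw [e] at h
    obtain ⟨h1, h2⟩ := band_true h
    rw [Nat.eq_of_beq_eq_true h1, eqL_eq h2]

/-- the matrix of the word is `R` -/
noncomputable def chkWd (MA MB : List ℕ) (x : Bool) (w : List Bool) (R : List ℕ) : Bool :=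
  evK MA MB w x fun l => eqL l R

theorem Mdl.of_chkWd {a b : G} {MA MB : List ℕ} (ha : ∀ c, S.L a c = xc MA c) (hb : ∀ c, S.L b c = xc MB c)
    {x : Bool} {w : List Bool} {R : List ℕ} (h : chkWd MA MB x w R = true) : ∀ c, S.L (wG a b x w) c = xc R c := by
  obtain ⟨Q, h1, h2⟩ := S.evK_eq ha hb w x
  rw [chkWd, h1] at h
  rw [← eqL_eq h]
  exact h2

end

end Cfsg.Agent.H123.Cls
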