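import Cfsg.Agent.H123.Cls.LCover

/-!
# Counting with carry save adders (helper123)

`lrunC` has the same value as `lrun`; the counts of the first instructions use fewer operations.
-/

set_option autoImplicit false

namespace Cfsg.Agent.H123.Cls

open Cfsg.Agent.Lib.BitNet
open Cfsg.Agent.Lib.BitNetSimple (force force_eq tb tb_eq)

/-- counters with one or two planes in every position -/
inductive Ac
  /-- no planes -/
  | nil
  /-- one plane -/
  | one (p : ℕ) (l : Ac)
  /-- two planes -/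
  | two (p q : ℕ) (l : Ac)

/-- the value at a point -/
def valA : Ac → ℕ → ℕ
  | .nil, _ => 0
  | .one p l, v => (p.testBit v).toNat + 2 * valA l v
  | .two p q l, v => (p.testBit v).toNat + (q.testBit v).toNat + 2 * valA l v

/-- add a plane -/
noncomputable def addA {α : Type} (l : Ac) : ℕ → (Ac → α) → α :=
  Ac.rec (fun r κ => κ (.one r .nil)) (fun p l _ r κ => κ (.two p r l))
    (fun p q _ ih r κ => fB (Nat.xor p q) fun t => fB (Nat.xor t r) fun s => fB (Nat.land p q) fun a =>
      fB (Nat.land r t) fun b => fB (Nat.xor a b) fun c => ih c fun l' => κ (.one s l')) l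

theorem addA_spec : ∀ (l : Ac) (r : ℕ), ∃ l' : Ac, (∀ {α : Type} (κ : Ac → α), addA l r κ = κ l') ∧
    ∀ v, valA l' v = valA l v + (r.testBit v).toNat
  | .nil, r => ⟨.one r .nil, fun κ => rfl, fun v => by simp [valA]⟩
  | .one p l, r => ⟨.two p r l, fun κ => rfl, fun v => by simp only [valA]; omega⟩
  | .two p q l, r => by
    obtain ⟨l', h1, h2⟩ := addA_spec l ((p &&& q) ^^^ (r &&& (p ^^^ q)))
    refine ⟨.one ((p ^^^ q) ^^^ r) l', fun κ => ?_, fun v => ?_⟩
    · show (fB (Nat.xor p q) fun t => fB (Nat.xor t r) fun s => fB (Nat.land p q) fun a =>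
        fB (Nat.land r t) fun b => fB (Nat.xor a b) fun c => addA l c fun l' => κ (.one s l')) = _
      rw [fB_eq, fB_eq, fB_eq, fB_eq, fB_eq]
      exact h1 _
    · rw [valA, valA, h2, Nat.testBit_xor, Nat.testBit_xor, Nat.testBit_xor, Nat.testBit_and, Nat.testBit_and,
        Nat.testBit_xor]
      cases p.testBit v <;> cases q.testBit v <;> cases r.testBit v <;> simp <;> omega

/-- add the rows of the points of the mask -/
noncomputable def sumA {α : Type} (row : ℕ → ℕ) (k : ℕ) : ℕ → ℕ → Ac → (Ac → α) → α :=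
  Nat.rec (fun b x ps κ => cnd (Nat.beq (Nat.land x 1) 0) (κ ps) (fB (row b) fun r => addA ps r κ))
    (fun k ih b x ps κ => cnd (Nat.beq x 0) (κ ps)
      (fB (Nat.mod x (Nat.pow 2 (Nat.pow 2 k))) fun lo => fB (Nat.shiftRight x (Nat.pow 2 k)) fun hi =>
        force (Nat.add b (Nat.pow 2 k)) fun b' => ih b lo ps fun ps' => ih b' hi ps' κ)) k

theorem value_sumRows_add (row : ℕ → ℕ) (v k b x : ℕ) (ps : List ℕ) :
    value (sumRows row k b x ps) v = value ps v + value (sumRows row k b x []) v := by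
  rw [value_sumRows, value_sumRows row v k b x [], value, Nat.zero_add]

theorem sumA_spec (row : ℕ → ℕ) : ∀ (k b x : ℕ) (ps : Ac), ∃ l' : Ac,
    (∀ {α : Type} (κ : Ac → α), sumA row k b x ps κ = κ l') ∧
    ∀ v, valA l' v = valA ps v + value (sumRows row k b x []) v
  | 0, b, x, ps => by
    cases hx : Nat.beq (Nat.land x 1) 0
    · obtain ⟨l', h1, h2⟩ := addA_spec ps (row b)
      refine ⟨l', fun κ => ?_, fun v => ?_⟩
      · show cnd (Nat.beq (Nat.land x 1) 0) (κ ps) (fB (row b) fun r => addA ps r κ) = _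
        rw [hx, cnd_false, fB_eq]
        exact h1 κ
      · rw [h2, sumRows, hx, cond_false, value_addRow, value, Nat.zero_add]
    · refine ⟨ps, fun κ => ?_, fun v => ?_⟩
      · show cnd (Nat.beq (Nat.land x 1) 0) (κ ps) (fB (row b) fun r => addA ps r κ) = _
        rw [hx, cnd_true]
      · rw [sumRows, hx, cond_true, value, Nat.add_zero]
  | k + 1, b, x, ps => by
    cases hx : Nat.beq x 0
    · obtain ⟨l1, h1, h2⟩ := sumA_spec row k b (Nat.mod x (Nat.pow 2 (Nat.pow 2 k))) ps
      obtain ⟨l2, h3, h4⟩ := sumA_spec row k (Nat.add b (Nat.pow 2 k)) (Nat.shiftRight x (Nat.pow 2 k)) l1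
      refine ⟨l2, fun κ => ?_, fun v => ?_⟩
      · show cnd (Nat.beq x 0) (κ ps)
          (fB (Nat.mod x (Nat.pow 2 (Nat.pow 2 k))) fun lo => fB (Nat.shiftRight x (Nat.pow 2 k)) fun hi =>
            force (Nat.add b (Nat.pow 2 k)) fun b' => sumA row k b lo ps fun ps' => sumA row k b' hi ps' κ) = _
        rw [hx, cnd_false, fB_eq, fB_eq, force_eq, h1]
        exact h3 κ
      · rw [h4, h2, sumRows, hx, cond_false, value_sumRows_add row v k _ _ (sumRows row k b _ []), Nat.add_assoc]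
    · refine ⟨ps, fun κ => ?_, fun v => ?_⟩
      · show cnd (Nat.beq x 0) (κ ps) _ = _
        rw [hx, cnd_true]
      · rw [sumRows, hx, cond_true, value, Nat.add_zero]

/-! ### rows by groups of four columns -/

theorem xc_app : ∀ (G Ds : List ℕ) (c : ℕ), xc (G ++ Ds) c = xc G c ^^^ xc Ds (c >>> G.length)
  | [], Ds, c => by
    rw [List.nil_append, List.length_nil, Nat.shiftRight_zero]
    show _ = 0 ^^^ _
    rw [Nat.zero_xor]
  | x :: G, Ds, c => by
    rw [List.cons_append, xc, xc, xc_app G Ds, List.length_cons, Nat.xor_assoc, ← Nat.shiftRight_add, Nat.add_comm 1]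

theorem xc_cong : ∀ (l : List ℕ) {a b : ℕ}, (∀ k < l.length, a.testBit k = b.testBit k) → xc l a = xc l b
  | [], _, _, _ => rfl
  | x :: l, a, b, h => by
    have h1 : xc l (a >>> 1) = xc l (b >>> 1) := xc_cong l fun k hk => by
      rw [Nat.testBit_shiftRight, Nat.testBit_shiftRight, h (1 + k) (by rw [List.length_cons]; omega)]
    rw [xc, xc, h 0 (by simp), h1]

theorem xc_mod16 (l : List ℕ) (hl : l.length ≤ 4) (c : ℕ) : xc l (c % 16) = xc l c := by
  refine xc_cong l fun k hk => ?_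
  rw [show (16 : ℕ) = 2 ^ 4 from rfl, Nat.testBit_mod_two_pow, decide_eq_true (by omega), Bool.true_and]

/-- groups of four -/
def ch : List ℕ → List (List ℕ)
  | a :: b :: c :: d :: l => [a, b, c, d] :: ch l
  | [] => []
  | [a] => [[a]]
  | [a, b] => [[a, b]]
  | [a, b, c] => [[a, b, c]]

/-- strict row -/
noncomputable def xT (Gs : List (List ℕ)) : ℕ → ℕ → ℕ :=
  List.rec (fun _ acc => acc) (fun G _ ih c acc => force (Nat.mod c 16) fun i => force (Nat.shiftRight c 4) fun c' =>
    fB (Nat.xor acc (xF G i 0)) fun a => ih c' a) Gs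

theorem xT_cons (G : List ℕ) (Gs : List (List ℕ)) (hG : G.length ≤ 4) (c acc : ℕ) :
    xT (G :: Gs) c acc = xT Gs (c >>> 4) (acc ^^^ xc G c) := by
  have e : xT (G :: Gs) c acc = force (Nat.mod c 16) (fun i => force (Nat.shiftRight c 4) fun c' =>
    fB (Nat.xor acc (xF G i 0)) fun a => xT Gs c' a) := rfl
  rw [e, force_eq, force_eq, fB_eq, xF_eq, Nat.zero_xor, show xc G (Nat.mod c 16) = xc G c from xc_mod16 G hG c]
  rfl

theorem xT_eq : ∀ (l : List ℕ) (c acc : ℕ), xT (ch l) c acc = acc ^^^ xc l c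
  | a :: b :: c :: d :: l, n, acc => by
    have h := xc_app [a, b, c, d] l n
    rw [show ch (a :: b :: c :: d :: l) = [a, b, c, d] :: ch l from by rw [ch], xT_cons _ _ (by simp), xT_eq l,
      Nat.xor_assoc]
    exact congrArg (acc ^^^ ·) h.symm
  | [], n, acc => by
    rw [show ch [] = [] from by rw [ch]]
    show acc = acc ^^^ 0
    rw [Nat.xor_zero]
  | [a], n, acc => by
    rw [show ch [a] = [[a]] from by rw [ch], xT_cons _ _ (by simp)]
    rfl
  | [a, b], n, acc => by
    rw [show ch [a, b] = [[a, b]] from by rw [ch], xT_cons _ _ (by simp)]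
    rfl
  | [a, b, c], n, acc => by
    rw [show ch [a, b, c] = [[a, b, c]] from by rw [ch], xT_cons _ _ (by simp)]
    rfl

/-! ### the codes of the points are read from the parts of the columns -/

/-- the sum of the rows of the points of the mask -/
def sm (D Cs : List ℕ) (k x v : ℕ) : ℕ :=
  ∑ i ∈ Finset.range (2 ^ k), if x.testBit i = true then ((xc D (value Cs i)).testBit v).toNat else 0

/-- add the rows of the points of the mask; `12 + j` levels -/
noncomputable def sumDL {α : Type} (D : List ℕ) (j : ℕ) : ℕ → List ℕ → Ac → (Ac → α) → α :=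
  Nat.rec (fun x Cs ps κ => sumA (fun p => force (cdF Cs p) fun v => xT (ch D) v 0) 12 0 x ps κ)
    (fun j ih x Cs ps κ => cnd (Nat.beq x 0) (κ ps)
      (fB (Nat.mod x (Nat.pow 2 (Nat.pow 2 (Nat.add 12 j)))) fun lo =>
        fB (Nat.shiftRight x (Nat.pow 2 (Nat.add 12 j))) fun hi =>
        cnd (Nat.beq lo 0)
          (ih hi (Cs.map fun C => Nat.shiftRight C (Nat.pow 2 (Nat.add 12 j))) ps κ)
          (ih lo (Cs.map fun C => Nat.mod C (Nat.pow 2 (Nat.pow 2 (Nat.add 12 j)))) ps fun ps' =>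
            cnd (Nat.beq hi 0) (κ ps')
              (ih hi (Cs.map fun C => Nat.shiftRight C (Nat.pow 2 (Nat.add 12 j))) ps' κ)))) j

theorem value_mod (m : ℕ) : ∀ (Cs : List ℕ) (i : ℕ), i < m → value (Cs.map fun C => C % 2 ^ m) i = value Cs i
  | [], _, _ => rfl
  | C :: Cs, i, h => by
    rw [List.map_cons, value, value, value_mod m Cs i h, Nat.testBit_mod_two_pow, decide_eq_true h, Bool.true_and]

theorem value_shift (m : ℕ) : ∀ (Cs : List ℕ) (i : ℕ), value (Cs.map fun C => C >>> m) i = value Cs (m + i)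
  | [], _ => rfl
  | C :: Cs, i => by
    rw [List.map_cons, value, value, value_shift m Cs i, Nat.testBit_shiftRight]

theorem sm_zero (D Cs : List ℕ) (k v : ℕ) : sm D Cs k 0 v = 0 := by simp [sm]

theorem sm_split (D Cs : List ℕ) (k x v : ℕ) : sm D Cs (k + 1) x v =
    sm D (Cs.map fun C => C % 2 ^ (2 ^ k)) k (x % 2 ^ (2 ^ k)) v +
      sm D (Cs.map fun C => C >>> (2 ^ k)) k (x >>> (2 ^ k)) v := by
  have hp : 2 ^ (k + 1) = 2 ^ k + 2 ^ k := by ring
  rw [sm, sm, sm, hp, Finset.sum_range_add]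
  congr 1
  · refine Finset.sum_congr rfl fun i hi => ?_
    rw [Finset.mem_range] at hi
    rw [Nat.testBit_mod_two_pow, decide_eq_true hi, Bool.true_and, value_mod _ _ _ hi]
  · refine Finset.sum_congr rfl fun i _ => ?_
    rw [Nat.testBit_shiftRight, value_shift]

theorem sm_eq' (D C : List ℕ) (k x v : ℕ) :
    sm D C k x v = value (sumRows (fun p => force (cdF C p) fun v => xF D v 0) k 0 x []) v := by
  rw [value_sumRows, value, Nat.zero_add, sm]
  refine Finset.sum_congr rfl fun i _ => ?_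
  rw [force_eq, cdF_eq, xF_eq, Nat.zero_xor, Nat.zero_add]

theorem sumDL_spec (D : List ℕ) : ∀ (j x : ℕ) (Cs : List ℕ) (ps : Ac), ∃ l' : Ac,
    (∀ {α : Type} (κ : Ac → α), sumDL D j x Cs ps κ = κ l') ∧ ∀ v, valA l' v = valA ps v + sm D Cs (12 + j) x v
  | 0, x, Cs, ps => by
    have hrow : (fun p => force (cdF Cs p) fun v => xT (ch D) v 0) = fun p => force (cdF Cs p) fun v => xF D v 0 := by
      funext p
      rw [force_eq, force_eq, xT_eq, xF_eq]
    obtain ⟨l', h1, h2⟩ := sumA_spec (fun p => force (cdF Cs p) fun v => xT (ch D) v 0) 12 0 x ps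
    exact ⟨l', fun κ => h1 κ, fun v => by rw [h2, sm_eq', hrow]⟩
  | j + 1, x, Cs, ps => by
    have hk : 12 + (j + 1) = (12 + j) + 1 := rfl
    have hk2 : Nat.add 12 j = 12 + j := rfl
    generalize 12 + j = k at hk hk2
    cases hx : Nat.beq x 0
    · obtain ⟨l1, h1, h2⟩ := sumDL_spec D j (x % 2 ^ (2 ^ k)) (Cs.map fun C => C % 2 ^ (2 ^ k)) ps
      obtain ⟨l2, h3, h4⟩ := sumDL_spec D j (x >>> (2 ^ k)) (Cs.map fun C => C >>> (2 ^ k)) l1
      obtain ⟨l3, h5, h6⟩ := sumDL_spec D j (x >>> (2 ^ k)) (Cs.map fun C => C >>> (2 ^ k)) ps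
      have hun : ∀ {α : Type} (κ : Ac → α), sumDL D (j + 1) x Cs ps κ = cnd (Nat.beq (x % 2 ^ (2 ^ k)) 0)
          (sumDL D j (x >>> (2 ^ k)) (Cs.map fun C => C >>> (2 ^ k)) ps κ)
          (sumDL D j (x % 2 ^ (2 ^ k)) (Cs.map fun C => C % 2 ^ (2 ^ k)) ps fun ps' =>
            cnd (Nat.beq (x >>> (2 ^ k)) 0) (κ ps')
              (sumDL D j (x >>> (2 ^ k)) (Cs.map fun C => C >>> (2 ^ k)) ps' κ)) := by
        intro α κ
        show cnd (Nat.beq x 0) (κ ps)
          (fB (Nat.mod x (Nat.pow 2 (Nat.pow 2 (Nat.add 12 j)))) fun lo =>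
            fB (Nat.shiftRight x (Nat.pow 2 (Nat.add 12 j))) fun hi =>
            cnd (Nat.beq lo 0)
              (sumDL D j hi (Cs.map fun C => Nat.shiftRight C (Nat.pow 2 (Nat.add 12 j))) ps κ)
              (sumDL D j lo (Cs.map fun C => Nat.mod C (Nat.pow 2 (Nat.pow 2 (Nat.add 12 j)))) ps fun ps' =>
                cnd (Nat.beq hi 0) (κ ps')
                  (sumDL D j hi (Cs.map fun C => Nat.shiftRight C (Nat.pow 2 (Nat.add 12 j))) ps' κ))) = _
        rw [hx, cnd_false, fB_eq, fB_eq, hk2]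
        rfl
      have h12 : 12 + j = k := hk2
      rw [h12] at h2 h4 h6
      rcases beq_zero_or (x % 2 ^ (2 ^ k)) with ⟨hl, hl'⟩ | ⟨hl, -⟩
      · refine ⟨l3, fun κ => by rw [hun, hl, cnd_true, h5], fun v => ?_⟩
        rw [h6, hk, sm_split, hl', sm_zero, Nat.zero_add]
      · rcases beq_zero_or (x >>> (2 ^ k)) with ⟨hh, hh'⟩ | ⟨hh, -⟩
        · refine ⟨l1, fun κ => by rw [hun, hl, cnd_false, h1, hh, cnd_true], fun v => ?_⟩
          rw [h2, hk, sm_split, hh', sm_zero, Nat.add_zero]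
        · refine ⟨l2, fun κ => by rw [hun, hl, cnd_false, h1, hh, cnd_false, h3], fun v => ?_⟩
          rw [h4, h2, hk, sm_split, Nat.add_assoc]
    · refine ⟨ps, fun κ => ?_, fun v => ?_⟩
      · show cnd (Nat.beq x 0) (κ ps) _ = _
        rw [hx, cnd_true]
      · rw [Nat.eq_of_beq_eq_true hx, sm_zero, Nat.add_zero]

/-- the planes -/
noncomputable def flA {α : Type} (l : Ac) : (List ℕ → α) → α :=
  Ac.rec (fun κ => κ []) (fun p _ ih κ => ih fun ps => κ (p :: ps))
    (fun p q _ ih κ => fB (Nat.xor p q) fun s => fB (Nat.land p q) fun c => ih fun ps => addB ps c fun ps' =>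
      κ (s :: ps')) l

theorem flA_spec : ∀ l : Ac, ∃ ps : List ℕ, (∀ {α : Type} (κ : List ℕ → α), flA l κ = κ ps) ∧
    ∀ v, value ps v = valA l v
  | .nil => ⟨[], fun κ => rfl, fun v => rfl⟩
  | .one p l => by
    obtain ⟨ps, h1, h2⟩ := flA_spec l
    refine ⟨p :: ps, fun κ => h1 _, fun v => ?_⟩
    rw [value, valA, h2]
  | .two p q l => by
    obtain ⟨ps, h1, h2⟩ := flA_spec l
    refine ⟨(p ^^^ q) :: addRow ps (p &&& q), fun κ => ?_, fun v => ?_⟩
    · show (fB (Nat.xor p q) fun s => fB (Nat.land p q) fun c => flA l fun ps => addB ps c fun ps' =>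
        κ (s :: ps')) = _
      rw [fB_eq, fB_eq, h1, addB_eq]
      rfl
    · rw [value, valA, value_addRow, h2, Nat.testBit_xor, Nat.testBit_and]
      cases p.testBit v <;> cases q.testBit v <;> simp <;> omega

/-- the points with `c` neighbours -/
noncomputable def cntC (C D : List ℕ) (x c W U : ℕ) : ℕ :=
  sumDL D 5 x C .nil fun a => flA a fun ps => Nat.land (eqB ps c W) U

theorem cntC_eq (C D : List ℕ) (x c W U : ℕ) : cntC C D x c W U =
    Nat.land (eqVal (sumRows (fun p => force (cdF C p) fun v => xF D v 0) 17 0 x []) c W) U := by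
  obtain ⟨a, h1, h2⟩ := sumDL_spec D 5 x C .nil
  obtain ⟨ps, h3, h4⟩ := flA_spec a
  rw [cntC, h1, h3, eqB_eq]
  congr 1
  apply Nat.eq_of_testBit_eq
  intro v
  rw [testBit_eqVal, testBit_eqVal, h4, h2, valA, Nat.zero_add, sm_eq']

/-- run the certificate; the first instructions with carry save adders -/
noncomputable def lrunC (C D : List ℕ) (U : ℕ) (two : ℕ → ℕ) (M W b : ℕ) (R : List ℕ) :
    List LIns → List ℕ → List ℕ → ℕ
  | LIns.cell l :: L, st, fx => fB (cellB st l U) fun m => lrunC C D U two M W b R L (m :: st) fx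
  | LIns.cnt i c :: L, st, fx => fB (Nat.land (nth st i) W) fun x =>
      fB (cntC C D x c W U) fun m => lrunC C D U two M W b R L (m :: st) fx
  | LIns.self J :: L, st, fx => polyF R b J unL zrL fun Ns => fB (slfF D C Ns 0) fun m =>
      lrunC C D U two M W b R L (m :: st) fx
  | L, st, fx => lrun C D U two M W b R L st fx

theorem lrunC_eq (C D : List ℕ) (U : ℕ) (two : ℕ → ℕ) (M W b : ℕ) (R : List ℕ) : ∀ (L : List LIns) (st fx : List ℕ),
    lrunC C D U two M W b R L st fx = lrun C D U two M W b R L st fx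
  | [], st, fx => rfl
  | LIns.cell l :: L, st, fx => by
    show (fB (cellB st l U) fun m => lrunC C D U two M W b R L (m :: st) fx) =
      (fB (cellB st l U) fun m => lrun C D U two M W b R L (m :: st) fx)
    rw [fB_eq, fB_eq, lrunC_eq]
  | LIns.cnt i c :: L, st, fx => by
    show (fB (Nat.land (nth st i) W) fun x =>
      fB (cntC C D x c W U) fun m => lrunC C D U two M W b R L (m :: st) fx) =
      (fB (Nat.land (nth st i) W) fun x =>
        sumB (fun p => force (cdF C p) fun v => xF D v 0) 17 0 x [] fun ps =>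
          fB (Nat.land (eqB ps c W) U) fun m => lrun C D U two M W b R L (m :: st) fx)
    rw [fB_eq, fB_eq, fB_eq, sumB_eq, fB_eq, cntC_eq, eqB_eq, lrunC_eq]
  | LIns.self J :: L, st, fx => by
    show (polyF R b J unL zrL fun Ns => fB (slfF D C Ns 0) fun m => lrunC C D U two M W b R L (m :: st) fx) =
      (polyF R b J unL zrL fun Ns => fB (slfF D C Ns 0) fun m => lrun C D U two M W b R L (m :: st) fx)
    congr 1
    funext Ns
    rw [fB_eq, fB_eq, lrunC_eq]
  | LIns.sum _ _ :: _, _, _ => rfl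
  | LIns.base _ _ _ :: _, _, _ => rfl
  | LIns.cnw _ _ :: _, _, _ => rfl
  | LIns.two _ _ :: _, _, _ => rfl
  | LIns.aff _ _ :: _, _, _ => rfl
  | LIns.fin _ :: _, _, _ => rfl

/-- the bound -/
noncomputable def bndC (C D : List ℕ) (U : ℕ) (two : ℕ → ℕ) (b : ℕ) (R : List ℕ) (L : List LIns) : ℕ :=
  fB (cmb 18 13) fun M => fB (Nat.sub (Nat.pow 2 (2 ^ 17)) 1) fun W => lrunC C D U two M W b R L [] []

theorem bndC_eq (C D : List ℕ) (U : ℕ) (two : ℕ → ℕ) (b : ℕ) (R : List ℕ) (L : List LIns) :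
    bnd C D U two b R L = bndC C D U two b R L := by
  rw [bnd, bndC, fB_eq, fB_eq, fB_eq, fB_eq, lrunC_eq]

end Cfsg.Agent.H123.Cls
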