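import Cfsg.Agent.H264.TC.TwoPl

/-!
# `Co1` : the relations for the certificates (helper123)
-/

set_option autoImplicit false

namespace Cfsg.Agent.H123.Cls.CoD

/-- the second relation -/
noncomputable def tw : ℕ → ℕ := Cfsg.Agent.H264.TC.TwoPl.two

end Cfsg.Agent.H123.Cls.CoD
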