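import Cfsg.Agent.H123.Cls.LDat
import Cfsg.Agent.H123.Cls.LPl

/-!
# `Co1` : bounds of the centralizers (helper123)
-/

set_option autoImplicit false
set_option maxRecDepth 1000000

namespace Cfsg.Agent.H123.Cls.CoD

open Cfsg.Agent.H123.Cls Cfsg.Agent.MonsterX.LaneLab Cfsg.Agent.H264.TC.NoReal39

theorem b0 : ∃ b L, Nat.beq (bnd CL DL XL tw b d0.R L) (Nat.succ d0.c) = true := ⟨2, [.cell [], .base 0 117059 2,
  .two 1 13415, .aff 3 3, .cnt 0 12, .cell [(true, 2), (false, 4), (true, 0)], .base 0 11819 2, .two 2 11819, .aff
  3 3, .aff 3 15, .cell [(true, 0), (true, 10)], .cnt 0 4, .cell [(true, 7), (false, 6), (false, 4), (false, 0),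
  (false, 5), (false, 3)], .cnt 0 18, .cell [(true, 6), (true, 0), (true, 7), (true, 2)], .base 0 14930 2, .two 1
  23585, .cell [(true, 0), (true, 4)], .sum 0 2, .cell [(true, 0), (true, 2)], .sum 0 2, .cell [(true, 0), (true,
  2)], .sum 0 2, .cell [(true, 0), (true, 2)], .sum 0 2, .cell [(true, 0), (true, 2)], .sum 0 2, .cell [(true, 0),
  (true, 2)], .sum 0 2, .cell [(true, 0), (true, 2)], .sum 0 2, .cell [(true, 0), (true, 2)], .sum 0 1, .cell
  [(true, 0), (true, 4)], .sum 0 2, .cell [(true, 0), (true, 2)], .sum 0 1, .fin [2123234, 8558026, 6715013,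
  12977814, 3498746, 8951497, 12051132, 8126416, 4515946, 16533799, 3218322, 10488387, 1720361, 5591463, 64822,
  11358798, 8022558, 487167, 7503920, 6136532, 903180, 15064092, 14640914, 10756023]], by
  decide +kernel⟩

theorem b9 : ∃ b L, Nat.beq (bnd CL DL XL tw b d9.R L) (Nat.succ d9.c) = true := ⟨4, [.self 2, .aff 9 0, .cnt 0 56,
  .cell [(true, 0), (false, 2)], .base 0 101998 4, .two 2 98338, .two 1 85234, .cell [(true, 1), (true, 0), (true,
  4), (false, 9), (false, 7)], .base 0 37832 4, .two 8 37832, .two 4 69990, .two 1 40121, .cell [(true, 0), (true,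
  7)], .sum 0 2, .cell [(true, 12), (true, 18), (true, 20), (true, 7), (true, 9), (false, 16), (false, 1), (true,
  15)], .base 0 119542 2, .two 1 85075, .cell [(true, 8), (true, 0), (false, 13), (false, 9), (true, 19), (true,
  18)], .base 0 29356 4, .cell [(true, 0), (true, 4)], .sum 0 4, .cell [(true, 0), (true, 16)], .sum 0 1, .cell
  [(true, 1), (true, 3)], .sum 0 1, .cell [(true, 4), (true, 28)], .sum 0 1, .cell [(true, 1), (true, 9)], .sum 0
  1, .fin [4961198, 10691426, 11423914, 6026465, 9544636, 16474252, 2829008, 4664727, 15264788, 1667656, 912637,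
  10003084, 8128078, 10891351, 8576448, 8301889, 10176459, 14847065, 7339001, 11964420, 16426740, 5247619, 5169375,
  15610030]], by
  decide +kernel⟩

theorem b17 : ∃ b L, Nat.beq (bnd CL DL XL tw b d17.R L) (Nat.succ d17.c) = true := ⟨5, [.self 2, .self 4, .self 8,
  .aff 21 0, .cell [(true, 0), (true, 3)], .base 0 109995 4, .two 8 109995, .two 4 16614, .two 2 79563, .two 1
  46932, .cell [(true, 10), (false, 11), (false, 12), (false, 7), (false, 6), (false, 5), (false, 4), (false, 3),
  (false, 2), (false, 1), (false, 0)], .sum 0 1, .cell [(true, 14), (true, 9), (true, 8), (true, 0), (false, 12),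
  (false, 7), (false, 13), (true, 6), (false, 3)], .sum 0 4, .cell [(true, 2), (true, 4)], .sum 0 2, .cell [(true,
  0), (true, 9)], .sum 0 1, .cell [(true, 15), (true, 12), (false, 17), (false, 24), (false, 7), (true, 10),
  (false, 8)], .base 0 91235 6, .two 1 45364, .cell [(true, 0), (true, 9)], .sum 0 6, .fin [13967627, 15210390,
  4312994, 15252831, 14672516, 14500854, 5858258, 16740324, 9243622, 13040160, 4288288, 11898655, 5202449, 732031,
  5311727, 10459952, 13553009, 6607105, 11196153, 650756, 3758718, 10935538, 11327782, 10014871]], by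
  decide +kernel⟩

theorem b26 : ∃ b L, Nat.beq (bnd CL DL XL tw b d26.R L) (Nat.succ d26.c) = true := ⟨3, [.self 2, .self 4, .cell
  [(false, 0), (true, 1)], .base 0 129706 6, .two 32 129706, .two 4 67299, .cell [(true, 1), (true, 10), (true, 3),
  (false, 4), (true, 2), (true, 9), (true, 5), (false, 0)], .base 0 28480 6, .cell [(true, 8), (false, 12), (false,
  4), (false, 0), (true, 16), (true, 11), (false, 2), (false, 17), (true, 9)], .base 0 128556 6, .cell [(true, 0),
  (true, 6)], .sum 0 6, .fin [5354619, 5123644, 11460562, 6860961, 6561063, 3090024, 16733574, 4067147, 2889333,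
  14150874, 1357203, 12213839, 14066143, 1381479, 3324822, 12211998, 15041256, 2337145, 8664687, 13714029,
  15546865, 14246863, 15016308, 13166945]], by
  decide +kernel⟩

theorem b36 : ∃ b L, Nat.beq (bnd CL DL XL tw b d36.R L) (Nat.succ d36.c) = true := ⟨6, [.self 2, .aff 33 0, .cell
  [(true, 0), (true, 1)], .base 0 45183 4, .two 8 45183, .two 1 93007, .cell [(true, 6), (true, 1), (true, 0),
  (false, 4), (true, 3)], .base 0 129354 4, .two 8 129354, .two 2 117100, .two 1 69295, .cell [(true, 2), (true,
  7)], .sum 0 4, .cell [(true, 0), (true, 4)], .sum 0 4, .cell [(true, 26), (true, 20), (true, 15), (true, 16),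
  (false, 3), (false, 6), (false, 22), (false, 7), (true, 5), (false, 8), (false, 21), (true, 2), (false, 23),
  (false, 1)], .base 0 41483 4, .cell [(true, 23), (true, 16), (true, 15), (false, 28), (false, 12), (false, 0)],
  .sum 0 4, .fin [12257195, 5072395, 2463901, 14002801, 14889248, 16155457, 473649, 11865820, 11703328, 2423792,
  5459334, 11521127, 11427128, 10569474, 8020767, 961584, 2450690, 5213677, 13071573, 12788436, 11953223, 3367651,
  1449259, 12118257]], by
  decide +kernel⟩

theorem b46 : ∃ b L, Nat.beq (bnd CL DL XL tw b d46.R L) (Nat.succ d46.c) = true := ⟨11, [.self 2, .self 4, .self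
  8, .self 16, .self 32, .self 64, .aff 1365 0, .aff 585 0, .aff 273 0, .cell [(true, 0), (true, 1), (true, 8)],
  .base 0 20562 6, .two 32 20562, .two 4 129287, .cell [(true, 16), (true, 7), (true, 6), (false, 4), (false, 12),
  (false, 13), (false, 5), (false, 2), (false, 17), (false, 14), (false, 15), (false, 11), (false, 0)], .sum 0 4,
  .cell [(true, 9), (true, 3), (true, 1), (false, 19), (false, 21), (false, 12), (true, 17), (false, 2), (false,
  20), (false, 10), (false, 22), (false, 11), (false, 6)], .sum 0 8, .two 4 81388, .two 1 21421, .cell [(true, 0),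
  (true, 15)], .sum 0 2, .cell [(true, 4), (true, 18)], .sum 0 2, .cell [(true, 37), (false, 34), (true, 39),
  (true, 19), (true, 18), (false, 38), (false, 36), (true, 27), (true, 24), (true, 4), (true, 29), (true, 15),
  (true, 13)], .sum 0 2, .fin [1928212, 12642143, 10402891, 9247641, 1811265, 10229998, 960714, 11821332, 1733358,
  15257059, 9069057, 7178325, 7625440, 8371568, 8207590, 7901331, 15736571, 15304630, 1421277, 15010798, 13062858,
  938759, 14998739, 10092506]], by
  decide +kernel⟩

theorem b54 : ∃ b L, Nat.beq (bnd CL DL XL tw b d54.R L) (Nat.succ d54.c) = true := ⟨3, [.self 2, .self 4, .cell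
  [(false, 0), (true, 1)], .base 0 106131 6, .two 32 106131, .two 8 128240, .two 4 130400, .two 2 30570, .cell
  [(true, 8), (true, 7), (false, 5), (false, 6), (true, 4), (true, 12), (true, 11), (false, 9), (false, 0), (false,
  1), (false, 3)], .sum 0 2, .cell [(true, 5), (true, 3), (true, 14), (false, 9), (true, 15), (true, 0)], .base 0
  90000 4, .cell [(true, 18), (true, 5), (true, 2), (true, 1), (false, 0), (true, 17), (false, 14), (false, 3),
  (false, 13), (false, 15), (false, 8)], .base 0 41868 6, .cell [(true, 0), (true, 14)], .sum 0 6, .fin [8261630,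
  270490, 7386113, 8934767, 3404049, 7397231, 12588498, 12718080, 1024410, 13787111, 11087803, 11972342, 13852176,
  16121595, 1874429, 5781426, 13540337, 8545789, 1272452, 11705559, 13943962, 4428901, 4581488, 2260045]], by
  decide +kernel⟩

theorem b65 : ∃ b L, Nat.beq (bnd CL DL XL tw b d65.R L) (Nat.succ d65.c) = true := ⟨13, [.self 2, .self 8, .self
  16, .self 32, .aff 4161 0, .cell [(true, 0), (true, 4), (false, 2), (false, 1), (true, 3)], .base 0 69672 12,
  .cell [(true, 14), (false, 15), (true, 16), (false, 17), (true, 10), (true, 9), (true, 8), (true, 0), (true, 5),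
  (false, 2), (false, 3), (false, 11)], .base 0 83779 10, .cell [(true, 2), (true, 10)], .sum 0 2, .fin [3772925,
  15308571, 14768837, 16452288, 8082205, 12489516, 10512248, 6793588, 9545031, 11401219, 13346435, 1109183,
  1612238, 8334638, 12444746, 11171568, 11297034, 823394, 9346350, 1034047, 16250100, 13177124, 6650888, 2940961]],
  by
  decide +kernel⟩

theorem b75 : ∃ b L, Nat.beq (bnd CL DL XL tw b d75.R L) (Nat.succ d75.c) = true := ⟨23, [.self 2, .self 4, .self
  8, .self 16, .self 32, .self 64, .self 128, .self 256, .self 512, .aff 4194305 0, .sum 0 1, .cell [(true, 0),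
  (false, 10), (false, 9), (false, 6), (false, 5), (false, 8), (false, 4), (false, 3), (false, 2), (false, 7)],
  .sum 0 1, .cell [(true, 11), (true, 9), (true, 5), (false, 7), (true, 6), (false, 4), (false, 2), (true, 10),
  (true, 0)], .base 0 19582 22, .fin [6664393, 15788830, 5925213, 16506638, 1500024, 7430848, 8933558, 5902283,
  5794035, 15049938, 11282819, 7620331, 6664975, 11783601, 8771998, 11725847, 3468934, 6209915, 2234214, 2244219,
  12955576, 9390997, 565437, 7318539]], by
  decide +kernel⟩

theorem b84 : ∃ b L, Nat.beq (bnd CL DL XL tw b d84.R L) (Nat.succ d84.c) = true := ⟨28, [.self 2, .self 8, .self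
  32, .self 64, .self 512, .aff 134217729 0, .aff 17895697 0, .sum 1 1, .cell [(true, 1), (true, 6), (true, 5),
  (false, 3), (false, 4)], .base 0 6984 18, .cell [(true, 25), (true, 23), (true, 19), (true, 16), (true, 7),
  (false, 3), (true, 15), (false, 14), (true, 0), (true, 9), (true, 6), (true, 13), (false, 26)], .sum 0 2, .cell
  [(true, 0), (true, 2)], .sum 0 3, .fin [11618289, 3720547, 12019035, 7180256, 10453638, 15316289, 6006823,
  3116960, 15059232, 13992776, 5272148, 12662747, 9456112, 210549, 1411278, 13588920, 6675207, 3137626, 13779770,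
  9525744, 14347960, 2380460, 13943267, 960564]], by
  decide +kernel⟩

theorem b92 : ∃ b L, Nat.beq (bnd CL DL XL tw b d92.R L) (Nat.succ d92.c) = true := ⟨25, [.self 2, .self 128, .aff
  16777217 0, .cell [(true, 0), (true, 2)], .base 0 117777 6, .two 4 27896, .two 2 122960, .cell [(true, 1), (true,
  0), (false, 11), (true, 7), (false, 5), (false, 10)], .base 0 129898 18, .fin [6548385, 7742651, 9739329,
  16759171, 4474715, 8725600, 6003581, 7320963, 12952463, 94318, 6080339, 14491712, 12126955, 3534756, 12925752,
  6006926, 13286030, 2224747, 16369818, 14949369, 8113493, 16205472, 15224058, 4798005]], by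
  decide +kernel⟩

end Cfsg.Agent.H123.Cls.CoD
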