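import Cfsg.Agent.H123.Cls.LDat
import Cfsg.Agent.H123.Cls.LPl

/-!
# `Co1` : bounds of the centralizers (helper123)
-/

set_option autoImplicit false
set_option maxRecDepth 1000000

namespace Cfsg.Agent.H123.Cls.CoD

open Cfsg.Agent.H123.Cls Cfsg.Agent.MonsterX.LaneLab Cfsg.Agent.H264.TC.NoReal39

theorem b2 : ∃ b L, Nat.beq (bnd CL DL XL tw b d2.R L) (Nat.succ d2.c) = true := ⟨2, [.self 2, .aff 3 0, .base 1
  25805 2, .two 2 25805, .two 1 43736, .cell [(true, 4), (true, 1)], .base 0 115654 1, .two 1 115654, .cell [(true,
  4), (true, 3), (false, 8), (true, 0), (false, 7)], .base 0 96903 2, .two 2 96903, .two 1 86353, .cell [(true,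
  10), (false, 13), (false, 3), (false, 11), (false, 6), (false, 2), (false, 5), (false, 1), (false, 0), (false,
  9)], .sum 0 1, .cell [(true, 10), (true, 7), (true, 3), (true, 15), (true, 0), (true, 4), (true, 13)], .base 0
  84627 2, .two 1 106033, .cell [(true, 0), (true, 5)], .sum 0 1, .cell [(true, 1), (true, 4)], .sum 0 1, .cell
  [(true, 0), (true, 1)], .sum 0 1, .cell [(true, 23), (false, 25), (true, 18), (false, 15), (false, 7), (true, 4),
  (true, 2), (false, 22), (false, 14), (false, 8), (false, 0), (false, 6)], .sum 0 1, .cell [(true, 15), (false,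
  24), (false, 10), (true, 4), (false, 22), (true, 20), (false, 0), (true, 16), (false, 9), (false, 27), (true,
  25), (false, 2)], .base 0 9500 2, .two 1 20495, .cell [(true, 0), (true, 17)], .sum 0 2, .cell [(true, 0), (true,
  2)], .sum 0 2, .cell [(true, 0), (true, 2)], .sum 0 1, .two 1 20429, .cell [(true, 0), (true, 14)], .sum 0 2,
  .cell [(true, 0), (true, 2)], .sum 0 2, .cell [(true, 0), (true, 8)], .sum 0 1, .fin [5967336, 13529545, 5728321,
  14611210, 2051041, 3457680, 7692381, 991871, 2433493, 10264079, 5088309, 7218932, 16342553, 13386694, 1074501,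
  2907486, 7797848, 486434, 1219347, 4458895, 822958, 1138330, 635923, 14683198]], by
  decide +kernel⟩

theorem b10 : ∃ b L, Nat.beq (bnd CL DL XL tw b d10.R L) (Nat.succ d10.c) = true := ⟨4, [.self 2, .aff 15 0, .base
  0 730 3, .two 4 730, .two 2 47520, .two 1 127493, .aff 9 2, .base 0 92705 1, .two 1 92705, .cell [(true, 9),
  (true, 5), (true, 7), (false, 0)], .cnt 0 16, .cell [(true, 0), (true, 2), (true, 12), (true, 7)], .cnt 0 8,
  .cell [(true, 13), (false, 5), (false, 12), (false, 11), (false, 0), (false, 4), (false, 2), (false, 8)], .sum 0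
  1, .two 1 84758, .cell [(true, 12), (true, 11), (false, 17), (false, 3), (false, 10), (false, 7), (false, 5)],
  .sum 0 3, .two 4 68674, .two 2 106501, .two 1 91112, .cell [(true, 10), (true, 7), (true, 2), (true, 24), (true,
  1)], .base 0 18677 4, .two 1 42842, .cell [(true, 0), (true, 15)], .sum 0 2, .cell [(true, 2), (true, 5)], .sum 0
  1, .cell [(true, 5), (true, 23)], .sum 0 1, .cell [(true, 35), (true, 33), (true, 21), (true, 10), (false, 16),
  (false, 37), (true, 28), (false, 18), (true, 17), (false, 13), (true, 11), (true, 9), (true, 8), (true, 2)],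
  .base 0 30859 4, .two 2 9037, .cell [(true, 0), (true, 31)], .sum 0 4, .fin [8151023, 13893344, 8149155,
  16063675, 6379545, 2021145, 11305521, 5132235, 16728503, 3828143, 3941835, 9478070, 6052147, 8976917, 8916883,
  10927754, 10538305, 3908016, 1765764, 8930083, 1875639, 4693425, 549034, 3405029]], by
  decide +kernel⟩

theorem b18 : ∃ b L, Nat.beq (bnd CL DL XL tw b d18.R L) (Nat.succ d18.c) = true := ⟨6, [.self 2, .self 4, .aff 33
  0, .aff 63 0, .cnw 1 0, .cell [(false, 4), (true, 3), (false, 1), (true, 0)], .base 0 30742 6, .two 32 30742,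
  .two 2 125039, .two 1 66131, .cell [(true, 14), (true, 7), (true, 6), (true, 5), (false, 3), (false, 8), (false,
  4), (true, 10), (true, 13), (false, 2), (false, 0), (false, 1)], .sum 0 2, .cell [(true, 0), (true, 2)], .sum 0
  5, .cell [(true, 0), (true, 5)], .sum 0 5, .cell [(true, 0), (true, 5)], .sum 0 2, .cell [(true, 0), (true, 14)],
  .sum 0 2, .cell [(true, 0), (true, 2)], .sum 0 2, .fin [8180382, 3533126, 8346627, 14668777, 15247376, 893866,
  5383553, 2551985, 7662380, 16351299, 13798158, 7244000, 3442546, 4194320, 12843381, 12240727, 16439649, 11848830,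
  2830567, 3774352, 2133439, 15561708, 1844987, 3784181]], by
  decide +kernel⟩

theorem b28 : ∃ b L, Nat.beq (bnd CL DL XL tw b d28.R L) (Nat.succ d28.c) = true := ⟨8, [.self 2, .self 4, .aff 129
  0, .cnt 0 4, .cell [(true, 0), (true, 2), (false, 3)], .base 0 85300 6, .two 16 17287, .two 2 84787, .cell
  [(true, 12), (true, 7), (true, 5), (true, 4), (false, 6), (false, 2), (false, 3), (false, 11), (false, 0),
  (false, 1)], .sum 0 3, .two 2 88324, .cell [(true, 0), (true, 4)], .sum 0 3, .cell [(true, 0), (true, 3)], .sum 0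
  2, .cell [(true, 0), (true, 2)], .sum 0 4, .cell [(true, 0), (true, 4)], .sum 0 4, .two 1 130145, .cell [(true,
  0), (true, 5)], .sum 0 2, .fin [9966233, 6479837, 6869277, 13686409, 16321246, 13768642, 12069128, 564584,
  13440804, 6193193, 8739968, 10946384, 1313221, 1985046, 14304562, 15392395, 16513289, 508869, 11165303, 8340908,
  2939951, 4875418, 14580667, 9295689]], by
  decide +kernel⟩

theorem b37 : ∃ b L, Nat.beq (bnd CL DL XL tw b d37.R L) (Nat.succ d37.c) = true := ⟨9, [.self 2, .self 4, .self 8,
  .self 32, .aff 341 0, .cell [(true, 0), (true, 4), (true, 3), (true, 2)], .base 0 115395 8, .two 1 115312, .cell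
  [(true, 0), (true, 9)], .sum 0 8, .cell [(true, 17), (true, 16), (true, 14), (true, 13), (false, 22), (false, 2),
  (false, 5), (false, 10), (false, 11), (true, 3), (false, 21), (true, 1), (false, 12), (false, 20)], .sum 0 1,
  .cell [(true, 18), (true, 16), (false, 24), (true, 23), (false, 25), (true, 8), (false, 6), (false, 9), (false,
  17), (true, 3), (true, 0), (false, 14), (false, 15), (true, 5)], .sum 0 2, .cell [(true, 0), (true, 2)], .sum 0
  2, .cell [(true, 0), (true, 7)], .sum 0 1, .cell [(true, 1), (true, 5)], .sum 0 2, .fin [5160787, 263384,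
  4489502, 5372222, 9341252, 11066329, 3239824, 5364256, 10982054, 3087059, 6587908, 14086755, 14890979, 1673823,
  8729841, 2822307, 2199187, 14073521, 1920655, 6260678, 12917404, 7633508, 15562055, 12286323]], by
  decide +kernel⟩

theorem b47 : ∃ b L, Nat.beq (bnd CL DL XL tw b d47.R L) (Nat.succ d47.c) = true := ⟨11, [.self 2, .self 4, .self
  8, .self 16, .aff 1365 0, .aff 585 0, .aff 273 0, .cell [(true, 0), (true, 1)], .base 0 40915 6, .two 32 40915,
  .two 16 16793, .two 8 25112, .two 4 105322, .two 2 114177, .two 1 102351, .cell [(true, 19), (false, 17), (false,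
  11), (false, 9), (false, 10), (false, 8), (false, 7), (false, 6), (false, 15), (false, 5), (false, 4), (false,
  3), (false, 2), (false, 1), (false, 0)], .sum 0 3, .cell [(true, 0), (true, 3)], .sum 0 3, .cell [(true, 1),
  (true, 3)], .sum 0 1, .cell [(true, 3), (true, 9)], .sum 0 1, .cell [(true, 22), (true, 20), (false, 29), (true,
  6), (false, 28), (true, 9), (true, 0), (false, 21), (true, 2), (false, 23), (false, 31), (false, 30), (false, 4),
  (false, 5), (true, 10)], .sum 0 2, .cell [(true, 0), (true, 4)], .sum 0 2, .cell [(true, 0), (true, 5)], .sum 0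
  4, .cell [(true, 39), (false, 20), (false, 13), (true, 6), (false, 9), (true, 3), (true, 19), (true, 21), (true,
  0), (true, 5), (false, 42), (true, 31), (false, 32)], .sum 0 2, .fin [4821657, 440646, 3475516, 16305, 6376002,
  2228514, 306555, 7333104, 335178, 10183351, 9647768, 1276661, 12054823, 7669862, 8153123, 16020329, 9691089,
  11714949, 6012257, 14234026, 5145650, 1478605, 12673876, 430426]], by
  decide +kernel⟩

theorem b56 : ∃ b L, Nat.beq (bnd CL DL XL tw b d56.R L) (Nat.succ d56.c) = true := ⟨13, [.self 2, .self 4, .self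
  8, .self 32, .self 64, .aff 5461 0, .cell [(true, 0), (false, 5), (true, 1), (true, 4), (true, 3)], .base 0 92465
  12, .two 256 125193, .two 1 87092, .cell [(true, 0), (true, 14)], .sum 0 6, .cell [(true, 20), (true, 19), (true,
  15), (true, 11), (true, 9), (false, 5), (false, 24), (false, 3), (true, 2), (true, 1), (true, 0), (false, 27),
  (false, 16), (false, 25), (false, 22)], .sum 0 2, .cell [(true, 0), (true, 2)], .sum 0 1, .cell [(true, 13),
  (true, 23), (true, 18), (true, 15), (true, 30), (true, 25), (false, 29), (false, 7), (false, 31), (true, 8)],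
  .sum 0 1, .cell [(true, 0), (true, 3)], .sum 0 1, .cell [(true, 2), (true, 8)], .sum 0 1, .fin [12745077,
  1436004, 11603466, 808256, 9199958, 7868434, 2808644, 8969536, 1510338, 12173065, 8341959, 2187914, 288933,
  13222615, 1504735, 16463982, 1704772, 15222744, 16468570, 9427493, 12072046, 7946987, 767142, 2475847]], by
  decide +kernel⟩

theorem b66 : ∃ b L, Nat.beq (bnd CL DL XL tw b d66.R L) (Nat.succ d66.c) = true := ⟨13, [.self 2, .self 4, .self
  8, .self 16, .self 32, .aff 4161 0, .cell [(true, 0), (false, 3), (false, 4), (false, 2), (true, 1), (false, 5)],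
  .base 0 94259 12, .two 8 23031, .cell [(true, 0), (true, 17), (true, 2), (true, 12), (true, 11), (true, 3),
  (false, 18), (false, 15)], .base 0 115029 10, .cell [(true, 2), (true, 10)], .sum 0 2, .fin [6849734, 4587636,
  11877451, 16369740, 13580463, 12993636, 14446670, 16376562, 2179204, 5664074, 14137804, 14531805, 5129158,
  8519621, 9981605, 15959033, 1223092, 6494734, 6663155, 7022128, 3502341, 5948121, 8896456, 8994247]], by
  decide +kernel⟩

theorem b76 : ∃ b L, Nat.beq (bnd CL DL XL tw b d76.R L) (Nat.succ d76.c) = true := ⟨17, [.self 2, .self 4, .self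
  32, .self 64, .aff 65793 0, .cell [(true, 0), (true, 2), (false, 4)], .base 0 78167 12, .two 128 42187, .two 32
  67242, .cell [(true, 1), (true, 0), (false, 16), (false, 11), (false, 6), (true, 10), (false, 18), (false, 19),
  (false, 17)], .base 0 12391 6, .cell [(true, 0), (true, 6)], .sum 0 6, .fin [6905671, 4581432, 9269043, 16256596,
  4828742, 15689252, 196640, 2367102, 9615040, 8941153, 2874988, 16019946, 16184803, 12849157, 8232775, 9790154,
  1452892, 13036314, 4629021, 10920009, 11899146, 15661310, 9263468, 4045317]], by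
  decide +kernel⟩

theorem b85 : ∃ b L, Nat.beq (bnd CL DL XL tw b d85.R L) (Nat.succ d85.c) = true := ⟨21, [.self 2, .self 4, .self
  8, .self 32, .self 64, .self 512, .aff 1049601 0, .cell [(true, 0), (false, 6), (true, 5)], .base 0 34290 16,
  .cell [(false, 19), (false, 20), (true, 14), (true, 7), (true, 18), (true, 13), (true, 8), (true, 5), (true, 11),
  (true, 10), (false, 6), (true, 2), (false, 22), (true, 21)], .sum 0 8, .fin [14544145, 1709248, 9845522,
  16460229, 8642760, 13994586, 3368017, 4307144, 10768785, 14010866, 9105072, 1472710, 2653377, 4483849, 14004432,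
  11304297, 11057542, 1779736, 277105, 1267646, 6455713, 6481273, 400929, 7218657]], by
  decide +kernel⟩

theorem b93 : ∃ b L, Nat.beq (bnd CL DL XL tw b d93.R L) (Nat.succ d93.c) = true := ⟨10, [.self 2, .self 4, .self
  8, .self 16, .self 32, .self 64, .self 256, .self 512, .cell [(true, 7), (true, 6), (true, 4), (true, 2), (false,
  0), (true, 5), (false, 3), (false, 1)], .base 0 109392 24, .fin [9987336, 3481909, 5305518, 10313657, 2912699,
  9378046, 9873162, 16002887, 15000798, 3382885, 16682682, 4504667, 5835704, 2856564, 1194746, 5534851, 7773612,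
  12808757, 13404571, 10106605, 3865372, 9137667, 3428721, 12365136]], by
  decide +kernel⟩

end Cfsg.Agent.H123.Cls.CoD
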