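import Cfsg.Agent.H123.Cls.LDat
import Cfsg.Agent.H123.Cls.LPl

/-!
# `Co1` : bounds of the centralizers (helper123)
-/

set_option autoImplicit false
set_option maxRecDepth 1000000

namespace Cfsg.Agent.H123.Cls.CoD

open Cfsg.Agent.H123.Cls Cfsg.Agent.MonsterX.LaneLab Cfsg.Agent.H264.TC.NoReal39

theorem b1 : ∃ b L, Nat.beq (bnd CL DL XL tw b d1.R L) (Nat.succ d1.c) = true := ⟨2, [.aff 3 0, .cnt 0 1136, .base
  0 37160 2, .two 2 37160, .two 1 115829, .cell [(true, 1), (false, 4), (true, 2)], .base 0 26049 2, .two 2 26049,
  .two 1 18075, .cell [(true, 5), (true, 1), (true, 0), (false, 10)], .base 0 114581 1, .two 1 114581, .cell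
  [(true, 4), (false, 11), (true, 5), (true, 12), (false, 9), (true, 1), (true, 10)], .base 0 82068 1, .two 1
  82068, .cell [(true, 11), (false, 14), (false, 8), (false, 4), (true, 15), (false, 12), (true, 1), (false, 6)],
  .base 0 7334 1, .cell [(true, 0), (true, 4)], .sum 0 1, .cell [(true, 11), (false, 18), (false, 5), (true, 12),
  (true, 8), (false, 0), (false, 19), (false, 16), (true, 17), (false, 4)], .base 0 120071 2, .two 2 120071, .cell
  [(true, 22), (true, 16), (false, 21), (true, 9), (true, 2), (true, 6), (true, 17), (false, 12), (true, 4), (true,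
  23), (true, 1), (false, 19), (false, 11)], .sum 0 2, .two 2 118416, .cell [(true, 19), (true, 15), (true, 4),
  (true, 20), (false, 26), (true, 25), (true, 13)], .base 0 23257 2, .cell [(true, 29), (true, 23), (false, 28),
  (true, 24), (true, 13), (false, 19), (false, 16), (false, 9), (false, 11), (false, 1), (true, 30), (true, 8),
  (false, 5), (false, 3)], .sum 0 1, .cell [(true, 0), (true, 19)], .sum 0 1, .cell [(false, 34), (true, 0), (true,
  33), (true, 32), (true, 20), (true, 13), (true, 2), (false, 8), (true, 27), (false, 5), (false, 23), (false, 17),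
  (false, 15), (false, 9), (false, 4)], .base 0 78436 2, .two 1 6583, .cell [(true, 0), (true, 14)], .sum 0 2, .two
  1 128787, .cell [(true, 0), (true, 18)], .sum 0 1, .cell [(true, 0), (true, 11)], .sum 0 1, .cell [(true, 0),
  (true, 30)], .sum 0 1, .cell [(true, 0), (true, 5)], .sum 0 1, .fin [11520661, 9247187, 5260801, 10967278,
  12524818, 3864585, 13159866, 6864277, 3197032, 345579, 14613780, 13040250, 14084045, 6124988, 4777784, 965921,
  6884028, 5997997, 4700892, 4702985, 16265779, 11624423, 7461629, 13537507]], by
  decide +kernel⟩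

end Cfsg.Agent.H123.Cls.CoD
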