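import Cfsg.Agent.H123.Cls.LDat
import Cfsg.Agent.H123.Cls.LPl

/-!
# `Co1` : bounds of the centralizers (helper123)
-/

set_option autoImplicit false
set_option maxRecDepth 1000000

namespace Cfsg.Agent.H123.Cls.CoD

open Cfsg.Agent.H123.Cls Cfsg.Agent.MonsterX.LaneLab Cfsg.Agent.H264.TC.NoReal39

theorem b55 : ∃ b L, Nat.beq (bnd CL DL XL tw b d55.R L) (Nat.succ d55.c) = true := ⟨6, [.self 2, .self 4, .self 8,
  .self 16, .self 32, .cell [(true, 4), (false, 0), (false, 2), (false, 1), (false, 3)], .cnt 0 896, .base 0 91442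
  12, .two 1 70640, .cell [(true, 0), (true, 13)], .sum 0 12, .fin [15434231, 14478625, 16485810, 14105879,
  4236788, 5581502, 13416406, 10273905, 7255995, 16284360, 8790293, 12821789, 3995980, 10694712, 10713031, 9353297,
  622816, 8428668, 8639654, 14833569, 5187530, 9332510, 1869664, 4496868]], by
  decide +kernel⟩

end Cfsg.Agent.H123.Cls.CoD
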