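import Cfsg.Agent.H123.Cls.LDat
import Cfsg.Agent.H123.Cls.LPl

/-!
# `Co1` : bounds of the centralizers (helper123)
-/

set_option autoImplicit false
set_option maxRecDepth 1000000

namespace Cfsg.Agent.H123.Cls.CoD

open Cfsg.Agent.H123.Cls Cfsg.Agent.MonsterX.LaneLab Cfsg.Agent.H264.TC.NoReal39

theorem b73 : ∃ b L, Nat.beq (bnd CL DL XL tw b d73.R L) (Nat.succ d73.c) = true := ⟨6, [.self 2, .self 4, .self 8,
  .self 16, .self 32, .cell [(false, 2), (true, 4), (true, 0), (true, 3), (true, 1)], .cnt 0 704, .cell [(true, 0),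
  (false, 4), (true, 6), (true, 3), (true, 5)], .cnt 0 272, .cell [(true, 0), (false, 4), (true, 8)], .base 0
  120175 12, .two 1 79126, .cell [(true, 0), (true, 13)], .sum 0 12, .fin [13872077, 15074435, 14508124, 6391576,
  16089194, 14631682, 9165095, 2803229, 13569487, 5175940, 1972381, 10585883, 13947850, 14617899, 10620975,
  8367700, 11197013, 11834995, 12282619, 12851862, 16610376, 12951856, 959028, 15346209]], by
  decide +kernel⟩

end Cfsg.Agent.H123.Cls.CoD
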