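import Cfsg.Agent.H123.Cls.LDat
import Cfsg.Agent.H123.Cls.LPl

/-!
# `Co1` : bounds of the centralizers (helper123)
-/

set_option autoImplicit false
set_option maxRecDepth 1000000

namespace Cfsg.Agent.H123.Cls.CoD

open Cfsg.Agent.H123.Cls Cfsg.Agent.MonsterX.LaneLab Cfsg.Agent.H264.TC.NoReal39

theorem b57 : ∃ b L, Nat.beq (bnd CL DL XL tw b d57.R L) (Nat.succ d57.c) = true := ⟨6, [.self 2, .self 4, .self 8,
  .self 16, .self 32, .cell [(false, 3), (false, 1), (false, 4), (true, 2), (false, 0)], .cnt 0 840, .cell [(true,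
  0), (true, 2), (false, 5)], .base 0 43074 12, .two 1 123153, .cell [(true, 0), (true, 13)], .sum 0 12, .fin
  [12832379, 16513723, 7959089, 16583684, 8924198, 10234763, 13922882, 6981157, 14088105, 15434063, 1543974,
  14495111, 13030010, 4178503, 1324332, 1631747, 7176423, 13088976, 13926967, 3754322, 8263624, 469641, 1473367,
  15536590]], by
  decide +kernel⟩

end Cfsg.Agent.H123.Cls.CoD
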