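import Cfsg.Agent.H123.Cls.LDat
import Cfsg.Agent.H123.Cls.LPl

/-!
# `Co1` : bounds of the centralizers (helper123)
-/

set_option autoImplicit false
set_option maxRecDepth 1000000

namespace Cfsg.Agent.H123.Cls.CoD

open Cfsg.Agent.H123.Cls Cfsg.Agent.MonsterX.LaneLab Cfsg.Agent.H264.TC.NoReal39

theorem b80 : ∃ b L, Nat.beq (bnd CL DL XL tw b d80.R L) (Nat.succ d80.c) = true := ⟨19, [.self 2, .self 4, .self
  8, .self 16, .self 32, .aff 262145 0, .cell [(false, 2), (true, 3), (true, 4), (false, 5)], .cnt 0 1024, .base 0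
  16838 4, .two 8 16838, .two 4 34618, .two 2 2028, .two 1 72619, .cell [(true, 10), (true, 3), (false, 1), (false,
  2), (false, 0), (false, 8)], .sum 0 2, .cell [(true, 6), (false, 8), (true, 7), (false, 18), (true, 17), (false,
  9), (false, 4)], .cnt 0 12, .cell [(true, 8), (false, 10), (true, 0), (true, 20), (false, 9), (false, 6), (false,
  16), (true, 3)], .base 0 16734 10, .two 16 72613, .two 2 72584, .cell [(true, 0), (true, 12)], .sum 0 4, .two 4
  23333, .two 2 47395, .cell [(true, 8), (true, 0), (true, 1), (false, 40), (true, 22), (false, 15), (false, 39)],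
  .sum 0 4, .fin [2718296, 5843051, 7748104, 6006908, 2309943, 1402829, 1717089, 9419240, 10185602, 8554084,
  11468063, 15025507, 2980771, 10226743, 8502727, 9103797, 13533381, 10024308, 1798106, 10226723, 9661214, 1577301,
  1754929, 2337261]], by
  decide +kernel⟩

end Cfsg.Agent.H123.Cls.CoD
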