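import Cfsg.Agent.H123.Cls.LDat
import Cfsg.Agent.H123.Cls.LPl

/-!
# `Co1` : bounds of the centralizers (helper123)
-/

set_option autoImplicit false
set_option maxRecDepth 1000000

namespace Cfsg.Agent.H123.Cls.CoD

open Cfsg.Agent.H123.Cls Cfsg.Agent.MonsterX.LaneLab Cfsg.Agent.H264.TC.NoReal39

theorem b70 : ∃ b L, Nat.beq (bnd CL DL XL tw b d70.R L) (Nat.succ d70.c) = true := ⟨6, [.self 2, .self 4, .self 8,
  .self 16, .self 32, .cell [(false, 0), (true, 3), (false, 1), (false, 4), (true, 2)], .cnt 0 352, .base 0 106605
  8, .two 32 39588, .two 16 84809, .two 8 8572, .two 1 34696, .cell [(true, 17), (true, 11), (true, 6), (true, 9),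
  (true, 8), (true, 10), (true, 5), (false, 16), (true, 15), (true, 4), (false, 18), (false, 1)], .sum 0 4, .cell
  [(false, 19), (true, 22), (true, 16), (true, 15), (true, 23), (true, 21), (true, 20), (false, 17), (false, 14),
  (false, 7), (false, 8), (false, 6), (false, 13), (false, 5)], .sum 0 4, .cell [(true, 27), (true, 21), (true,
  16), (true, 5), (true, 3), (false, 20), (false, 6), (false, 19), (false, 26), (true, 17), (false, 28), (true,
  15), (true, 0)], .base 0 17872 4, .two 1 110677, .cell [(true, 0), (true, 15)], .sum 0 4, .fin [13760279,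
  3093035, 1451468, 16397955, 7832039, 10557972, 2550785, 2854405, 9036177, 1530087, 557758, 14860820, 9740553,
  10663216, 8432339, 11183727, 12913434, 5537039, 14335220, 16717270, 11613544, 1796596, 9799169, 13419404]], by
  decide +kernel⟩

theorem b27 : ∃ b L, Nat.beq (bnd CL DL XL tw b d27.R L) (Nat.succ d27.c) = true := ⟨8, [.self 2, .self 4, .self 8,
  .aff 17 0, .aff 255 0, .cell [(true, 1), (true, 4)], .cnt 0 256, .base 0 69134 4, .two 8 69134, .two 4 117057,
  .two 2 42264, .two 1 38730, .cell [(true, 1), (true, 10), (false, 14), (false, 7), (true, 13), (false, 6)], .cnt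
  0 64, .cell [(true, 0), (true, 10), (true, 5)], .base 0 47108 2, .two 2 47108, .two 1 18811, .cell [(true, 19),
  (false, 21), (true, 14), (true, 12), (false, 13), (false, 2), (false, 3), (true, 20), (false, 1), (false, 9),
  (false, 0)], .sum 0 2, .two 121 23705, .cell [(true, 12), (false, 7), (true, 17), (true, 23), (false, 25), (true,
  6), (false, 5), (false, 2)], .cnt 0 2, .cell [(true, 13), (true, 0), (false, 8), (true, 25), (false, 26), (false,
  6), (false, 9), (false, 2)], .base 0 104876 6, .two 2 17670, .cell [(true, 0), (true, 13)], .sum 0 2, .cell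
  [(true, 0), (true, 2)], .sum 0 4, .cell [(true, 0), (true, 7)], .sum 0 2, .cell [(true, 42), (true, 38), (true,
  36), (true, 45), (false, 4), (true, 16), (true, 12), (false, 46), (false, 27), (false, 39), (false, 3), (false,
  0)], .sum 0 1, .cell [(true, 46), (false, 48), (true, 24), (true, 40), (true, 38), (true, 16), (true, 14),
  (false, 3), (false, 15), (false, 41), (true, 29), (true, 19)], .sum 0 1, .fin [1671954, 5620216, 15748900,
  8162723, 11362204, 4036358, 292635, 13699427, 15945701, 3323663, 16244896, 9639636, 2957084, 7126742, 3956414,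
  505272, 16117738, 1008607, 4661400, 893302, 12453179, 5744885, 15572239, 12970389]], by
  decide +kernel⟩

end Cfsg.Agent.H123.Cls.CoD
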