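import Cfsg.Agent.H123.Cls.LDat
import Cfsg.Agent.H123.Cls.LPl

/-!
# `Co1` : bounds of the centralizers (helper123)
-/

set_option autoImplicit false
set_option maxRecDepth 1000000

namespace Cfsg.Agent.H123.Cls.CoD

open Cfsg.Agent.H123.Cls Cfsg.Agent.MonsterX.LaneLab Cfsg.Agent.H264.TC.NoReal39

theorem b33 : ∃ b L, Nat.beq (bnd CL DL XL tw b d33.R L) (Nat.succ d33.c) = true := ⟨7, [.self 2, .self 4, .aff 73
  0, .cell [(true, 0), (true, 2), (false, 1)], .cnt 0 388, .cell [(true, 2), (true, 0)], .base 0 36832 6, .two 32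
  36832, .two 1 33556, .cell [(true, 0), (true, 8)], .sum 0 6, .cell [(true, 8), (true, 16), (true, 9), (true, 2),
  (false, 4), (false, 1), (true, 0)], .base 0 5388 8, .cell [(true, 0), (true, 25)], .sum 0 2, .cell [(true, 10),
  (true, 9), (true, 8), (true, 1), (true, 31), (false, 15), (true, 0), (false, 25), (false, 26), (true, 12),
  (false, 23), (false, 24), (false, 5), (false, 3)], .sum 0 2, .fin [7888786, 3134410, 14118131, 11594058, 7367589,
  6241488, 11312494, 13065841, 9414496, 10895275, 13876069, 7410702, 13582146, 4460475, 6030306, 2019835, 11734189,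
  11873966, 593339, 16615561, 16587725, 8613206, 4809901, 5702134]], by
  decide +kernel⟩

theorem b44 : ∃ b L, Nat.beq (bnd CL DL XL tw b d44.R L) (Nat.succ d44.c) = true := ⟨10, [.self 2, .self 4, .self
  8, .aff 585 0, .cell [(true, 0), (false, 3)], .cnt 0 288, .cell [(true, 1), (true, 0)], .base 0 5691 6, .two 32
  5691, .two 16 32227, .two 4 17774, .two 1 84109, .cell [(true, 7), (true, 5), (true, 15), (false, 9), (false, 8),
  (false, 6), (false, 16), (false, 4), (false, 11), (false, 14), (false, 3), (false, 2), (false, 1), (false, 0)],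
  .sum 0 2, .cell [(true, 10), (true, 9), (true, 7), (false, 1), (true, 18), (false, 11), (false, 0), (false, 17),
  (false, 19), (false, 12), (false, 14), (false, 5)], .sum 0 4, .cell [(true, 9), (true, 15), (true, 12), (false,
  5), (false, 16), (true, 24), (true, 0), (true, 22), (false, 3), (true, 23)], .base 0 109924 8, .two 1 103242,
  .cell [(true, 0), (true, 14)], .sum 0 4, .fin [15943245, 4915111, 7540072, 10365974, 1949308, 4328981, 1709380,
  3547435, 16434307, 15537930, 3493229, 8558346, 3037801, 6665105, 5914465, 8418852, 1653221, 14649736, 16425064,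
  9474017, 15251959, 2536729, 2140464, 1991987]], by
  decide +kernel⟩

end Cfsg.Agent.H123.Cls.CoD
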