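import Cfsg.Agent.H123.Cls.LDat
import Cfsg.Agent.H123.Cls.LPl

/-!
# `Co1` : bounds of the centralizers (helper123)
-/

set_option autoImplicit false
set_option maxRecDepth 1000000

namespace Cfsg.Agent.H123.Cls.CoD

open Cfsg.Agent.H123.Cls Cfsg.Agent.MonsterX.LaneLab Cfsg.Agent.H264.TC.NoReal39

theorem b98 : ∃ b L, Nat.beq (bnd CL DL XL tw b d98.R L) (Nat.succ d98.c) = true := ⟨23, [.self 2, .self 4, .self
  8, .self 16, .self 32, .self 64, .self 128, .self 256, .self 512, .aff 4194305 0, .sum 0 1, .cell [(true, 0),
  (false, 10), (false, 9), (false, 6), (false, 5), (false, 8), (false, 4), (false, 3), (false, 2), (false, 7)],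
  .sum 0 1, .cell [(true, 8), (true, 4), (true, 6), (false, 12), (true, 5), (false, 9), (false, 11), (true, 7),
  (false, 0), (true, 2)], .base 0 81095 22, .fin [249196, 12209746, 400362, 3292709, 4268835, 7221044, 14099559,
  3155965, 15628176, 10141415, 4320424, 7583864, 4952243, 2757501, 12835912, 9398207, 887619, 10687937, 8360802,
  11157983, 14147132, 10311418, 13910135, 2017617]], by
  decide +kernel⟩

theorem b99 : ∃ b L, Nat.beq (bnd CL DL XL tw b d99.R L) (Nat.succ d99.c) = true := ⟨10, [.self 2, .self 4, .self
  8, .self 16, .self 32, .self 64, .self 256, .self 512, .cell [(true, 7), (true, 6), (true, 4), (true, 2), (false,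
  0), (true, 5), (false, 3), (false, 1)], .base 0 117633 24, .fin [1169361, 7473864, 4549348, 16254057, 15562421,
  1645724, 5067733, 13512239, 8999273, 5392337, 15017431, 2594510, 1909213, 15907211, 12650563, 13875071, 15439926,
  3355049, 4799298, 10743835, 13307451, 3451911, 16491870, 15529584]], by
  decide +kernel⟩

end Cfsg.Agent.H123.Cls.CoD
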