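import Cfsg.Agent.H123.Cls.LDat
import Cfsg.Agent.H123.Cls.LPl

/-!
# `Co1` : bounds of the centralizers (helper123)
-/

set_option autoImplicit false
set_option maxRecDepth 1000000

namespace Cfsg.Agent.H123.Cls.CoD

open Cfsg.Agent.H123.Cls Cfsg.Agent.MonsterX.LaneLab Cfsg.Agent.H264.TC.NoReal39

theorem b4 : ∃ b L, Nat.beq (bnd CL DL XL tw b d4.R L) (Nat.succ d4.c) = true := ⟨2, [.self 2, .base 0 102284 3,
  .two 4 102284, .two 2 89134, .two 1 70934, .cell [(true, 2), (true, 1), (true, 0), (true, 6)], .base 0 85108 2,
  .two 2 85108, .cell [(true, 6), (true, 4), (true, 10), (true, 8)], .base 0 70678 1, .two 1 70678, .cell [(true,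
  9), (true, 3), (false, 10), (false, 7), (true, 4), (false, 13), (false, 1)], .base 0 97668 3, .two 4 97668, .two
  2 37687, .cell [(true, 17), (true, 16), (true, 3), (true, 2), (false, 18), (true, 11), (true, 10), (false, 7),
  (false, 4), (false, 19), (false, 15), (false, 1), (false, 6)], .sum 0 1, .cell [(true, 2), (false, 19), (false,
  12), (true, 4), (true, 18), (true, 9), (false, 0), (true, 20), (false, 21)], .base 0 31062 2, .cell [(true, 19),
  (true, 18), (true, 24), (true, 14), (false, 9), (false, 1), (true, 8), (true, 7), (false, 0)], .base 0 44666 3,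
  .two 4 44666, .cell [(true, 0), (true, 9)], .sum 0 3, .cell [(true, 0), (true, 3)], .sum 0 1, .cell [(true, 0),
  (true, 1)], .sum 0 1, .cell [(true, 0), (true, 1)], .sum 0 1, .cell [(true, 0), (true, 1)], .sum 0 1, .cell
  [(true, 0), (true, 1)], .sum 0 1, .cell [(true, 0), (true, 5)], .sum 0 1, .fin [5293543, 16658724, 9918738,
  330154, 58953, 13884148, 13848541, 1694418, 13932969, 9675014, 15987426, 15160051, 6823150, 6856876, 14864589,
  8025869, 1442471, 14626700, 7192680, 14383474, 8408054, 10079826, 2202296, 14686277]], by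
  decide +kernel⟩

theorem b12 : ∃ b L, Nat.beq (bnd CL DL XL tw b d12.R L) (Nat.succ d12.c) = true := ⟨4, [.self 2, .aff 9 0, .base 0
  109964 1, .two 1 109964, .cell [(true, 2), (true, 0)], .base 0 73748 1, .two 1 73748, .cell [(true, 0), (true,
  6)], .base 0 16524 2, .two 2 16524, .two 5 93269, .cell [(true, 8), (true, 1), (true, 11), (true, 2), (false,
  0)], .base 0 84881 2, .two 2 84881, .two 1 70956, .cell [(true, 0), (true, 4)], .sum 0 2, .cell [(true, 2),
  (true, 4)], .sum 0 2, .cell [(true, 6), (false, 20), (true, 22), (false, 17), (true, 4), (true, 1), (false, 14),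
  (false, 0), (false, 9), (true, 13)], .base 0 39570 1, .cell [(false, 3), (true, 6), (false, 22), (false, 16),
  (false, 10), (true, 5), (false, 0), (false, 19), (true, 24), (false, 15), (true, 2), (false, 9)], .sum 0 1, .two
  1 111915, .cell [(false, 27), (true, 19), (true, 18), (true, 25), (true, 9), (true, 5), (true, 13), (true, 8),
  (true, 22), (true, 14), (false, 6), (false, 3), (false, 1), (false, 0)], .base 0 38796 3, .two 4 38796, .cell
  [(true, 0), (true, 7)], .sum 0 3, .two 2 116515, .cell [(true, 0), (true, 12)], .sum 0 3, .cell [(true, 0),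
  (true, 8)], .sum 0 3, .fin [4940141, 4010367, 15179921, 13981503, 1503987, 15480771, 11342282, 13004173,
  12788489, 10728474, 2043001, 2873001, 13718650, 1454307, 15441276, 14200267, 1994784, 5631921, 3765499, 7787034,
  5885447, 12637212, 4253559, 3975259]], by
  decide +kernel⟩

theorem b20 : ∃ b L, Nat.beq (bnd CL DL XL tw b d20.R L) (Nat.succ d20.c) = true := ⟨6, [.self 2, .self 4, .aff 63
  0, .aff 21 0, .cell [(true, 1), (true, 3), (false, 2), (false, 0)], .base 0 2054 5, .two 16 2054, .two 8 88692,
  .two 4 89511, .two 2 48072, .cell [(true, 8), (true, 7), (false, 5), (true, 4), (false, 6), (false, 13), (false,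
  12), (false, 1), (false, 0), (false, 11)], .sum 0 2, .two 2 62608, .cell [(true, 13), (true, 7), (true, 5),
  (true, 11), (true, 9)], .base 0 48509 1, .cell [(true, 8), (true, 2), (false, 19), (true, 12), (true, 17),
  (false, 14)], .base 0 38338 3, .cell [(true, 18), (true, 16), (true, 14), (false, 17), (false, 15), (true, 4),
  (false, 1), (true, 23), (false, 22), (false, 2), (false, 0), (false, 21)], .sum 0 1, .cell [(true, 13), (true,
  24), (false, 25), (true, 10), (true, 20), (true, 2), (true, 6)], .base 0 126539 4, .two 1 104943, .cell [(true,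
  0), (true, 17)], .sum 0 4, .cell [(true, 0), (true, 4)], .sum 0 2, .cell [(true, 0), (true, 7)], .sum 0 2, .fin
  [13607924, 10307889, 4134438, 8638461, 1078278, 5553643, 5642231, 10903319, 6371909, 6404104, 10392218, 9809297,
  11822931, 14847812, 9769861, 2249050, 8287436, 6824938, 15074463, 16158345, 13885884, 2360283, 5148412,
  7505100]], by
  decide +kernel⟩

theorem b30 : ∃ b L, Nat.beq (bnd CL DL XL tw b d30.R L) (Nat.succ d30.c) = true := ⟨8, [.self 2, .self 8, .aff 129
  0, .cnt 0 8, .cell [(true, 0), (true, 3)], .base 0 75210 6, .two 16 31221, .two 4 26141, .two 2 3422, .two 1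
  7452, .cell [(true, 3), (false, 6), (false, 4), (true, 14), (false, 13), (true, 9), (true, 7), (false, 2),
  (false, 1)], .base 0 31057 6, .cell [(true, 7), (false, 13), (false, 15), (true, 4), (false, 21), (false, 12),
  (false, 0), (true, 5), (true, 2)], .base 0 90540 6, .cell [(true, 0), (true, 13)], .sum 0 4, .cell [(true, 2),
  (true, 11)], .sum 0 2, .fin [7672438, 15990086, 15126243, 5365856, 15213600, 4423276, 3341821, 5335025, 1251134,
  1607466, 13772602, 2723475, 485329, 2551674, 2253588, 3320628, 11882281, 15859018, 10885533, 13032943, 9619869,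
  10018723, 8927640, 15896424]], by
  decide +kernel⟩

theorem b40 : ∃ b L, Nat.beq (bnd CL DL XL tw b d40.R L) (Nat.succ d40.c) = true := ⟨10, [.self 8, .self 16, .aff
  513 0, .aff 33 0, .cnw 1 2, .cell [(true, 0), (true, 4), (false, 1)], .base 0 120459 8, .two 128 120459, .two 1
  15245, .cell [(true, 0), (true, 10)], .sum 0 8, .cell [(true, 0), (true, 8)], .sum 0 4, .cell [(true, 14), (true,
  27)], .sum 0 1, .cell [(true, 28), (true, 27), (true, 12), (true, 11), (false, 25), (true, 5), (true, 0)], .sum 0
  1, .cell [(true, 29), (false, 32), (true, 15), (true, 5), (false, 27), (false, 11), (false, 12), (false, 19),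
  (true, 0)], .sum 0 1, .cell [(true, 0), (true, 3)], .sum 0 1, .fin [12457278, 3361535, 11287332, 12058193,
  3206454, 13614472, 9814589, 11084760, 15364045, 1381606, 109148, 10513093, 7959022, 15546115, 15841615, 12307010,
  3644404, 10150196, 15924628, 1382494, 1495683, 6468870, 14541823, 13002256]], by
  decide +kernel⟩

theorem b49 : ∃ b L, Nat.beq (bnd CL DL XL tw b d49.R L) (Nat.succ d49.c) = true := ⟨10, [.self 2, .self 4, .self
  8, .self 32, .aff 513 0, .aff 273 0, .cell [(true, 0), (true, 4), (false, 3), (true, 5)], .base 0 125002 8, .two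
  1 100076, .cell [(true, 0), (true, 9)], .sum 0 2, .cell [(true, 0), (true, 2)], .sum 0 2, .cell [(true, 0),
  (true, 2)], .sum 0 6, .cell [(true, 13), (true, 24)], .sum 0 1, .cell [(true, 1), (true, 2)], .sum 0 1, .cell
  [(true, 0), (true, 1)], .sum 0 1, .cell [(false, 33), (true, 34), (true, 27), (true, 25), (true, 23), (false,
  10), (true, 13), (true, 24), (false, 21), (true, 16), (false, 14), (true, 32), (false, 7), (false, 2)], .sum 0 1,
  .cell [(true, 34), (false, 6), (true, 27), (true, 24), (false, 9), (true, 22), (false, 15), (false, 18), (true,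
  4), (false, 28), (true, 36), (true, 33), (true, 11), (true, 35)], .sum 0 1, .cell [(true, 0), (true, 3)], .sum 0
  1, .fin [4151865, 10774872, 15937469, 12907258, 14121550, 6059086, 13512308, 3884468, 12158605, 3696846, 297584,
  963985, 9488276, 122893, 7572829, 15034343, 11065546, 5545844, 12949897, 14099648, 13173053, 2425533, 2124355,
  16515129]], by
  decide +kernel⟩

theorem b59 : ∃ b L, Nat.beq (bnd CL DL XL tw b d59.R L) (Nat.succ d59.c) = true := ⟨11, [.self 2, .self 4, .self
  8, .self 128, .aff 1057 0, .cell [(true, 0), (true, 2), (true, 4), (true, 3)], .cnt 0 4, .cell [(true, 0),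
  (false, 4), (true, 6), (true, 3), (false, 5)], .base 0 110539 15, .two 1 76967, .cell [(true, 0), (true, 16)],
  .sum 0 4, .cell [(true, 0), (true, 4)], .sum 0 3, .cell [(true, 0), (true, 3)], .sum 0 1, .cell [(true, 0),
  (true, 1)], .sum 0 1, .fin [3892881, 3232058, 15805755, 4771671, 13097302, 4547934, 13392101, 7054738, 12306824,
  8600585, 4263771, 8439400, 2292620, 15621053, 2685018, 7475830, 14645838, 16265964, 11627694, 7223101, 14263135,
  11759255, 7114865, 11556136]], by
  decide +kernel⟩

theorem b68 : ∃ b L, Nat.beq (bnd CL DL XL tw b d68.R L) (Nat.succ d68.c) = true := ⟨20, [.self 2, .self 4, .self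
  8, .self 16, .self 64, .self 256, .aff 524289 0, .aff 69905 0, .sum 1 1, .cell [(true, 1), (true, 7), (true, 5),
  (false, 4), (false, 8)], .base 0 44593 16, .two 32768 44593, .two 8192 30746, .two 512 26319, .cell [(true, 14),
  (true, 13), (true, 11), (true, 9), (true, 7), (true, 24), (true, 6), (false, 20), (false, 25), (false, 10),
  (false, 18), (true, 27), (false, 16)], .sum 0 3, .cell [(true, 4), (true, 22), (true, 32), (true, 29), (false,
  27), (false, 19), (true, 20), (true, 12), (false, 31), (false, 21), (false, 2)], .sum 0 2, .cell [(true, 9),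
  (true, 8), (true, 21), (true, 35), (true, 12), (true, 33), (false, 24)], .sum 0 2, .fin [9084424, 10636657,
  11641248, 3185928, 11550427, 16271927, 6275112, 10419405, 9262674, 1758180, 14410092, 5930872, 3044889, 6641582,
  5038889, 12986943, 8313581, 7219044, 10489239, 10031435, 14179509, 11701347, 1468815, 4145259]], by
  decide +kernel⟩

theorem b78 : ∃ b L, Nat.beq (bnd CL DL XL tw b d78.R L) (Nat.succ d78.c) = true := ⟨24, [.self 2, .self 4, .self
  8, .self 16, .self 64, .self 128, .aff 8388609 0, .aff 65793 0, .sum 1 1, .cell [(true, 1), (true, 5), (false,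
  7), (false, 8), (true, 6), (false, 3)], .cnt 0 16, .cell [(true, 3), (true, 0), (true, 6), (true, 10), (false,
  9)], .base 0 66443 16, .two 1 2216, .sum 18 1, .cell [(true, 1), (true, 19)], .sum 0 2, .cell [(true, 0), (true,
  2)], .sum 0 3, .cell [(true, 0), (true, 3)], .sum 0 1, .fin [1772300, 799150, 2167137, 7121827, 6903632,
  12778504, 371113, 5906292, 2101851, 10352890, 3755730, 12375312, 15198076, 3932567, 11220387, 1126559, 5438837,
  9519356, 5665204, 11899349, 2541283, 7424347, 12424787, 2260731]], by
  decide +kernel⟩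

theorem b87 : ∃ b L, Nat.beq (bnd CL DL XL tw b d87.R L) (Nat.succ d87.c) = true := ⟨25, [.self 2, .self 4, .self
  16, .self 128, .self 256, .aff 17043521 0, .cell [(true, 0), (true, 5), (true, 4), (true, 2)], .base 0 12257 16,
  .cell [(true, 14), (true, 12), (true, 9), (true, 21), (true, 18), (true, 3), (true, 2), (true, 20), (false, 6),
  (false, 1), (true, 8), (true, 22), (false, 10)], .sum 0 2, .cell [(true, 0), (true, 2)], .sum 0 4, .two 1 110199,
  .cell [(true, 0), (true, 8)], .sum 0 2, .fin [11490679, 6477758, 7871792, 12865596, 3024675, 15664475, 4695988,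
  13097322, 14785698, 3562199, 2638429, 7569820, 3515884, 11136202, 6041078, 8909179, 1006011, 15086516, 8262956,
  12657945, 7387860, 7324328, 12935367, 3160467]], by
  decide +kernel⟩

theorem b95 : ∃ b L, Nat.beq (bnd CL DL XL tw b d95.R L) (Nat.succ d95.c) = true := ⟨10, [.self 2, .self 4, .self
  8, .self 16, .self 64, .self 128, .self 512, .cell [(true, 6), (false, 2), (false, 0), (false, 4), (false, 1),
  (true, 5), (false, 3)], .cnt 0 104, .cell [(true, 0), (true, 8)], .base 0 34059 24, .fin [3646703, 8869313,
  12704488, 14000539, 6988120, 3007922, 7135835, 15444347, 16050903, 4655565, 4530587, 10282671, 13531761, 6824920,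
  7717720, 12983732, 10643883, 13358499, 926270, 7500123, 8431399, 16123151, 8047640, 10593987]], by
  decide +kernel⟩

end Cfsg.Agent.H123.Cls.CoD
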