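import Cfsg.Agent.H123.Cls.LDat
import Cfsg.Agent.H123.Cls.LPl

/-!
# `Co1` : bounds of the centralizers (helper123)
-/

set_option autoImplicit false
set_option maxRecDepth 1000000

namespace Cfsg.Agent.H123.Cls.CoD

open Cfsg.Agent.H123.Cls Cfsg.Agent.MonsterX.LaneLab Cfsg.Agent.H264.TC.NoReal39

theorem b5 : ∃ b L, Nat.beq (bnd CL DL XL tw b d5.R L) (Nat.succ d5.c) = true := ⟨3, [.self 2, .aff 7 0, .base 0
  1903 2, .two 2 1903, .two 1 27415, .cell [(true, 4), (true, 3), (true, 2)], .base 0 1975 2, .two 1 76917, .cell
  [(true, 5), (true, 4), (true, 2), (false, 9), (false, 1), (false, 0)], .base 0 10301 3, .two 1 9107, .cell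
  [(true, 0), (true, 4)], .sum 0 3, .cell [(true, 0), (true, 8)], .sum 0 3, .cell [(true, 0), (true, 3)], .sum 0 1,
  .cell [(true, 16), (true, 13), (true, 12), (true, 11), (false, 24), (true, 7), (false, 17), (false, 22), (false,
  0), (false, 3), (false, 8), (false, 2), (false, 21), (false, 4), (false, 20)], .sum 0 3, .two 4 31093, .cell
  [(true, 0), (true, 10)], .sum 0 3, .cell [(true, 0), (true, 23)], .sum 0 3, .cell [(true, 0), (true, 3)], .sum 0
  1, .fin [1127017, 1932349, 566539, 10327238, 10842515, 5021872, 11915626, 1893890, 11208400, 8996958, 9701875,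
  8736746, 15129856, 12502437, 9011905, 8188528, 243, 11174061, 5722094, 1213092, 668991, 13198157, 8976396,
  9009248]], by
  decide +kernel⟩

theorem b13 : ∃ b L, Nat.beq (bnd CL DL XL tw b d13.R L) (Nat.succ d13.c) = true := ⟨5, [.self 2, .aff 17 0, .aff
  31 0, .base 1 112139 1, .two 1 112139, .cell [(true, 3), (true, 1)], .base 0 48086 1, .two 1 48086, .cell [(true,
  0), (true, 5), (false, 3)], .base 0 127270 4, .two 8 127270, .two 1 128520, .cell [(true, 0), (true, 6)], .sum 0
  4, .cell [(true, 4), (true, 8)], .sum 0 4, .cell [(true, 10), (true, 19)], .sum 0 1, .cell [(true, 26), (true,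
  20), (true, 16), (false, 7), (false, 14), (false, 17), (false, 2), (false, 4), (false, 23), (false, 5), (true,
  0), (false, 10), (false, 8), (false, 22), (false, 12), (false, 13)], .sum 0 1, .cell [(true, 28), (true, 19),
  (true, 18), (true, 12), (false, 10), (false, 5), (true, 4), (true, 2), (false, 17), (false, 22), (true, 0),
  (false, 16), (false, 11), (false, 9)], .base 0 7949 4, .two 1 85800, .cell [(true, 0), (true, 14)], .sum 0 4,
  .fin [10240686, 10089385, 1732270, 1677580, 12935109, 8374741, 787782, 5615739, 14057228, 9463435, 4671422,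
  5426262, 6470606, 516983, 5195448, 1156006, 10248409, 6825437, 12671390, 15837844, 545047, 6790361, 4320414,
  15331218]], by
  decide +kernel⟩

theorem b21 : ∃ b L, Nat.beq (bnd CL DL XL tw b d21.R L) (Nat.succ d21.c) = true := ⟨6, [.self 2, .aff 63 0, .aff
  21 0, .cell [(true, 0), (true, 2)], .base 0 16051 4, .two 8 16051, .two 4 69383, .two 1 85421, .cell [(true, 7),
  (true, 1), (true, 6), (true, 3)], .base 0 75463 2, .cell [(true, 12), (true, 5), (true, 6), (false, 8), (true,
  0), (false, 11)], .base 0 17687 3, .two 2 126103, .two 1 83296, .cell [(true, 0), (true, 5)], .sum 0 1, .cell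
  [(true, 11), (true, 3), (false, 17), (false, 4), (true, 21), (false, 12)], .base 0 16789 1, .cell [(true, 16),
  (false, 19), (false, 0), (false, 18), (true, 10), (false, 17), (false, 8), (false, 7), (true, 23), (false, 2),
  (false, 6), (false, 11), (false, 15)], .sum 0 1, .cell [(true, 17), (true, 6), (true, 12), (true, 19), (true,
  25), (true, 13), (true, 4), (true, 18), (true, 0)], .base 0 6815 4, .two 1 75008, .cell [(true, 0), (true, 7)],
  .sum 0 4, .cell [(true, 0), (true, 4)], .sum 0 2, .cell [(true, 0), (true, 2)], .sum 0 2, .fin [3538524, 9136689,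
  9327804, 16224770, 2435678, 6761139, 3033350, 14578443, 14850569, 16398257, 7987134, 15039643, 420079, 6010897,
  5921191, 349610, 5932163, 192999, 1767786, 9047992, 4995281, 2227811, 2490839, 4738749]], by
  decide +kernel⟩

theorem b31 : ∃ b L, Nat.beq (bnd CL DL XL tw b d31.R L) (Nat.succ d31.c) = true := ⟨8, [.self 2, .self 4, .aff 129
  0, .cnw 0 3, .cell [(true, 0), (false, 3)], .base 0 30859 7, .two 32 72238, .two 4 91525, .two 1 6691, .cell
  [(false, 14), (true, 7), (true, 6), (false, 8), (false, 5), (false, 3), (false, 4), (false, 13), (false, 9),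
  (false, 2), (false, 0), (false, 1)], .sum 0 7, .cell [(true, 0), (true, 7)], .sum 0 5, .cell [(true, 0), (true,
  5)], .sum 0 5, .fin [3104074, 1865996, 10198248, 11197112, 1317286, 10468729, 5604283, 2119230, 7137132, 3409469,
  15748838, 12525699, 12676235, 6519134, 12030959, 6852948, 13085060, 9799498, 12596313, 1461100, 7351967,
  15458411, 16204273, 16252506]], by
  decide +kernel⟩

theorem b41 : ∃ b L, Nat.beq (bnd CL DL XL tw b d41.R L) (Nat.succ d41.c) = true := ⟨11, [.self 4, .self 8, .self
  16, .aff 1025 0, .cnt 0 0, .cnw 1 0, .cell [(true, 1), (false, 0), (false, 4), (false, 3), (true, 5)], .cnt 0 36,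
  .cell [(true, 3), (true, 0), (true, 6), (false, 5)], .base 0 123457 10, .two 1 71720, .cell [(true, 0), (true,
  11)], .sum 0 10, .cell [(true, 11), (true, 23)], .sum 0 1, .cell [(true, 0), (true, 1)], .sum 0 1, .cell [(true,
  1), (true, 4)], .sum 0 1, .cell [(true, 0), (true, 5)], .sum 0 1, .fin [6775421, 5265539, 8588146, 11719895,
  4531768, 13651771, 8677621, 871995, 6439222, 8047984, 13790257, 2884116, 7953352, 3934325, 5897948, 10933790,
  9602168, 16047582, 7224864, 13591980, 9348025, 8783355, 15709437, 11055602]], by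
  decide +kernel⟩

theorem b50 : ∃ b L, Nat.beq (bnd CL DL XL tw b d50.R L) (Nat.succ d50.c) = true := ⟨12, [.self 2, .self 4, .self
  8, .self 16, .aff 2049 0, .cnw 0 1, .cell [(true, 0), (true, 5), (true, 4)], .base 0 89716 9, .two 32 28802, .two
  4 116676, .two 1 76084, .cell [(true, 17), (false, 18), (true, 11), (true, 5), (true, 7), (false, 8), (false, 9),
  (false, 10), (false, 4), (false, 3), (true, 15), (false, 6), (false, 13)], .sum 0 2, .cell [(true, 14), (true,
  13), (true, 12), (true, 7), (false, 8), (false, 6), (true, 10), (true, 19), (false, 20), (true, 21), (false, 11),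
  (false, 1), (false, 0), (false, 5), (false, 4), (false, 3)], .sum 0 6, .cell [(false, 25), (true, 4), (true, 2),
  (true, 0), (false, 7), (true, 21), (false, 18), (true, 14), (true, 13), (true, 20), (false, 27), (true, 16),
  (false, 17)], .sum 0 7, .fin [10762556, 13998206, 11319293, 13839892, 13524870, 8384905, 10168084, 8238042,
  3055318, 1465847, 10569803, 5574838, 2717334, 4892234, 11150282, 12495244, 997295, 15917411, 238483, 8602265,
  9806029, 9127694, 7456589, 2350487]], by
  decide +kernel⟩

theorem b60 : ∃ b L, Nat.beq (bnd CL DL XL tw b d60.R L) (Nat.succ d60.c) = true := ⟨13, [.self 2, .self 4, .aff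
  4681 0, .cell [(true, 0), (false, 2), (false, 1)], .base 0 12324 8, .two 128 12324, .two 4 107154, .cell [(true,
  1), (true, 0), (false, 8), (false, 5), (true, 12), (true, 2), (false, 3)], .base 0 126645 10, .two 32 78280,
  .cell [(true, 0), (true, 11)], .sum 0 2, .cell [(true, 0), (true, 14)], .sum 0 2, .cell [(true, 0), (true, 17)],
  .sum 0 2, .fin [9880346, 15399993, 10441648, 12710834, 9435668, 16204190, 13783197, 13890525, 12235820, 8580555,
  28995, 1478627, 626542, 11236914, 6672153, 2493791, 5751232, 6715568, 2753326, 9186621, 5583076, 15550406,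
  7189999, 14938416]], by
  decide +kernel⟩

theorem b69 : ∃ b L, Nat.beq (bnd CL DL XL tw b d69.R L) (Nat.succ d69.c) = true := ⟨20, [.self 2, .self 4, .self
  8, .self 16, .self 32, .self 64, .self 256, .aff 524289 0, .aff 69905 0, .sum 1 1, .cell [(true, 6), (true, 3),
  (false, 0), (false, 1), (false, 9), (false, 7), (false, 8), (false, 5)], .base 0 48197 16, .cell [(true, 23),
  (true, 20), (false, 21), (true, 13), (true, 11), (false, 1), (false, 12), (true, 2), (false, 22), (true, 17),
  (true, 25), (false, 14)], .sum 0 4, .cell [(true, 0), (true, 4)], .sum 0 1, .cell [(true, 4), (true, 6)], .sum 0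
  2, .fin [15281477, 5993957, 3824034, 15085840, 4645807, 11264082, 9770876, 4292776, 2113284, 10920668, 12004176,
  11468885, 9498467, 1043053, 2629791, 9532495, 15292957, 169097, 4630353, 15530918, 13191201, 1030860, 15930530,
  12600448]], by
  decide +kernel⟩

theorem b79 : ∃ b L, Nat.beq (bnd CL DL XL tw b d79.R L) (Nat.succ d79.c) = true := ⟨24, [.self 2, .self 4, .self
  8, .self 32, .self 128, .self 256, .aff 8388609 0, .aff 1118481 0, .aff 65793 0, .sum 2 1, .cell [(true, 1),
  (true, 9), (true, 6), (true, 8)], .base 0 15877 10, .two 8 73892, .cell [(true, 9), (true, 21), (false, 17),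
  (false, 12), (true, 2), (false, 10), (false, 8), (false, 5), (false, 4), (false, 20), (true, 19), (false, 14),
  (false, 0)], .sum 0 2, .cell [(true, 10), (true, 24), (true, 5), (false, 13), (false, 22), (true, 8), (false,
  11), (false, 9), (false, 23), (true, 20), (false, 19), (true, 0), (false, 21), (false, 1)], .sum 0 5, .cell
  [(true, 0), (true, 8)], .sum 0 5, .cell [(true, 1), (true, 11)], .sum 0 1, .fin [9581452, 2650216, 41237,
  15689792, 6612867, 14697580, 4085125, 1921405, 11817257, 9220189, 10688427, 12610291, 12399887, 14708777,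
  8686913, 13558729, 13253753, 13261371, 8197421, 4089992, 1941162, 8356929, 11445967, 4309351]], by
  decide +kernel⟩

theorem b88 : ∃ b L, Nat.beq (bnd CL DL XL tw b d88.R L) (Nat.succ d88.c) = true := ⟨30, [.self 2, .self 4, .self
  16, .self 32, .self 128, .self 256, .self 512, .aff 536870913 0, .aff 1048577 0, .sum 1 1, .two 1 95376, .cell
  [(true, 0), (false, 5), (true, 4), (true, 8), (false, 7), (false, 6)], .base 0 29170 15, .two 1024 130433, .two 1
  84816, .cell [(true, 1), (true, 0), (false, 9), (true, 7), (false, 27), (true, 22), (false, 25), (true, 28),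
  (false, 20)], .sum 0 6, .cell [(true, 34), (false, 30), (true, 31), (true, 32), (true, 22), (true, 12), (true,
  5), (true, 4), (false, 26), (true, 17), (false, 1), (true, 21)], .sum 0 2, .fin [4084735, 15813939, 14159425,
  3501543, 11573422, 10264766, 13752464, 2694383, 12678364, 14853209, 4342744, 11794422, 14695664, 14218354,
  3500320, 11077747, 8652944, 2875337, 7554826, 12618013, 2936541, 13442896, 14877180, 446705]], by
  decide +kernel⟩

theorem b96 : ∃ b L, Nat.beq (bnd CL DL XL tw b d96.R L) (Nat.succ d96.c) = true := ⟨10, [.self 2, .self 4, .self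
  8, .self 16, .self 32, .self 128, .self 512, .cell [(false, 2), (true, 1), (false, 3), (true, 0), (true, 5),
  (true, 4), (false, 6)], .base 0 15991 24, .fin [1000366, 5737344, 11050842, 13868766, 15678693, 11767307,
  14207235, 9056682, 6952585, 13124919, 11926166, 6852100, 6106905, 2511965, 5353786, 13700177, 16402138, 7337449,
  7134960, 7260147, 7394440, 8759869, 11665983, 5513882]], by
  decide +kernel⟩

end Cfsg.Agent.H123.Cls.CoD
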