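import Cfsg.Agent.H123.Cls.LDat
import Cfsg.Agent.H123.Cls.LPl

/-!
# `Co1` : bounds of the centralizers (helper123)
-/

set_option autoImplicit false
set_option maxRecDepth 1000000

namespace Cfsg.Agent.H123.Cls.CoD

open Cfsg.Agent.H123.Cls Cfsg.Agent.MonsterX.LaneLab Cfsg.Agent.H264.TC.NoReal39

theorem b6 : ∃ b L, Nat.beq (bnd CL DL XL tw b d6.R L) (Nat.succ d6.c) = true := ⟨3, [.self 2, .aff 5 0, .aff 7 0,
  .cell [(false, 2), (false, 0), (false, 1)], .base 0 25456 3, .two 4 25456, .two 1 46337, .cell [(true, 7), (true,
  1)], .base 0 46220 1, .cell [(true, 9), (true, 6), (true, 0)], .base 0 6921 1, .two 1 6921, .cell [(true, 12),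
  (false, 9), (true, 1), (true, 3)], .base 0 71971 1, .cell [(true, 7), (true, 12), (false, 3), (true, 0), (false,
  11), (false, 10), (false, 2), (true, 5)], .sum 0 2, .cell [(true, 10), (true, 5), (false, 8), (true, 15), (true,
  3), (false, 14)], .base 0 123276 2, .two 1 87940, .cell [(true, 0), (true, 6)], .sum 0 2, .cell [(true, 18),
  (true, 12), (false, 5), (false, 8), (false, 7), (true, 20), (false, 25), (false, 19)], .base 0 126571 2, .cell
  [(true, 0), (true, 12)], .sum 0 3, .cell [(true, 0), (true, 3)], .sum 0 2, .cell [(true, 0), (true, 2)], .sum 0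
  3, .cell [(true, 0), (true, 3)], .sum 0 2, .fin [11629211, 5404781, 2988256, 8710631, 5801165, 5886498, 15741118,
  15816436, 7321701, 12727958, 8101765, 10719484, 11384302, 5546651, 11591829, 3471237, 16733625, 3316052,
  15002117, 10642616, 12799038, 10668507, 11274645, 10789531]], by
  decide +kernel⟩

theorem b14 : ∃ b L, Nat.beq (bnd CL DL XL tw b d14.R L) (Nat.succ d14.c) = true := ⟨5, [.self 2, .self 4, .aff 31
  0, .cell [(true, 0), (true, 2)], .base 0 33843 4, .two 8 33843, .two 4 124256, .cell [(true, 7), (true, 0),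
  (false, 9), (false, 5), (true, 3), (true, 2)], .base 0 4970 4, .two 1 40998, .cell [(true, 7), (true, 0), (false,
  14), (true, 10), (true, 3), (true, 8)], .base 0 46038 5, .two 16 46038, .two 1 9424, .cell [(true, 3), (true,
  7)], .sum 0 1, .cell [(true, 19), (true, 14), (false, 25), (false, 6), (true, 0), (true, 8), (false, 7), (false,
  20), (false, 21), (false, 13), (false, 18), (false, 24), (true, 11), (false, 4), (false, 2)], .sum 0 1, .cell
  [(true, 22), (true, 21), (true, 20), (true, 16), (false, 27), (true, 6), (true, 7), (true, 13), (false, 2),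
  (true, 9), (true, 14), (false, 23), (true, 15), (false, 19), (false, 25), (false, 5), (false, 0)], .sum 0 1,
  .cell [(true, 25), (true, 23), (true, 18), (true, 4), (false, 0), (false, 17), (true, 8), (false, 24), (true,
  28), (false, 22), (false, 29), (false, 16), (false, 11)], .base 0 128268 5, .cell [(true, 0), (true, 7)], .sum 0
  1, .cell [(true, 2), (true, 13)], .sum 0 1, .cell [(true, 0), (true, 13)], .sum 0 1, .fin [11522989, 4862414,
  13811367, 13689711, 1375450, 1439010, 9151222, 10834486, 993752, 9648737, 12791804, 13298446, 5020824, 9006503,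
  7715748, 11196390, 14581280, 8421866, 4040133, 13050185, 16540664, 4006618, 3897532, 2395727]], by
  decide +kernel⟩

theorem b22 : ∃ b L, Nat.beq (bnd CL DL XL tw b d22.R L) (Nat.succ d22.c) = true := ⟨5, [.self 2, .self 4, .aff 21
  0, .cell [(false, 1), (true, 2), (false, 0)], .base 0 97521 5, .two 16 97521, .two 8 126477, .two 2 123271, .cell
  [(false, 11), (true, 5), (true, 3), (false, 6), (false, 4), (false, 7), (true, 10), (false, 1), (false, 0),
  (false, 2)], .sum 0 3, .cell [(true, 5), (true, 4), (true, 12), (true, 0), (false, 11)], .base 0 108161 1, .cell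
  [(false, 17), (true, 13), (false, 3), (true, 12), (false, 10), (true, 0), (true, 9), (true, 11), (false, 4),
  (false, 2), (false, 6), (true, 16)], .sum 0 1, .cell [(true, 0), (true, 7)], .sum 0 2, .cell [(false, 21),
  (false, 22), (true, 18), (true, 16), (true, 14), (false, 17), (true, 9), (true, 8), (true, 15), (false, 7),
  (true, 5), (false, 0)], .base 0 99280 5, .two 1 17604, .cell [(true, 0), (true, 9)], .sum 0 4, .cell [(true, 0),
  (true, 4)], .sum 0 2, .cell [(true, 0), (true, 7)], .sum 0 1, .fin [6884786, 8782270, 2045053, 163660, 10804076,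
  5039764, 15777906, 9477342, 14807542, 757546, 4928375, 12858027, 14684310, 15351404, 7525145, 5025265, 10306823,
  8401886, 174453, 9083810, 10945565, 11324543, 8603910, 5832300]], by
  decide +kernel⟩

theorem b32 : ∃ b L, Nat.beq (bnd CL DL XL tw b d32.R L) (Nat.succ d32.c) = true := ⟨7, [.self 2, .self 4, .self 8,
  .aff 65 0, .cell [(true, 0), (false, 3)], .base 0 70359 2, .two 2 70359, .cell [(true, 4), (true, 0), (true, 7)],
  .base 0 8671 3, .two 2 88418, .two 1 70278, .cell [(true, 1), (true, 12), (false, 2), (false, 11), (true, 4),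
  (false, 13)], .sum 0 1, .cell [(true, 3), (true, 2), (true, 9), (true, 0), (false, 14)], .base 0 102929 6, .two 1
  11059, .cell [(true, 0), (true, 7)], .sum 0 6, .cell [(true, 0), (true, 16)], .sum 0 6, .fin [3091088, 6157495,
  16763152, 6554190, 11813138, 6561801, 1400544, 13764608, 9175575, 5654382, 15356608, 97000, 6062603, 9715986,
  940882, 7252465, 4439553, 12272173, 12903695, 5117118, 4973795, 2358657, 15081735, 13634380]], by
  decide +kernel⟩

theorem b42 : ∃ b L, Nat.beq (bnd CL DL XL tw b d42.R L) (Nat.succ d42.c) = true := ⟨7, [.self 2, .self 4, .self 8,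
  .aff 65 0, .cell [(true, 0), (true, 3)], .base 0 87891 4, .two 8 87891, .two 2 40730, .two 1 112749, .cell
  [(true, 11), (true, 5), (true, 4), (false, 6), (true, 9), (false, 3), (true, 10), (false, 2), (false, 0)], .sum 0
  2, .cell [(true, 8), (true, 12), (false, 14), (true, 6), (false, 9), (false, 7), (true, 1), (true, 0), (true,
  13), (false, 5), (false, 4)], .sum 0 2, .two 1 79121, .cell [(true, 8), (true, 7), (true, 13), (true, 12), (true,
  2), (true, 5)], .base 0 42724 4, .cell [(true, 5), (true, 17), (true, 10), (false, 15), (true, 23), (false, 2),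
  (false, 18), (false, 21), (true, 1)], .base 0 44699 8, .cell [(true, 0), (true, 17)], .sum 0 4, .fin [1003687,
  16186683, 9944015, 299955, 4706789, 4399810, 13536252, 3736571, 7836361, 15716384, 1892834, 1863752, 13816649,
  11450215, 6835949, 4034106, 1084601, 9929326, 3724691, 12134709, 11531682, 12250472, 10092229, 15019536]], by
  decide +kernel⟩

theorem b51 : ∃ b L, Nat.beq (bnd CL DL XL tw b d51.R L) (Nat.succ d51.c) = true := ⟨7, [.self 2, .self 4, .self 8,
  .aff 65 0, .cell [(true, 0), (true, 3)], .base 0 25312 4, .two 8 25312, .two 4 112867, .two 2 20332, .cell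
  [(true, 3), (true, 11), (false, 5), (false, 6), (false, 4), (true, 10), (false, 9), (false, 1), (false, 2),
  (false, 0)], .sum 0 4, .cell [(true, 7), (true, 6), (false, 9), (false, 5), (false, 16), (false, 8), (true, 15)],
  .base 0 98915 4, .cell [(true, 12), (true, 11), (true, 3), (true, 8), (false, 7), (false, 21), (false, 19),
  (false, 1)], .base 0 607 6, .two 1 112146, .cell [(true, 0), (true, 7)], .sum 0 6, .fin [9503778, 7300096,
  11925682, 16008226, 12279137, 10461014, 3398600, 4638898, 6862445, 12122103, 6269656, 7627810, 15419319, 5424062,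
  10119684, 7793380, 209480, 602413, 10724289, 16103023, 2655555, 8276660, 4891668, 9568312]], by
  decide +kernel⟩

theorem b61 : ∃ b L, Nat.beq (bnd CL DL XL tw b d61.R L) (Nat.succ d61.c) = true := ⟨15, [.self 2, .self 8, .self
  16, .self 32, .aff 16385 0, .aff 4097 0, .sum 1 1, .cell [(true, 1), (true, 6)], .base 0 108325 2, .two 2 108325,
  .two 1 119925, .cell [(true, 1), (false, 8), (true, 5), (true, 11), (false, 10), (false, 9), (false, 2)], .cnt 0
  10, .cell [(true, 0), (true, 8)], .sum 0 1, .cell [(true, 2), (true, 5), (false, 15), (false, 12)], .base 0 5200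
  12, .two 2 22177, .cell [(true, 18), (true, 0), (false, 5), (true, 29), (true, 23), (true, 10), (false, 1)],
  .base 0 40758 8, .fin [15473224, 10554403, 4377412, 12323840, 11911255, 9007584, 12036206, 2222977, 5944799,
  3700304, 10299737, 13197211, 4283392, 570999, 5836999, 14471185, 11354820, 6814882, 15817563, 3591372, 11207467,
  6649787, 16276855, 9621351]], by
  decide +kernel⟩

theorem b71 : ∃ b L, Nat.beq (bnd CL DL XL tw b d71.R L) (Nat.succ d71.c) = true := ⟨15, [.self 2, .self 4, .self
  32, .aff 16513 0, .cell [(true, 0), (true, 3), (true, 1), (false, 2)], .base 0 92275 12, .two 4 7863, .two 2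
  10699, .cell [(true, 1), (true, 0), (true, 13), (true, 10), (true, 12), (false, 5), (false, 18)], .base 0 92615
  6, .two 16 78417, .cell [(true, 0), (true, 7)], .sum 0 6, .fin [6514858, 4871019, 3998293, 3143605, 10467374,
  7269742, 12977610, 15936117, 14535311, 5716613, 5674709, 4918720, 14599006, 5060156, 4926472, 12092647, 13958020,
  2131994, 5139894, 7642491, 6318847, 15905430, 9293394, 16559958]], by
  decide +kernel⟩

theorem b81 : ∃ b L, Nat.beq (bnd CL DL XL tw b d81.R L) (Nat.succ d81.c) = true := ⟨22, [.self 2, .self 4, .self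
  8, .self 16, .self 32, .self 64, .aff 2097153 0, .aff 4097 0, .base 1 114688 2, .two 2 114688, .two 1 74423,
  .cell [(true, 1), (false, 2), (false, 7), (false, 9), (true, 11), (false, 0)], .cnt 0 24, .cell [(true, 0),
  (false, 10), (false, 8), (true, 4), (true, 9), (true, 13), (false, 5), (false, 3)], .cnt 0 8, .cell [(true, 2),
  (false, 0), (false, 15), (false, 13), (false, 10), (true, 11), (true, 7), (true, 6)], .cnt 0 8, .cell [(true, 0),
  (true, 4)], .sum 0 2, .cell [(true, 13), (true, 10), (false, 5), (true, 9), (false, 14), (false, 7)], .base 0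
  76608 4, .two 1 70313, .cell [(true, 0), (true, 13), (false, 2), (false, 9), (false, 21), (true, 25)], .base 0
  35230 8, .two 2 37742, .cell [(true, 0), (false, 21), (true, 19), (true, 14), (true, 35), (false, 31), (true,
  32), (true, 36)], .base 0 122115 8, .fin [14899067, 16034808, 5694682, 5791109, 1956897, 3668406, 7753723,
  1118860, 16021831, 13445403, 5874759, 1460070, 4373100, 11199548, 4211004, 12741035, 5239563, 14473457, 15036363,
  916980, 3485848, 6001971, 13054264, 1452733]], by
  decide +kernel⟩

theorem b89 : ∃ b L, Nat.beq (bnd CL DL XL tw b d89.R L) (Nat.succ d89.c) = true := ⟨8, [.self 2, .self 4, .self 8,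
  .self 16, .self 32, .self 128, .cell [(false, 1), (true, 3), (false, 5), (false, 2), (false, 0), (true, 4)], .cnt
  0 108, .cell [(true, 0), (false, 3), (true, 6), (true, 4), (true, 2)], .base 0 1459 16, .two 1 103492, .cell
  [(true, 0), (true, 17)], .sum 0 8, .fin [3589987, 6887270, 10729624, 875271, 11829747, 8575300, 8387594, 9822261,
  5352702, 15247185, 1361414, 2150459, 4701379, 14669820, 1650763, 2941036, 14783420, 9130369, 2415009, 686285,
  10180145, 2833075, 553959, 12843644]], by
  decide +kernel⟩

theorem b97 : ∃ b L, Nat.beq (bnd CL DL XL tw b d97.R L) (Nat.succ d97.c) = true := ⟨5, [.self 2, .self 4, .self 8,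
  .aff 17 0, .cell [(true, 0), (true, 3)], .base 0 128552 2, .two 2 128552, .two 1 98958, .cell [(true, 0), (true,
  4)], .sum 0 2, .two 1 44223, .cell [(true, 0), (true, 3)], .sum 0 1, .cell [(true, 9), (true, 0), (true, 4),
  (false, 14), (false, 8), (true, 12), (false, 13), (false, 6), (false, 2)], .sum 0 1, .cell [(true, 13), (true,
  8), (true, 5), (true, 2), (false, 16), (true, 0)], .base 0 94928 2, .two 2 94928, .two 1 4462, .cell [(true, 14),
  (true, 1), (true, 11), (true, 2), (true, 21), (false, 19)], .base 0 84240 4, .cell [(true, 25), (false, 26),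
  (true, 24), (true, 2), (false, 16), (false, 21), (true, 8), (true, 1), (true, 20), (true, 0), (false, 5), (false,
  3)], .base 0 19429 6, .two 1 6970, .cell [(true, 0), (true, 19)], .sum 0 4, .cell [(true, 2), (true, 4)], .sum 0
  2, .fin [9315176, 11805534, 14140830, 5841470, 4733221, 12900093, 5799270, 11995744, 1530354, 15007145, 12031736,
  6453600, 15846327, 16200591, 1797092, 2192602, 11162865, 6184671, 15845168, 12170625, 1401865, 3605602, 3112437,
  14033289]], by
  decide +kernel⟩

end Cfsg.Agent.H123.Cls.CoD
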