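import Cfsg.Agent.H123.Cls.LDat
import Cfsg.Agent.H123.Cls.LPl

/-!
# `Co1` : bounds of the centralizers (helper123)
-/

set_option autoImplicit false
set_option maxRecDepth 1000000

namespace Cfsg.Agent.H123.Cls.CoD

open Cfsg.Agent.H123.Cls Cfsg.Agent.MonsterX.LaneLab Cfsg.Agent.H264.TC.NoReal39

theorem b7 : ∃ b L, Nat.beq (bnd CL DL XL tw b d7.R L) (Nat.succ d7.c) = true := ⟨4, [.self 2, .aff 9 0, .aff 5 0,
  .aff 15 0, .cell [(false, 3), (false, 0)], .base 0 118656 4, .two 8 118656, .two 4 108359, .two 1 79943, .cell
  [(true, 9), (false, 6), (false, 5), (false, 2), (false, 1), (false, 10)], .sum 0 1, .cell [(true, 11), (true, 4),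
  (true, 3)], .base 0 109930 1, .two 1 109930, .cell [(true, 6), (false, 1), (false, 11), (false, 3), (false, 9),
  (true, 8), (false, 16), (false, 7), (false, 0)], .base 0 46215 4, .two 1 47187, .cell [(true, 17), (true, 3),
  (false, 7), (true, 18), (false, 1), (true, 15), (false, 16), (false, 14), (false, 4), (true, 9), (false, 0)],
  .sum 0 2, .cell [(true, 14), (true, 22), (false, 10), (false, 6), (true, 20), (true, 12), (true, 0), (false, 25),
  (false, 23)], .base 0 32120 3, .two 2 118469, .cell [(true, 0), (true, 7)], .sum 0 3, .cell [(true, 0), (true,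
  3)], .sum 0 3, .cell [(true, 1), (true, 12)], .sum 0 3, .fin [4901968, 15479835, 10225664, 8602199, 3265682,
  2248626, 6152050, 13566248, 7613485, 15297328, 12457392, 15284829, 608980, 355143, 3892760, 7638397, 4193473,
  13245829, 5752383, 10188375, 8035463, 8614241, 5348417, 4601014]], by
  decide +kernel⟩

theorem b15 : ∃ b L, Nat.beq (bnd CL DL XL tw b d15.R L) (Nat.succ d15.c) = true := ⟨2, [.self 2, .base 0 26492 4,
  .two 8 26492, .two 4 8229, .two 1 29274, .cell [(true, 2), (true, 1), (true, 4), (true, 7), (false, 3)], .cnt 0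
  9, .cell [(true, 3), (true, 2), (true, 0), (false, 9)], .base 0 110415 4, .two 1 20491, .cell [(true, 0), (true,
  5)], .sum 0 4, .cell [(true, 0), (true, 4)], .sum 0 4, .cell [(true, 24), (true, 23), (true, 13), (true, 12),
  (false, 11), (false, 14), (false, 7), (false, 1), (false, 22), (false, 6), (false, 21), (false, 5), (false, 3),
  (true, 8), (false, 2)], .cnt 0 0, .cell [(true, 0), (true, 25), (true, 24), (true, 15), (false, 23), (true, 10),
  (false, 5), (true, 8), (false, 9), (false, 26), (false, 3), (false, 13), (true, 27)], .base 0 122212 4, .two 1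
  26537, .cell [(true, 0), (true, 24)], .sum 0 4, .fin [7078934, 9087894, 7226580, 519044, 9610336, 13709099,
  2250637, 5538303, 14309252, 10508112, 14477984, 5631792, 11597423, 13955283, 4232262, 10978653, 14259624,
  5079429, 2322264, 16041677, 2244864, 12622257, 15773743, 1444937]], by
  decide +kernel⟩

theorem b23 : ∃ b L, Nat.beq (bnd CL DL XL tw b d23.R L) (Nat.succ d23.c) = true := ⟨4, [.self 2, .aff 9 0, .base 1
  23816 4, .two 8 23816, .two 4 1300, .two 2 85989, .cell [(true, 2), (true, 1), (false, 8), (false, 7)], .base 0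
  112590 4, .two 8 112590, .two 1 41231, .cell [(true, 9), (true, 0), (false, 15), (true, 12), (false, 1), (true,
  3)], .base 0 83378 4, .two 1 72180, .cell [(true, 0), (false, 18), (false, 11), (true, 8), (false, 3), (false,
  19), (false, 17), (false, 10), (true, 16), (true, 9)], .base 0 107144 4, .cell [(true, 0), (true, 17)], .sum 0 2,
  .cell [(true, 5), (true, 7)], .sum 0 2, .cell [(true, 31), (true, 22), (true, 0), (false, 30), (false, 29),
  (false, 9), (true, 21), (false, 15), (false, 4), (true, 1), (false, 14), (false, 3)], .sum 0 2, .cell [(true,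
  27), (false, 33), (true, 12), (true, 11), (false, 10), (false, 3), (true, 15), (true, 16), (true, 23), (true,
  35), (true, 32)], .sum 0 2, .fin [11676736, 3635053, 10698093, 5390976, 6182001, 12589923, 10767643, 2367504,
  10954546, 15840826, 7329928, 14515681, 924334, 1949763, 12347219, 9815391, 14887697, 6296972, 4787077, 6710904,
  9747391, 1579958, 3747200, 5156508]], by
  decide +kernel⟩

theorem b34 : ∃ b L, Nat.beq (bnd CL DL XL tw b d34.R L) (Nat.succ d34.c) = true := ⟨7, [.self 2, .self 4, .self 8,
  .self 16, .aff 65 0, .cell [(true, 0), (true, 4)], .base 0 89664 3, .two 1 8183, .cell [(true, 0), (true, 7),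
  (false, 3), (true, 9), (true, 8), (true, 6)], .sum 0 1, .cell [(true, 6), (true, 2), (true, 5), (true, 4)], .base
  0 67279 1, .two 1 67279, .cell [(true, 0), (true, 4)], .sum 0 1, .cell [(true, 7), (true, 2), (true, 10), (true,
  9), (false, 16), (true, 5), (true, 15)], .base 0 67180 6, .two 2 78698, .two 1 18077, .cell [(true, 0), (true,
  8)], .sum 0 6, .cell [(true, 8), (false, 26), (false, 31), (true, 12), (false, 25), (false, 0), (false, 24),
  (true, 9), (false, 3), (true, 11)], .sum 0 6, .fin [624148, 16150853, 2997219, 12751792, 1409909, 14869879,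
  2390695, 9674510, 8621575, 13055072, 14777591, 6864119, 13701062, 14499490, 7488166, 9035440, 3463429, 8301404,
  6340429, 197440, 12963037, 14650715, 10057549, 3128962]], by
  decide +kernel⟩

theorem b43 : ∃ b L, Nat.beq (bnd CL DL XL tw b d43.R L) (Nat.succ d43.c) = true := ⟨10, [.self 2, .self 4, .self
  8, .self 16, .aff 585 0, .aff 273 0, .cell [(true, 0), (true, 5)], .base 0 11795 6, .two 32 11795, .two 4 45182,
  .two 2 112459, .cell [(true, 2), (true, 1), (true, 11), (false, 13), (false, 6), (false, 4)], .base 0 81331 7,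
  .two 16 17580, .two 2 81132, .cell [(true, 0), (true, 9)], .sum 0 3, .cell [(true, 5), (true, 26), (false, 28),
  (false, 21), (false, 6), (true, 29), (true, 9), (false, 0), (false, 22)], .base 0 103436 5, .cell [(true, 20),
  (true, 32), (false, 34), (true, 35), (true, 27), (true, 16), (false, 33), (false, 12), (true, 3)], .sum 0 3, .fin
  [11917323, 14671649, 16152226, 12663149, 12416761, 12166186, 1433454, 13947125, 7219009, 5033550, 16007669,
  15883110, 8988302, 15230608, 9481465, 9686505, 6105545, 14133758, 13495374, 3536573, 4476155, 1711374, 817658,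
  5978748]], by
  decide +kernel⟩

theorem b52 : ∃ b L, Nat.beq (bnd CL DL XL tw b d52.R L) (Nat.succ d52.c) = true := ⟨11, [.self 2, .self 4, .self
  8, .self 16, .self 32, .aff 513 0, .aff 1365 0, .cell [(true, 0), (true, 3), (false, 4), (false, 5), (true, 6)],
  .base 0 85673 10, .two 1 91013, .cell [(true, 0), (true, 13)], .sum 0 1, .cell [(true, 1), (true, 4)], .sum 0 2,
  .cell [(true, 15), (true, 3), (false, 13), (false, 9), (true, 22), (false, 20), (false, 1), (true, 23), (false,
  10), (false, 14), (false, 0), (false, 21), (false, 12)], .sum 0 2, .cell [(true, 0), (true, 2)], .sum 0 1, .two 1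
  1789, .cell [(true, 27), (true, 29), (true, 20), (true, 17), (false, 3), (true, 18), (false, 14), (true, 25),
  (false, 26), (false, 6), (false, 4), (false, 9), (true, 16), (false, 1), (false, 0)], .sum 0 4, .cell [(true, 0),
  (true, 15)], .sum 0 2, .cell [(true, 0), (true, 10)], .sum 0 1, .cell [(true, 2), (true, 15)], .sum 0 1, .fin
  [8661226, 11306161, 8461198, 4900552, 5615638, 8328745, 14520460, 1334347, 3403597, 10863221, 14876245, 4528414,
  1928753, 4932958, 4032123, 12262724, 10865850, 6567925, 13060035, 5648691, 7566172, 4002196, 3787153, 7950131]],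
  by
  decide +kernel⟩

theorem b63 : ∃ b L, Nat.beq (bnd CL DL XL tw b d63.R L) (Nat.succ d63.c) = true := ⟨16, [.self 2, .self 4, .self
  8, .self 32, .aff 32769 0, .aff 16385 0, .aff 4097 0, .sum 2 1, .aff 16385 1, .cnw 4 0, .cell [(true, 1), (true,
  0)], .base 0 128846 2, .two 2 128846, .cell [(true, 8), (false, 9)], .base 0 76690 1, .two 1 76690, .cell
  [(false, 7), (false, 16), (false, 15), (true, 14), (false, 13), (false, 5), (false, 4), (false, 1)], .cnt 0 16,
  .cell [(true, 0), (true, 17), (true, 9), (true, 18), (true, 16)], .cnt 0 8, .cell [(true, 2), (true, 0), (false,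
  14), (false, 4), (true, 7)], .base 0 93294 3, .two 2 76756, .two 1 25133, .cell [(true, 0), (false, 17), (false,
  26), (false, 25), (true, 15), (true, 24), (false, 23)], .cnt 0 4, .cell [(true, 20), (false, 10), (true, 3),
  (true, 0)], .sum 0 1, .cell [(true, 14), (true, 2), (false, 6), (true, 19), (false, 29), (false, 30), (false,
  5)], .base 0 73618 8, .two 1 4553, .cell [(true, 0), (true, 13)], .sum 0 8, .fin [12720958, 13268252, 1728480,
  7614193, 12776742, 14379346, 5614306, 10519657, 15382238, 3885053, 3910113, 14783970, 2108658, 12121637, 8955959,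
  14345602, 10380530, 8688351, 11215532, 2129800, 6696438, 8462054, 259247, 5632035]], by
  decide +kernel⟩

theorem b72 : ∃ b L, Nat.beq (bnd CL DL XL tw b d72.R L) (Nat.succ d72.c) = true := ⟨19, [.self 2, .self 4, .self
  8, .self 16, .self 32, .self 64, .self 128, .self 256, .self 512, .aff 262145 0, .aff 299593 0, .aff 16513 0,
  .cell [(false, 9), (false, 6), (false, 5), (false, 10), (false, 11), (false, 8), (false, 7), (false, 3), (false,
  4), (false, 1), (false, 0), (false, 2)], .sum 0 1, .cell [(true, 3), (false, 13), (true, 6), (false, 12), (false,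
  7), (true, 8)], .base 0 130692 18, .cell [(true, 32), (true, 31), (true, 19), (true, 29), (false, 26), (true,
  17), (true, 9), (false, 30), (true, 4), (true, 16), (true, 3), (true, 28)], .sum 0 3, .cell [(true, 0), (true,
  3)], .sum 0 2, .fin [7399715, 16694657, 5841350, 1911141, 14006293, 14768788, 7220534, 9035614, 9844612, 4959936,
  1892352, 2690323, 13482590, 9814412, 8410509, 10162503, 6067365, 5471062, 6602040, 1737431, 12314254, 13640663,
  4491948, 10840876]], by
  decide +kernel⟩

theorem b82 : ∃ b L, Nat.beq (bnd CL DL XL tw b d82.R L) (Nat.succ d82.c) = true := ⟨10, [.self 2, .self 4, .self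
  8, .self 16, .self 32, .self 128, .self 256, .self 512, .cell [(true, 7), (true, 6), (true, 4), (false, 3),
  (false, 1), (true, 5), (false, 2), (false, 0)], .cnt 0 32, .cell [(true, 0), (true, 9)], .base 0 93794 24, .fin
  [3802020, 9669714, 7526184, 2522422, 3601100, 15817925, 5365460, 10845726, 8992817, 13224476, 9038215, 11826516,
  3471273, 1856957, 5276684, 16620689, 13715948, 12498731, 5601797, 470364, 12179148, 1084434, 15159925,
  10347998]], by
  decide +kernel⟩

theorem b90 : ∃ b L, Nat.beq (bnd CL DL XL tw b d90.R L) (Nat.succ d90.c) = true := ⟨31, [.self 2, .self 4, .self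
  8, .self 16, .self 32, .self 64, .self 256, .self 512, .aff 1073741825 0, .cell [(true, 8), (true, 4), (true, 6),
  (false, 2), (true, 1), (true, 3), (false, 5), (false, 7)], .base 0 128434 22, .cell [(true, 0), (true, 23)], .sum
  0 2, .fin [14054189, 11757561, 1281770, 13998715, 8614760, 2966041, 15941057, 388549, 11625008, 2479852,
  14541635, 7369658, 6155652, 2928857, 4094310, 5148228, 15069004, 2896208, 6544916, 6741774, 12309651, 11622953,
  5906049, 2551262]], by
  decide +kernel⟩

end Cfsg.Agent.H123.Cls.CoD
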