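import Cfsg.Agent.H123.Cls.LDat
import Cfsg.Agent.H123.Cls.LCsa
import Cfsg.Agent.H123.Cls.LPl

/-!
# `Co1` : bounds of the centralizers (helper123)
-/

set_option autoImplicit false
set_option maxRecDepth 1000000

namespace Cfsg.Agent.H123.Cls.CoD

open Cfsg.Agent.H123.Cls Cfsg.Agent.MonsterX.LaneLab Cfsg.Agent.H264.TC.NoReal39

theorem b39 : ∃ b L, Nat.beq (bnd CL DL XL tw b d39.R L) (Nat.succ d39.c) = true := ⟨4, [.self 2, .self 4, .self 8,
  .cell [(false, 1), (false, 2), (false, 0)], .cnt 0 4272, .cell [(true, 0), (false, 4)], .base 0 13511 8, .two 1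
  6157, .cell [(true, 0), (true, 9)], .sum 0 8, .cell [(true, 0), (true, 8)], .sum 0 8, .fin [8460222, 322069,
  14969125, 10989567, 11452995, 270251, 15219920, 1232365, 15861094, 9803493, 3532322, 78437, 5525790, 13105173,
  8664844, 14183623, 8824036, 3719203, 4675831, 1072994, 2990091, 6662480, 16341017, 1435383]], by
  rw [bndC_eq]; decide +kernel⟩

end Cfsg.Agent.H123.Cls.CoD
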