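import Cfsg.Agent.H123.Cls.LDat
import Cfsg.Agent.H123.Cls.LCsa
import Cfsg.Agent.H123.Cls.LPl

/-!
# `Co1` : bounds of the centralizers (helper123)
-/

set_option autoImplicit false
set_option maxRecDepth 1000000

namespace Cfsg.Agent.H123.Cls.CoD

open Cfsg.Agent.H123.Cls Cfsg.Agent.MonsterX.LaneLab Cfsg.Agent.H264.TC.NoReal39

theorem b62 : ∃ b L, Nat.beq (bnd CL DL XL tw b d62.R L) (Nat.succ d62.c) = true := ⟨4, [.self 2, .self 4, .self 8,
  .cell [(false, 0), (false, 2), (false, 1)], .cnt 0 2400, .cell [(true, 0), (false, 4), (true, 3)], .base 0 7465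
  8, .two 128 7465, .two 64 11763, .two 8 91150, .two 4 42603, .cell [(true, 2), (true, 1), (true, 0), (false,
  16)], .base 0 9128 8, .cell [(true, 12), (false, 24), (true, 0), (false, 25), (false, 18), (false, 4), (true,
  14), (true, 2), (true, 17), (false, 11)], .base 0 7843 8, .fin [16053292, 13713708, 3975368, 7753797, 11970941,
  13926294, 8238183, 14820211, 16365729, 16766288, 15182173, 2673453, 13923927, 10661785, 3487809, 13942222,
  6300327, 11666313, 5900587, 13268014, 16340123, 11042416, 630769, 7185342]], by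
  rw [bndC_eq]; decide +kernel⟩

end Cfsg.Agent.H123.Cls.CoD
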