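import Cfsg.Agent.H123.Cls.Pop

/-!
# Class enumeration certificates for linear groups over the field with two elements (helper123)

A group `G` acts linearly on the codes `c < 2 ^ 24` (`L`) and permutes the points `i` of the mask `U` (`π`), the point `i`
having the code given by the columns `C`; `D` : the columns of the dual codes, `xc D c` is the mask of the points not
orthogonal to the code `c`; `two p` : a second relation between the points. `run` checks a certificate for an upper bound of
the order of a group commuting with an element `r` given by the list `R` of the images of the 24 unit codes.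
-/

set_option autoImplicit false

namespace Cfsg.Agent.H123.Cls

open Equiv Cfsg.Agent.Lib.BitNet
open Cfsg.Agent.Lib.BitNetSimple (force force_eq tb tb_eq)

/-! ### linear combinations -/

/-- xor of the entries of the list selected by the bits of `c` -/
def xc : List ℕ → ℕ → ℕ
  | [], _ => 0
  | C :: Cs, c => (bif c.testBit 0 then C else 0) ^^^ xc Cs (c >>> 1)

theorem xc_xor : ∀ (l : List ℕ) (a b : ℕ), xc l (a ^^^ b) = xc l a ^^^ xc l b
  | [], _, _ => by simp [xc]
  | C :: Cs, a, b => by
    rw [xc, xc, xc, Nat.shiftRight_xor_distrib, xc_xor Cs, Nat.testBit_xor]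
    cases a.testBit 0 <;> cases b.testBit 0
    · simp
    · simp only [Bool.false_xor, cond_true, cond_false, Nat.zero_xor]
      rw [← Nat.xor_assoc, Nat.xor_comm C, Nat.xor_assoc]
    · simp only [Bool.xor_false, cond_true, cond_false, Nat.zero_xor]
      rw [Nat.xor_assoc]
    · simp only [Bool.xor_self, cond_true, cond_false, Nat.zero_xor]
      rw [Nat.xor_assoc, Nat.xor_comm (xc Cs _) (C ^^^ _), Nat.xor_assoc, ← Nat.xor_assoc C, Nat.xor_self, Nat.zero_xor,
        Nat.xor_comm]

theorem xc_zero : ∀ l : List ℕ, xc l 0 = 0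
  | [] => rfl
  | C :: Cs => by rw [xc, Nat.zero_shiftRight, xc_zero Cs, Nat.zero_testBit]; simp

theorem xc_two_pow : ∀ (l : List ℕ) (k : ℕ), xc l (2 ^ k) = l.getD k 0
  | [], _ => by simp [xc]
  | C :: Cs, 0 => by
    rw [xc, pow_zero]
    have h : (1 : ℕ) >>> 1 = 0 := rfl
    have h2 : (1 : ℕ).testBit 0 = true := rfl
    rw [h, h2, xc_zero]
    simp
  | C :: Cs, k + 1 => by
    rw [xc]
    have h : (2 ^ (k + 1)) >>> 1 = 2 ^ k := by
      rw [Nat.shiftRight_one, pow_succ, Nat.mul_div_cancel _ (by norm_num)]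
    have h2 : (2 ^ (k + 1)).testBit 0 = false := by
      rw [Nat.testBit_two_pow]; simp
    rw [h, h2, xc_two_pow Cs k]
    simp

/-- strict version with accumulator -/
noncomputable def xF (l : List ℕ) : ℕ → ℕ → ℕ :=
  List.rec (fun _ acc => acc)
    (fun C _ ih c acc => force (Nat.shiftRight c 1) fun c' =>
      cnd (Nat.beq (Nat.land c 1) 0) (ih c' acc) (fB (Nat.xor acc C) fun a => ih c' a)) l

theorem land_one (c : ℕ) : (Nat.beq (Nat.land c 1) 0 = true ∧ c.testBit 0 = false) ∨
    (Nat.beq (Nat.land c 1) 0 = false ∧ c.testBit 0 = true) := by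
  have h1 : Nat.land c 1 = c % 2 := Nat.and_one_is_mod c
  rw [h1, Nat.testBit_zero]
  rcases Nat.mod_two_eq_zero_or_one c with h | h
  · rw [h]; exact Or.inl ⟨rfl, rfl⟩
  · rw [h]; exact Or.inr ⟨rfl, rfl⟩

theorem xF_eq : ∀ (l : List ℕ) (c acc : ℕ), xF l c acc = acc ^^^ xc l c
  | [], c, acc => by
    show acc = acc ^^^ 0
    rw [Nat.xor_zero]
  | C :: Cs, c, acc => by
    have e : xF (C :: Cs) c acc = force (Nat.shiftRight c 1) (fun c' =>
      cnd (Nat.beq (Nat.land c 1) 0) (xF Cs c' acc) (fB (Nat.xor acc C) fun a => xF Cs c' a)) := rfl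
    rw [e, force_eq, fB_eq, xF_eq Cs, xF_eq Cs, xc]
    rcases land_one c with ⟨h1, h2⟩ | ⟨h1, h2⟩
    · rw [h1, h2, cnd_true, cond_false, Nat.zero_xor]
      rfl
    · rw [h1, h2, cnd_false, cond_true]
      show (acc ^^^ C) ^^^ _ = _
      rw [Nat.xor_assoc]
      rfl

/-- bits of the columns: the code of a point -/
theorem testBit_value : ∀ (Cs : List ℕ) (i k : ℕ), (value Cs i).testBit k = (Cs.getD k 0).testBit i
  | [], i, k => by simp [value]
  | C :: Cs, i, 0 => by
    rw [value, List.getD_cons_zero, Nat.testBit_zero]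
    cases C.testBit i <;> simp <;> omega
  | C :: Cs, i, k + 1 => by
    rw [value, List.getD_cons_succ, ← testBit_value Cs i k, Nat.testBit_succ]
    congr 1
    cases C.testBit i <;> simp <;> omega

theorem value_lt (Cs : List ℕ) (i : ℕ) : value Cs i < 2 ^ Cs.length := by
  induction Cs with
  | nil => simp [value]
  | cons C Cs ih =>
    rw [value, List.length_cons, pow_succ]
    cases C.testBit i <;> simp <;> omega

/-- strict code of a point -/
noncomputable def cdF (Cs : List ℕ) (i : ℕ) : ℕ :=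
  List.rec 0 (fun C _ ih => force ih fun y => Nat.add (Nat.land (Nat.shiftRight C i) 1) (Nat.mul 2 y)) Cs

theorem cdF_eq : ∀ (Cs : List ℕ) (i : ℕ), cdF Cs i = value Cs i
  | [], _ => rfl
  | C :: Cs, i => by
    have e : cdF (C :: Cs) i = force (cdF Cs i) (fun y => Nat.add (Nat.land (Nat.shiftRight C i) 1) (Nat.mul 2 y)) := rfl
    rw [e, force_eq, cdF_eq Cs, value]
    show ((C >>> i) &&& 1) + 2 * _ = _
    rw [Nat.and_one_is_mod, Nat.toNat_testBit, Nat.shiftRight_eq_div_pow]

/-- the xor of the codes of the points of a mask -/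
noncomputable def sumC (K : ℕ) (Cs : List ℕ) (X : ℕ) : ℕ :=
  List.rec 0 (fun C _ ih => force ih fun y => force (parF K (Nat.land X C)) fun b => Nat.add b (Nat.mul 2 y)) Cs

theorem testBit_sumC (K : ℕ) : ∀ (Cs : List ℕ) (X k : ℕ), (sumC K Cs X).testBit k =
    decide ((∑ i ∈ Finset.range (2 ^ K), ((X &&& Cs.getD k 0).testBit i).toNat) % 2 = 1)
  | [], X, k => by
    have e : sumC K [] X = 0 := rfl
    rw [e]; simp
  | C :: Cs, X, k => by
    have e : sumC K (C :: Cs) X = parF K (X &&& C) + 2 * sumC K Cs X := by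
      show force (sumC K Cs X) (fun y => force (parF K (Nat.land X C)) fun b => Nat.add b (Nat.mul 2 y)) = _
      rw [force_eq, force_eq]
      rfl
    rw [e, parF_eq]
    cases k with
    | zero =>
      rw [List.getD_cons_zero, Nat.testBit_zero]
      congr 1
      apply propext
      omega
    | succ k =>
      rw [List.getD_cons_succ, ← testBit_sumC K Cs X k, Nat.testBit_succ]
      congr 1
      omega

/-! ### quadratic and linear conditions -/

/-- the points with `B (N x, x) = 1`, `Ns` the images of the unit codes -/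
def slf (D : List ℕ) : List ℕ → List ℕ → ℕ
  | C :: Cs, x :: xs => (C &&& xc D x) ^^^ slf D Cs xs
  | _, _ => 0

theorem testBit_slf (D : List ℕ) : ∀ (Cs xs : List ℕ) (i : ℕ), Cs.length = xs.length →
    (slf D Cs xs).testBit i = (xc D (xc xs (value Cs i))).testBit i
  | [], [], i, _ => by simp [slf, xc, xc_zero]
  | [], _ :: _, _, h => by simp at h
  | _ :: _, [], _, h => by simp at h
  | C :: Cs, x :: xs, i, h => by
    have h0 : (value (C :: Cs) i).testBit 0 = C.testBit i := testBit_value (C :: Cs) i 0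
    have h1 : value (C :: Cs) i >>> 1 = value Cs i := by
      rw [value, Nat.shiftRight_one]
      cases C.testBit i <;> simp <;> omega
    rw [slf, Nat.testBit_xor, Nat.testBit_and, testBit_slf D Cs xs i (by simpa using h), xc, h0, h1, xc_xor,
      Nat.testBit_xor]
    cases C.testBit i
    · simp [xc_zero]
    · simp

/-- strict version -/
noncomputable def slfF (D : List ℕ) (Cs : List ℕ) : List ℕ → ℕ → ℕ :=
  List.rec (fun _ acc => acc) (fun C _ ih xs => List.rec (fun acc => acc)
    (fun x xs' _ acc => fB (Nat.land C (xF D x 0)) fun m => fB (Nat.xor acc m) fun a => ih xs' a) xs) Cs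

theorem slfF_eq (D : List ℕ) : ∀ (Cs xs : List ℕ) (acc : ℕ), slfF D Cs xs acc = acc ^^^ slf D Cs xs
  | [], xs, acc => by
    show acc = _
    cases xs <;> simp [slf]
  | C :: Cs, [], acc => by
    show acc = _
    simp [slf]
  | C :: Cs, x :: xs, acc => by
    have e : slfF D (C :: Cs) (x :: xs) acc =
      fB (Nat.land C (xF D x 0)) (fun m => fB (Nat.xor acc m) fun a => slfF D Cs xs a) := rfl
    rw [e, fB_eq, fB_eq, slfF_eq D Cs, xF_eq, Nat.zero_xor, slf]
    show (acc ^^^ (C &&& _)) ^^^ _ = _
    rw [Nat.xor_assoc]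

/-- the points with `B (N e_l, x) = ` bit `l` of `y` -/
noncomputable def affF (D : List ℕ) (Ns : List ℕ) : ℕ → ℕ → ℕ :=
  List.rec (fun _ acc => acc) (fun x _ ih y acc => fB (Nat.land acc (xF D x 0)) fun m => force (Nat.shiftRight y 1) fun y' =>
    cnd (Nat.beq (Nat.land y 1) 0) (fB (Nat.xor acc m) fun a => ih y' a) (ih y' m)) Ns

theorem testBit_affF (D : List ℕ) : ∀ (Ns : List ℕ) (y acc i : ℕ), (affF D Ns y acc).testBit i = true ↔
    (acc.testBit i = true ∧ ∀ l < Ns.length, (xc D (Ns.getD l 0)).testBit i = y.testBit l)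
  | [], y, acc, i => by
    show acc.testBit i = true ↔ _
    simp
  | x :: Ns, y, acc, i => by
    have e : affF D (x :: Ns) y acc = fB (Nat.land acc (xF D x 0)) (fun m => force (Nat.shiftRight y 1) fun y' =>
      cnd (Nat.beq (Nat.land y 1) 0) (fB (Nat.xor acc m) fun a => affF D Ns y' a) (affF D Ns y' m)) := rfl
    rw [e, fB_eq, force_eq, fB_eq, xF_eq, Nat.zero_xor]
    have hl : (∀ l < (x :: Ns).length, (xc D ((x :: Ns).getD l 0)).testBit i = y.testBit l) ↔
        ((xc D x).testBit i = y.testBit 0 ∧ ∀ l < Ns.length, (xc D (Ns.getD l 0)).testBit i = (y >>> 1).testBit l) := by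
      constructor
      · intro h
        refine ⟨h 0 (by simp), fun l hl => ?_⟩
        have := h (l + 1) (by simpa using hl)
        rw [List.getD_cons_succ] at this
        rw [this, Nat.testBit_shiftRight, add_comm]
      · rintro ⟨h1, h2⟩ l hl
        cases l with
        | zero => exact h1
        | succ l =>
          rw [List.getD_cons_succ, h2 l (by simpa using hl), Nat.testBit_shiftRight, add_comm]
    rw [hl]
    rcases land_one y with ⟨h1, h2⟩ | ⟨h1, h2⟩
    · rw [h1, h2, cnd_true, testBit_affF D Ns]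
      show ((acc ^^^ (acc &&& xc D x)).testBit i = true ∧ _) ↔ _
      rw [Nat.testBit_xor, Nat.testBit_and]
      cases acc.testBit i <;> cases (xc D x).testBit i <;> simp
    · rw [h1, h2, cnd_false, testBit_affF D Ns]
      show ((acc &&& xc D x).testBit i = true ∧ _) ↔ _
      rw [Nat.testBit_and]
      cases acc.testBit i <;> cases (xc D x).testBit i <;> simp

/-! ### lists of images of the unit codes -/

/-- strict map -/
noncomputable def mapF {α : Type} (f : ℕ → ℕ) (l : List ℕ) : (List ℕ → α) → α :=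
  List.rec (fun κ => κ []) (fun x _ ih κ => force (f x) fun y => ih fun l' => κ (y :: l')) l

theorem mapF_eq {α : Type} (f : ℕ → ℕ) : ∀ (l : List ℕ) (κ : List ℕ → α), mapF f l κ = κ (l.map f)
  | [], κ => rfl
  | x :: l, κ => by
    show force (f x) (fun y => mapF f l fun l' => κ (y :: l')) = _
    rw [force_eq, mapF_eq f l]
    rfl

/-- strict xor of two lists -/
noncomputable def zipF {α : Type} (l : List ℕ) : List ℕ → (List ℕ → α) → α :=
  List.rec (fun _ κ => κ []) (fun x _ ih l' => List.rec (fun κ => κ [])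
    (fun y l'' _ κ => force (Nat.xor x y) fun z => ih l'' fun r => κ (z :: r)) l') l

theorem zipF_eq {α : Type} : ∀ (l l' : List ℕ) (κ : List ℕ → α), zipF l l' κ = κ (List.zipWith (· ^^^ ·) l l')
  | [], l', κ => rfl
  | x :: l, [], κ => rfl
  | x :: l, y :: l', κ => by
    show force (Nat.xor x y) (fun z => zipF l l' fun r => κ (z :: r)) = _
    rw [force_eq, zipF_eq l l']
    rfl

/-- the polynomial `J` in the map with the images `R`: `m` bits -/
noncomputable def polyF {α : Type} (R : List ℕ) (m : ℕ) : ℕ → List ℕ → List ℕ → (List ℕ → α) → α :=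
  Nat.rec (fun _ _ acc κ => κ acc) (fun _ ih J cur acc κ =>
    force (Nat.shiftRight J 1) fun J' =>
      cnd (Nat.beq (Nat.land J 1) 0) (mapF (fun x => xF R x 0) cur fun cur' => ih J' cur' acc κ)
        (zipF acc cur fun acc' => mapF (fun x => xF R x 0) cur fun cur' => ih J' cur' acc' κ)) m

theorem xc_map (R : List ℕ) : ∀ (l : List ℕ) (c : ℕ), xc (l.map (fun x => xc R x)) c = xc R (xc l c)
  | [], c => by
    show 0 = xc R 0
    rw [xc_zero]
  | x :: l, c => by
    rw [List.map_cons, xc, xc, xc_map R l, xc_xor]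
    cases c.testBit 0 <;> simp [xc_zero]

theorem xc_zip : ∀ (l l' : List ℕ) (c : ℕ), l.length = l'.length →
    xc (List.zipWith (· ^^^ ·) l l') c = xc l c ^^^ xc l' c
  | [], [], c, _ => by simp [xc]
  | [], _ :: _, _, h => by simp at h
  | _ :: _, [], _, h => by simp at h
  | x :: l, y :: l', c, h => by
    rw [List.zipWith_cons_cons, xc, xc, xc, xc_zip l l' _ (by simpa using h)]
    cases c.testBit 0
    · simp
    · simp only [cond_true]
      rw [Nat.xor_assoc, Nat.xor_assoc, ← Nat.xor_assoc y, Nat.xor_comm y, Nat.xor_assoc]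

/-! ### counting -/

/-- `addRow`, strict -/
noncomputable def addB {α : Type} (ps : List ℕ) : ℕ → (List ℕ → α) → α :=
  List.rec (fun c κ => cnd (Nat.beq c 0) (κ []) (κ [c]))
    (fun p ps ih c κ => cnd (Nat.beq c 0) (κ (p :: ps))
      (fB (Nat.xor p c) fun y => fB (Nat.land p c) fun c' => ih c' fun l => κ (y :: l))) ps

theorem addB_eq {α : Type} : ∀ (ps : List ℕ) (c : ℕ) (κ : List ℕ → α), addB ps c κ = κ (addRow ps c)
  | [], c, κ => by
    show cnd (Nat.beq c 0) (κ []) (κ [c]) = _
    rw [addRow]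
    cases Nat.beq c 0 <;> rfl
  | p :: ps, c, κ => by
    show cnd (Nat.beq c 0) (κ (p :: ps))
      (fB (Nat.xor p c) fun y => fB (Nat.land p c) fun c' => addB ps c' fun l => κ (y :: l)) = _
    rw [addRow]
    cases Nat.beq c 0
    · show (fB (Nat.xor p c) fun y => fB (Nat.land p c) fun c' => addB ps c' fun l => κ (y :: l)) = _
      rw [fB_eq, fB_eq, addB_eq ps]
      rfl
    · rfl

/-- `sumRows`, strict -/
noncomputable def sumB {α : Type} (row : ℕ → ℕ) (k : ℕ) : ℕ → ℕ → List ℕ → (List ℕ → α) → α :=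
  Nat.rec (fun b x ps κ => cnd (Nat.beq (Nat.land x 1) 0) (κ ps) (fB (row b) fun r => addB ps r κ))
    (fun k ih b x ps κ => cnd (Nat.beq x 0) (κ ps)
      (fB (Nat.mod x (Nat.pow 2 (Nat.pow 2 k))) fun lo => fB (Nat.shiftRight x (Nat.pow 2 k)) fun hi =>
        force (Nat.add b (Nat.pow 2 k)) fun b' => ih b lo ps fun ps' => ih b' hi ps' κ)) k

theorem sumB_eq {α : Type} (row : ℕ → ℕ) : ∀ (k b x : ℕ) (ps : List ℕ) (κ : List ℕ → α),
    sumB row k b x ps κ = κ (sumRows row k b x ps)
  | 0, b, x, ps, κ => by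
    show cnd (Nat.beq (Nat.land x 1) 0) (κ ps) (fB (row b) fun r => addB ps r κ) = _
    rw [sumRows]
    cases Nat.beq (Nat.land x 1) 0
    · show (fB (row b) fun r => addB ps r κ) = _
      rw [fB_eq, addB_eq]
      rfl
    · rfl
  | k + 1, b, x, ps, κ => by
    show cnd (Nat.beq x 0) (κ ps)
      (fB (Nat.mod x (Nat.pow 2 (Nat.pow 2 k))) fun lo => fB (Nat.shiftRight x (Nat.pow 2 k)) fun hi =>
        force (Nat.add b (Nat.pow 2 k)) fun b' => sumB row k b lo ps fun ps' => sumB row k b' hi ps' κ) = _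
    rw [sumRows]
    cases Nat.beq x 0
    · show (fB (Nat.mod x (Nat.pow 2 (Nat.pow 2 k))) fun lo => fB (Nat.shiftRight x (Nat.pow 2 k)) fun hi =>
        force (Nat.add b (Nat.pow 2 k)) fun b' => sumB row k b lo ps fun ps' => sumB row k b' hi ps' κ) = _
      rw [fB_eq, fB_eq, force_eq, sumB_eq row k, sumB_eq row k]
      rfl
    · rfl

/-- `eqVal`, strict -/
noncomputable def eqB (ps : List ℕ) : ℕ → ℕ → ℕ :=
  List.rec (fun c U => cnd (Nat.beq c 0) U 0)
    (fun p _ ih c U => fB (Nat.land U p) fun m => force (Nat.div c 2) fun c' =>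
      cnd (Nat.beq (Nat.mod c 2) 0) (fB (Nat.xor U m) fun U' => ih c' U') (ih c' m)) ps

theorem eqB_eq : ∀ (ps : List ℕ) (c U : ℕ), eqB ps c U = eqVal ps c U
  | [], c, U => by
    show cnd (Nat.beq c 0) U 0 = _
    rw [eqVal]
    cases Nat.beq c 0 <;> rfl
  | p :: ps, c, U => by
    show (fB (Nat.land U p) fun m => force (Nat.div c 2) fun c' =>
      cnd (Nat.beq (Nat.mod c 2) 0) (fB (Nat.xor U m) fun U' => eqB ps c' U') (eqB ps c' m)) = _
    rw [fB_eq, force_eq, fB_eq, eqB_eq ps, eqB_eq ps, eqVal]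
    cases Nat.beq (Nat.mod c 2) 0 <;> rfl

/-- intersection of masks (`true`) and complements (`false`) -/
noncomputable def cellB (st : List ℕ) (l : List (Bool × ℕ)) : ℕ → ℕ :=
  List.rec (fun U => U) (fun a _ ih U => fB (Nat.land U (nth st a.2)) fun m =>
    cnd a.1 (ih m) (fB (Nat.xor U m) fun m' => ih m')) l

end Cfsg.Agent.H123.Cls
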