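import Cfsg.Agent.H123.Cls.LDat
import Cfsg.Agent.H264.TC.NoReal39Data

/-!
# `Co1` : keys of the classes (helper123)
-/

set_option autoImplicit false
set_option maxRecDepth 1000000

namespace Cfsg.Agent.H123.Cls.CoD

open Cfsg.Agent.H123.Cls Cfsg.Agent.MonsterX.LaneLab Cfsg.Agent.H264.TC.NoReal39

theorem k0 : okK CL DL XL d0 = true := by decide +kernel

theorem k4 : okK CL DL XL d4 = true := by decide +kernel

theorem k8 : okK CL DL XL d8 = true := by decide +kernel

theorem k12 : okK CL DL XL d12 = true := by decide +kernel

theorem k16 : okK CL DL XL d16 = true := by decide +kernel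

theorem k20 : okK CL DL XL d20 = true := by decide +kernel

theorem k24 : okK CL DL XL d24 = true := by decide +kernel

theorem k28 : okK CL DL XL d28 = true := by decide +kernel

theorem k32 : okK CL DL XL d32 = true := by decide +kernel

theorem k36 : okK CL DL XL d36 = true := by decide +kernel

theorem k40 : okK CL DL XL d40 = true := by decide +kernel

theorem k44 : okK CL DL XL d44 = true := by decide +kernel

theorem k48 : okK CL DL XL d48 = true := by decide +kernel

theorem k52 : okK CL DL XL d52 = true := by decide +kernel

theorem k56 : okK CL DL XL d56 = true := by decide +kernel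

theorem k60 : okK CL DL XL d60 = true := by decide +kernel

theorem k64 : okK CL DL XL d64 = true := by decide +kernel

theorem k68 : okK CL DL XL d68 = true := by decide +kernel

theorem k72 : okK CL DL XL d72 = true := by decide +kernel

theorem k76 : okK CL DL XL d76 = true := by decide +kernel

theorem k80 : okK CL DL XL d80 = true := by decide +kernel

theorem k84 : okK CL DL XL d84 = true := by decide +kernel

theorem k88 : okK CL DL XL d88 = true := by decide +kernel

theorem k92 : okK CL DL XL d92 = true := by decide +kernel

theorem k96 : okK CL DL XL d96 = true := by decide +kernel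

theorem k100 : okK CL DL XL d100 = true := by decide +kernel

end Cfsg.Agent.H123.Cls.CoD
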