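import Cfsg.Agent.H123.Cls.LDat
import Cfsg.Agent.H264.TC.NoReal39Data

/-!
# `Co1` : keys of the classes (helper123)
-/

set_option autoImplicit false
set_option maxRecDepth 1000000

namespace Cfsg.Agent.H123.Cls.CoD

open Cfsg.Agent.H123.Cls Cfsg.Agent.MonsterX.LaneLab Cfsg.Agent.H264.TC.NoReal39

theorem k1 : okK CL DL XL d1 = true := by decide +kernel

theorem k5 : okK CL DL XL d5 = true := by decide +kernel

theorem k9 : okK CL DL XL d9 = true := by decide +kernel

theorem k13 : okK CL DL XL d13 = true := by decide +kernel

theorem k17 : okK CL DL XL d17 = true := by decide +kernel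

theorem k21 : okK CL DL XL d21 = true := by decide +kernel

theorem k25 : okK CL DL XL d25 = true := by decide +kernel

theorem k29 : okK CL DL XL d29 = true := by decide +kernel

theorem k33 : okK CL DL XL d33 = true := by decide +kernel

theorem k37 : okK CL DL XL d37 = true := by decide +kernel

theorem k41 : okK CL DL XL d41 = true := by decide +kernel

theorem k45 : okK CL DL XL d45 = true := by decide +kernel

theorem k49 : okK CL DL XL d49 = true := by decide +kernel

theorem k53 : okK CL DL XL d53 = true := by decide +kernel

theorem k57 : okK CL DL XL d57 = true := by decide +kernel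

theorem k61 : okK CL DL XL d61 = true := by decide +kernel

theorem k65 : okK CL DL XL d65 = true := by decide +kernel

theorem k69 : okK CL DL XL d69 = true := by decide +kernel

theorem k73 : okK CL DL XL d73 = true := by decide +kernel

theorem k77 : okK CL DL XL d77 = true := by decide +kernel

theorem k81 : okK CL DL XL d81 = true := by decide +kernel

theorem k85 : okK CL DL XL d85 = true := by decide +kernel

theorem k89 : okK CL DL XL d89 = true := by decide +kernel

theorem k93 : okK CL DL XL d93 = true := by decide +kernel

theorem k97 : okK CL DL XL d97 = true := by decide +kernel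

end Cfsg.Agent.H123.Cls.CoD
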