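import Cfsg.Agent.H123.Cls.LDat
import Cfsg.Agent.H264.TC.NoReal39Data

/-!
# `Co1` : keys of the classes (helper123)
-/

set_option autoImplicit false
set_option maxRecDepth 1000000

namespace Cfsg.Agent.H123.Cls.CoD

open Cfsg.Agent.H123.Cls Cfsg.Agent.MonsterX.LaneLab Cfsg.Agent.H264.TC.NoReal39

theorem k2 : okK CL DL XL d2 = true := by decide +kernel

theorem k6 : okK CL DL XL d6 = true := by decide +kernel

theorem k10 : okK CL DL XL d10 = true := by decide +kernel

theorem k14 : okK CL DL XL d14 = true := by decide +kernel

theorem k18 : okK CL DL XL d18 = true := by decide +kernel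

theorem k22 : okK CL DL XL d22 = true := by decide +kernel

theorem k26 : okK CL DL XL d26 = true := by decide +kernel

theorem k30 : okK CL DL XL d30 = true := by decide +kernel

theorem k34 : okK CL DL XL d34 = true := by decide +kernel

theorem k38 : okK CL DL XL d38 = true := by decide +kernel

theorem k42 : okK CL DL XL d42 = true := by decide +kernel

theorem k46 : okK CL DL XL d46 = true := by decide +kernel

theorem k50 : okK CL DL XL d50 = true := by decide +kernel

theorem k54 : okK CL DL XL d54 = true := by decide +kernel

theorem k58 : okK CL DL XL d58 = true := by decide +kernel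

theorem k62 : okK CL DL XL d62 = true := by decide +kernel

theorem k66 : okK CL DL XL d66 = true := by decide +kernel

theorem k70 : okK CL DL XL d70 = true := by decide +kernel

theorem k74 : okK CL DL XL d74 = true := by decide +kernel

theorem k78 : okK CL DL XL d78 = true := by decide +kernel

theorem k82 : okK CL DL XL d82 = true := by decide +kernel

theorem k86 : okK CL DL XL d86 = true := by decide +kernel

theorem k90 : okK CL DL XL d90 = true := by decide +kernel

theorem k94 : okK CL DL XL d94 = true := by decide +kernel

theorem k98 : okK CL DL XL d98 = true := by decide +kernel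

end Cfsg.Agent.H123.Cls.CoD
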