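import Cfsg.Agent.H123.Cls.LDat
import Cfsg.Agent.H264.TC.NoReal39Data

/-!
# `Co1` : keys of the classes (helper123)
-/

set_option autoImplicit false
set_option maxRecDepth 1000000

namespace Cfsg.Agent.H123.Cls.CoD

open Cfsg.Agent.H123.Cls Cfsg.Agent.MonsterX.LaneLab Cfsg.Agent.H264.TC.NoReal39

theorem k3 : okK CL DL XL d3 = true := by decide +kernel

theorem k7 : okK CL DL XL d7 = true := by decide +kernel

theorem k11 : okK CL DL XL d11 = true := by decide +kernel

theorem k15 : okK CL DL XL d15 = true := by decide +kernel

theorem k19 : okK CL DL XL d19 = true := by decide +kernel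

theorem k23 : okK CL DL XL d23 = true := by decide +kernel

theorem k27 : okK CL DL XL d27 = true := by decide +kernel

theorem k31 : okK CL DL XL d31 = true := by decide +kernel

theorem k35 : okK CL DL XL d35 = true := by decide +kernel

theorem k39 : okK CL DL XL d39 = true := by decide +kernel

theorem k43 : okK CL DL XL d43 = true := by decide +kernel

theorem k47 : okK CL DL XL d47 = true := by decide +kernel

theorem k51 : okK CL DL XL d51 = true := by decide +kernel

theorem k55 : okK CL DL XL d55 = true := by decide +kernel

theorem k59 : okK CL DL XL d59 = true := by decide +kernel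

theorem k63 : okK CL DL XL d63 = true := by decide +kernel

theorem k67 : okK CL DL XL d67 = true := by decide +kernel

theorem k71 : okK CL DL XL d71 = true := by decide +kernel

theorem k75 : okK CL DL XL d75 = true := by decide +kernel

theorem k79 : okK CL DL XL d79 = true := by decide +kernel

theorem k83 : okK CL DL XL d83 = true := by decide +kernel

theorem k87 : okK CL DL XL d87 = true := by decide +kernel

theorem k91 : okK CL DL XL d91 = true := by decide +kernel

theorem k95 : okK CL DL XL d95 = true := by decide +kernel

theorem k99 : okK CL DL XL d99 = true := by decide +kernel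

end Cfsg.Agent.H123.Cls.CoD
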