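import Cfsg.Agent.H123.Cls.LWd
import Cfsg.Agent.H123.Cls.LKy0
import Cfsg.Agent.H123.Cls.LKy1
import Cfsg.Agent.H123.Cls.LKy2
import Cfsg.Agent.H123.Cls.LKy3
import Cfsg.Agent.H123.Cls.LCt0
import Cfsg.Agent.H123.Cls.LCt1
import Cfsg.Agent.H123.Cls.LCt2
import Cfsg.Agent.H123.Cls.LCt3
import Cfsg.Agent.H123.Cls.LCt4
import Cfsg.Agent.H123.Cls.LCt5
import Cfsg.Agent.H123.Cls.LCt6
import Cfsg.Agent.H123.Cls.LCt7
import Cfsg.Agent.H123.Cls.LCt8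
import Cfsg.Agent.H123.Cls.LCt9
import Cfsg.Agent.H123.Cls.LCt10
import Cfsg.Agent.H123.Cls.LCt11
import Cfsg.Agent.H123.Cls.LCt12
import Cfsg.Agent.H123.Cls.LCt13
import Cfsg.Agent.H123.Cls.LCt14
import Cfsg.Agent.H123.Cls.LCt15
import Cfsg.Agent.H123.Cls.LCt16
import Cfsg.Agent.H123.Cls.LCt17

/-!
# The classes of `Co1` (helper123)

`cov_abs` : in every group with the model of `Co1` of order `|Co1|`, in which the centralizers of the elements of order 7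
have at most 17640 elements, every element is conjugate to one of 101 words in the generators.
-/

set_option autoImplicit false

namespace Cfsg.Agent.H123.Cls.CoD

open Cfsg.Agent.H123.Cls Cfsg.Agent.MonsterX.LaneLab Cfsg.Agent.H264.TC.NoReal39

/-- the bounds -/
def Bd (d : Ent) : Prop := ∃ b L, Nat.beq (bnd CL DL XL tw b d.R L) (Nat.succ d.c) = true

theorem allK : ∀ d ∈ Dl, okK CL DL XL d = true := by
  unfold Dl
  exact List.forall_mem_cons.2 ⟨k0, List.forall_mem_cons.2 ⟨k1, List.forall_mem_cons.2 ⟨k2, List.forall_mem_cons.2 ⟨k3, List.forall_mem_cons.2 ⟨k4, List.forall_mem_cons.2 ⟨k5, List.forall_mem_cons.2 ⟨k6, List.forall_mem_cons.2 ⟨k7, List.forall_mem_cons.2 ⟨k8, List.forall_mem_cons.2 ⟨k9, List.forall_mem_cons.2 ⟨k10, List.forall_mem_cons.2 ⟨k11, List.forall_mem_cons.2 ⟨k12, List.forall_mem_cons.2 ⟨k13, List.forall_mem_cons.2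 ⟨k14, List.forall_mem_cons.2 ⟨k15, List.forall_mem_cons.2 ⟨k16, List.forall_mem_cons.2 ⟨k17, List.forall_mem_cons.2 ⟨k18, List.forall_mem_cons.2 ⟨k19, List.forall_mem_cons.2 ⟨k20, List.forall_mem_cons.2 ⟨k21, List.forall_mem_cons.2 ⟨k22, List.forall_mem_cons.2 ⟨k23, List.forall_mem_cons.2 ⟨k24, List.forall_mem_cons.2 ⟨k25, List.forall_mem_cons.2 ⟨k26, List.forall_mem_cons.2 ⟨k27, List.forall_mem_cons.2 ⟨k28, List.forall_mem_cons.2 ⟨k29, List.forall_mem_cons.2 ⟨k30, List.forall_mem_cons.2 ⟨k31, List.forall_mem_cons.2 ⟨k32, List.forall_mem_cons.2 ⟨k33, List.forall_mem_cons.2 ⟨k34, List.forall_mem_cons.2 ⟨k35, List.forall_mem_cons.2 ⟨k36, List.forall_mem_cons.2 ⟨k37, List.forall_mem_cons.2 ⟨k38, List.forall_mem_cons.2 ⟨k39, List.forall_mem_cons.2 ⟨k40, List.forall_mem_cons.2 ⟨k41, List.forall_mem_cons.2 ⟨k42, List.forall_mem_cons.2 ⟨k43,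 List.forall_mem_cons.2 ⟨k44, List.forall_mem_cons.2 ⟨k45, List.forall_mem_cons.2 ⟨k46, List.forall_mem_cons.2 ⟨k47, List.forall_mem_cons.2 ⟨k48, List.forall_mem_cons.2 ⟨k49, List.forall_mem_cons.2 ⟨k50, List.forall_mem_cons.2 ⟨k51, List.forall_mem_cons.2 ⟨k52, List.forall_mem_cons.2 ⟨k53, List.forall_mem_cons.2 ⟨k54, List.forall_mem_cons.2 ⟨k55, List.forall_mem_cons.2 ⟨k56, List.forall_mem_cons.2 ⟨k57, List.forall_mem_cons.2 ⟨k58, List.forall_mem_cons.2 ⟨k59, List.forall_mem_cons.2 ⟨k60, List.forall_mem_cons.2 ⟨k61, List.forall_mem_cons.2 ⟨k62, List.forall_mem_cons.2 ⟨k63, List.forall_mem_cons.2 ⟨k64, List.forall_mem_cons.2 ⟨k65, List.forall_mem_cons.2 ⟨k66, List.forall_mem_cons.2 ⟨k67, List.forall_mem_cons.2 ⟨k68, List.forall_mem_cons.2 ⟨k69, List.forall_mem_cons.2 ⟨k70, List.forall_mem_cons.2 ⟨k71, List.forall_mem_cons.2 ⟨k72, List.forall_mem_cons.2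 ⟨k73, List.forall_mem_cons.2 ⟨k74, List.forall_mem_cons.2 ⟨k75, List.forall_mem_cons.2 ⟨k76, List.forall_mem_cons.2 ⟨k77, List.forall_mem_cons.2 ⟨k78, List.forall_mem_cons.2 ⟨k79, List.forall_mem_cons.2 ⟨k80, List.forall_mem_cons.2 ⟨k81, List.forall_mem_cons.2 ⟨k82, List.forall_mem_cons.2 ⟨k83, List.forall_mem_cons.2 ⟨k84, List.forall_mem_cons.2 ⟨k85, List.forall_mem_cons.2 ⟨k86, List.forall_mem_cons.2 ⟨k87, List.forall_mem_cons.2 ⟨k88, List.forall_mem_cons.2 ⟨k89, List.forall_mem_cons.2 ⟨k90, List.forall_mem_cons.2 ⟨k91, List.forall_mem_cons.2 ⟨k92, List.forall_mem_cons.2 ⟨k93, List.forall_mem_cons.2 ⟨k94, List.forall_mem_cons.2 ⟨k95, List.forall_mem_cons.2 ⟨k96, List.forall_mem_cons.2 ⟨k97, List.forall_mem_cons.2 ⟨k98, List.forall_mem_cons.2 ⟨k99, List.forall_mem_cons.2 ⟨k100, (fun _ h => absurd h List.not_mem_nil)⟩⟩⟩⟩⟩⟩⟩⟩⟩⟩⟩⟩⟩⟩⟩⟩⟩⟩⟩⟩⟩⟩⟩⟩⟩⟩⟩⟩⟩⟩⟩⟩⟩⟩⟩⟩⟩⟩⟩⟩⟩⟩⟩⟩⟩⟩⟩⟩⟩⟩⟩⟩⟩⟩⟩⟩⟩⟩⟩⟩⟩⟩⟩⟩⟩⟩⟩⟩⟩⟩⟩⟩⟩⟩⟩⟩⟩⟩⟩⟩⟩⟩⟩⟩⟩⟩⟩⟩⟩⟩⟩⟩⟩⟩⟩⟩⟩⟩⟩⟩⟩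

theorem allB : ∀ d ∈ Dl, Bd d ∨ d = d25 ∨ d = d100 := by
  unfold Dl
  exact List.forall_mem_cons.2 ⟨Or.inl b0, List.forall_mem_cons.2 ⟨Or.inl b1, List.forall_mem_cons.2 ⟨Or.inl b2, List.forall_mem_cons.2 ⟨Or.inl b3, List.forall_mem_cons.2 ⟨Or.inl b4, List.forall_mem_cons.2 ⟨Or.inl b5, List.forall_mem_cons.2 ⟨Or.inl b6, List.forall_mem_cons.2 ⟨Or.inl b7, List.forall_mem_cons.2 ⟨Or.inl b8, List.forall_mem_cons.2 ⟨Or.inl b9, List.forall_mem_cons.2 ⟨Or.inl b10, List.forall_mem_cons.2 ⟨Or.inl b11, List.forall_mem_cons.2 ⟨Or.inl b12, List.forall_mem_cons.2 ⟨Or.inl b13, List.forall_mem_cons.2 ⟨Or.inl b14, List.forall_mem_cons.2 ⟨Or.inl b15, List.forall_mem_cons.2 ⟨Or.inl b16, List.forall_mem_cons.2 ⟨Or.inl b17, List.forall_mem_cons.2 ⟨Or.inl b18, List.forall_mem_cons.2 ⟨Or.inl b19, List.forall_mem_cons.2 ⟨Or.inl b20, List.forall_mem_cons.2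 ⟨Or.inl b21, List.forall_mem_cons.2 ⟨Or.inl b22, List.forall_mem_cons.2 ⟨Or.inl b23, List.forall_mem_cons.2 ⟨Or.inl b24, List.forall_mem_cons.2 ⟨Or.inr (Or.inl rfl), List.forall_mem_cons.2 ⟨Or.inl b26, List.forall_mem_cons.2 ⟨Or.inl b27, List.forall_mem_cons.2 ⟨Or.inl b28, List.forall_mem_cons.2 ⟨Or.inl b29, List.forall_mem_cons.2 ⟨Or.inl b30, List.forall_mem_cons.2 ⟨Or.inl b31, List.forall_mem_cons.2 ⟨Or.inl b32, List.forall_mem_cons.2 ⟨Or.inl b33, List.forall_mem_cons.2 ⟨Or.inl b34, List.forall_mem_cons.2 ⟨Or.inl b35, List.forall_mem_cons.2 ⟨Or.inl b36, List.forall_mem_cons.2 ⟨Or.inl b37, List.forall_mem_cons.2 ⟨Or.inl b38, List.forall_mem_cons.2 ⟨Or.inl b39, List.forall_mem_cons.2 ⟨Or.inl b40, List.forall_mem_cons.2 ⟨Or.inl b41, List.forall_mem_cons.2 ⟨Or.inl b42, List.forall_mem_cons.2 ⟨Or.inl b43, List.forall_mem_cons.2 ⟨Or.inl b44,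 List.forall_mem_cons.2 ⟨Or.inl b45, List.forall_mem_cons.2 ⟨Or.inl b46, List.forall_mem_cons.2 ⟨Or.inl b47, List.forall_mem_cons.2 ⟨Or.inl b48, List.forall_mem_cons.2 ⟨Or.inl b49, List.forall_mem_cons.2 ⟨Or.inl b50, List.forall_mem_cons.2 ⟨Or.inl b51, List.forall_mem_cons.2 ⟨Or.inl b52, List.forall_mem_cons.2 ⟨Or.inl b53, List.forall_mem_cons.2 ⟨Or.inl b54, List.forall_mem_cons.2 ⟨Or.inl b55, List.forall_mem_cons.2 ⟨Or.inl b56, List.forall_mem_cons.2 ⟨Or.inl b57, List.forall_mem_cons.2 ⟨Or.inl b58, List.forall_mem_cons.2 ⟨Or.inl b59, List.forall_mem_cons.2 ⟨Or.inl b60, List.forall_mem_cons.2 ⟨Or.inl b61, List.forall_mem_cons.2 ⟨Or.inl b62, List.forall_mem_cons.2 ⟨Or.inl b63, List.forall_mem_cons.2 ⟨Or.inl b64, List.forall_mem_cons.2 ⟨Or.inl b65, List.forall_mem_cons.2 ⟨Or.inl b66, List.forall_mem_cons.2 ⟨Or.inl b67, List.forall_mem_cons.2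 ⟨Or.inl b68, List.forall_mem_cons.2 ⟨Or.inl b69, List.forall_mem_cons.2 ⟨Or.inl b70, List.forall_mem_cons.2 ⟨Or.inl b71, List.forall_mem_cons.2 ⟨Or.inl b72, List.forall_mem_cons.2 ⟨Or.inl b73, List.forall_mem_cons.2 ⟨Or.inl b74, List.forall_mem_cons.2 ⟨Or.inl b75, List.forall_mem_cons.2 ⟨Or.inl b76, List.forall_mem_cons.2 ⟨Or.inl b77, List.forall_mem_cons.2 ⟨Or.inl b78, List.forall_mem_cons.2 ⟨Or.inl b79, List.forall_mem_cons.2 ⟨Or.inl b80, List.forall_mem_cons.2 ⟨Or.inl b81, List.forall_mem_cons.2 ⟨Or.inl b82, List.forall_mem_cons.2 ⟨Or.inl b83, List.forall_mem_cons.2 ⟨Or.inl b84, List.forall_mem_cons.2 ⟨Or.inl b85, List.forall_mem_cons.2 ⟨Or.inl b86, List.forall_mem_cons.2 ⟨Or.inl b87, List.forall_mem_cons.2 ⟨Or.inl b88, List.forall_mem_cons.2 ⟨Or.inl b89, List.forall_mem_cons.2 ⟨Or.inl b90, List.forall_mem_cons.2 ⟨Or.inl b91, List.forall_mem_cons.2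 ⟨Or.inl b92, List.forall_mem_cons.2 ⟨Or.inl b93, List.forall_mem_cons.2 ⟨Or.inl b94, List.forall_mem_cons.2 ⟨Or.inl b95, List.forall_mem_cons.2 ⟨Or.inl b96, List.forall_mem_cons.2 ⟨Or.inl b97, List.forall_mem_cons.2 ⟨Or.inl b98, List.forall_mem_cons.2 ⟨Or.inl b99, List.forall_mem_cons.2 ⟨Or.inr (Or.inr rfl), (fun _ h => absurd h List.not_mem_nil)⟩⟩⟩⟩⟩⟩⟩⟩⟩⟩⟩⟩⟩⟩⟩⟩⟩⟩⟩⟩⟩⟩⟩⟩⟩⟩⟩⟩⟩⟩⟩⟩⟩⟩⟩⟩⟩⟩⟩⟩⟩⟩⟩⟩⟩⟩⟩⟩⟩⟩⟩⟩⟩⟩⟩⟩⟩⟩⟩⟩⟩⟩⟩⟩⟩⟩⟩⟩⟩⟩⟩⟩⟩⟩⟩⟩⟩⟩⟩⟩⟩⟩⟩⟩⟩⟩⟩⟩⟩⟩⟩⟩⟩⟩⟩⟩⟩⟩⟩⟩⟩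

theorem w25 : chkWd d25.R d25.R false [false, false, false, false, false, false] unL = true := by decide +kernel

theorem w93 : chkWd d93.R d99.R false [true] unL = true := by decide +kernel

section

variable {G : Type*} [Group G] [Finite G] (S : Mdl G)

/-- **the classes of `Co1`** -/
theorem cov_abs (hC : S.C = CL) (hD : S.D = DL) (hU : S.U = XL) (h2 : S.two = tw) {a b : G}
    (ha : ∀ c, S.L a c = xc MA c) (hb : ∀ c, S.L b c = xc MB c) (hG : Nat.card G = 4157776806543360000)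
    (h7 : ∀ g : G, orderOf g = 7 → Nat.card ↥(Subgroup.centralizer {g}) ≤ 17640) (g : G) :
    ∃ d ∈ Dl, IsConj g (wG a b d.x d.w) ∧ ∀ c, S.L (wG a b d.x d.w) c = xc d.R c := by
  classical
  have hun : ∀ x : G, (∀ c, S.L x c = xc unL c) → x = 1 := by
    intro x hx
    apply S.faith
    intro k hk
    rw [hx, Mdl.xc_unL _ (Nat.pow_lt_pow_right (by norm_num) hk)]
  refine cover_ent S ha hb Dl allW (by rw [hC, hD, hU]; exact allK) (fun d hd r hr => ?_)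
    (pwD.imp fun {x y} h => h.imp id fun h r s hr hs hc => ?_) (by rw [hG]; exact sumD.ge) g
  · rcases allB d hd with h | rfl | rfl
    · obtain ⟨b', L, h1⟩ := h
      exact S.card_cent hr (by rw [hC, hD, hU, h2]; exact h1)
    · refine h7 r ?_
      have h1 : wG r r false [false, false, false, false, false, false] = 1 := hun _ (S.of_chkWd hr hr w25)
      have h3 : r ^ 7 = 1 := by
        rw [← h1]
        simp only [wG, cond_false, pow_succ, pow_zero, one_mul, mul_assoc]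
      refine (orderOf_eq_prime_iff (hp := ⟨by norm_num⟩)).2 ⟨h3, fun h4 => ?_⟩
      have h5 := hr (2 ^ 0)
      rw [h4, S.L_one _ (by norm_num), xc_two_pow] at h5
      revert h5
      decide
    · calc Nat.card ↥(Subgroup.centralizer {r}) ≤ Nat.card G := Subgroup.card_le_card_group _
        _ = d100.c + 1 := hG
  · rw [h.1] at hr
    rw [h.2] at hs
    have h1 : r * s = 1 := hun _ (S.of_chkWd hr hs w93)
    have h3 : s = r⁻¹ := eq_inv_of_mul_eq_one_right h1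
    rw [h3] at hc
    exact no39 S hU hC hD r hr hc

end

end Cfsg.Agent.H123.Cls.CoD
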