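import Cfsg.Agent.H123.Cls.LEng

/-!
# The second relation: inner products modulo 4 (helper123)

`C`, `E` : planes of the codes modulo 4 of the points, `S` : Gram matrix modulo 4 is `J + 2 S`, `J` the exchange of the two
halves of the 24 coordinates. `twoF` is the mask of the points with inner product 2 modulo 4 with the point `p`.
-/

set_option autoImplicit false

namespace Cfsg.Agent.H123.Cls

open Cfsg.Agent.Lib.BitNet
open Cfsg.Agent.Lib.BitNetSimple (force force_eq tb tb_eq)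

/-- exchange of the halves -/
def swN (v : ℕ) : ℕ := Nat.lor (Nat.shiftRight v 12) (Nat.shiftLeft (Nat.land v 4095) 12)

/-- a number modulo 4 -/
def qd (b c : Bool) : ℕ := b.toNat + 2 * c.toNat

/-- accumulate the multiples of the planes -/
noncomputable def twoL (C : List ℕ) : List ℕ → ℕ → ℕ → ℕ → ℕ → (ℕ → ℕ → ℕ) → ℕ :=
  List.rec (fun _ _ _ lo hi κ => κ lo hi) (fun c _ ih E => List.rec (fun _ _ lo hi κ => κ lo hi)
    (fun e E' _ al ah lo hi κ => force (Nat.shiftRight al 1) fun al' => force (Nat.shiftRight ah 1) fun ah' =>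
      cnd (Nat.beq (Nat.land al 1) 0)
        (cnd (Nat.beq (Nat.land ah 1) 0) (ih E' al' ah' lo hi κ)
          (fB (Nat.xor hi c) fun hi' => ih E' al' ah' lo hi' κ))
        (fB (Nat.land lo c) fun m => fB (Nat.xor e m) fun m' => fB (Nat.xor lo c) fun lo' =>
          cnd (Nat.beq (Nat.land ah 1) 0) (fB (Nat.xor hi m') fun hi' => ih E' al' ah' lo' hi' κ)
            (fB (Nat.xor m' c) fun m'' => fB (Nat.xor hi m'') fun hi' => ih E' al' ah' lo' hi' κ))) E) C

/-- the sum modulo 4 at a point -/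
def smQ : List ℕ → List ℕ → ℕ → ℕ → ℕ → ℕ
  | c :: C, e :: E, al, ah, i => qd (al.testBit 0) (ah.testBit 0) * qd (c.testBit i) (e.testBit i) +
      smQ C E (al >>> 1) (ah >>> 1) i
  | _, _, _, _, _ => 0

theorem smQ_eq : ∀ (C E : List ℕ) (al ah i : ℕ), C.length = E.length → smQ C E al ah i =
    ∑ k ∈ Finset.range C.length, qd (al.testBit k) (ah.testBit k) *
      qd ((C.getD k 0).testBit i) ((E.getD k 0).testBit i)
  | [], [], al, ah, i, _ => by simp [smQ]
  | [], _ :: _, _, _, _, h => by simp at h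
  | _ :: _, [], _, _, _, h => by simp at h
  | c :: C, e :: E, al, ah, i, h => by
    rw [smQ, smQ_eq C E _ _ _ (by simpa using h), List.length_cons, Finset.sum_range_succ', add_comm]
    congr 1
    refine Finset.sum_congr rfl fun k _ => ?_
    rw [Nat.testBit_shiftRight, Nat.testBit_shiftRight, List.getD_cons_succ, List.getD_cons_succ, add_comm 1 k]

theorem qd_one : ∀ lo hi c e : Bool, qd (lo ^^ c) (hi ^^ (e ^^ (lo && c))) % 4 = (qd lo hi + 1 * qd c e) % 4 := by
  decide

theorem qd_two : ∀ lo hi c e : Bool, qd lo (hi ^^ c) % 4 = (qd lo hi + 2 * qd c e) % 4 := by decide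

theorem qd_three : ∀ lo hi c e : Bool, qd (lo ^^ c) (hi ^^ ((e ^^ (lo && c)) ^^ c)) % 4 = (qd lo hi + 3 * qd c e) % 4 := by
  decide

theorem twoL_spec : ∀ (C E : List ℕ) (al ah lo hi : ℕ), ∃ lo' hi' : ℕ,
    (∀ κ : ℕ → ℕ → ℕ, twoL C E al ah lo hi κ = κ lo' hi') ∧
    ∀ i, qd (lo'.testBit i) (hi'.testBit i) % 4 = (qd (lo.testBit i) (hi.testBit i) + smQ C E al ah i) % 4
  | [], E, al, ah, lo, hi => ⟨lo, hi, fun κ => rfl, fun i => by cases E <;> simp [smQ]⟩
  | c :: C, [], al, ah, lo, hi => ⟨lo, hi, fun κ => rfl, fun i => by simp [smQ]⟩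
  | c :: C, e :: E, al, ah, lo, hi => by
    have hun : ∀ κ : ℕ → ℕ → ℕ, twoL (c :: C) (e :: E) al ah lo hi κ =
        cnd (Nat.beq (Nat.land al 1) 0)
        (cnd (Nat.beq (Nat.land ah 1) 0) (twoL C E (al >>> 1) (ah >>> 1) lo hi κ)
          (twoL C E (al >>> 1) (ah >>> 1) lo (hi ^^^ c) κ))
        (cnd (Nat.beq (Nat.land ah 1) 0) (twoL C E (al >>> 1) (ah >>> 1) (lo ^^^ c) (hi ^^^ (e ^^^ (lo &&& c))) κ)
            (twoL C E (al >>> 1) (ah >>> 1) (lo ^^^ c) (hi ^^^ ((e ^^^ (lo &&& c)) ^^^ c)) κ)) := by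
      intro κ
      show (force (Nat.shiftRight al 1) fun al' => force (Nat.shiftRight ah 1) fun ah' =>
        cnd (Nat.beq (Nat.land al 1) 0)
        (cnd (Nat.beq (Nat.land ah 1) 0) (twoL C E al' ah' lo hi κ)
          (fB (Nat.xor hi c) fun hi' => twoL C E al' ah' lo hi' κ))
        (fB (Nat.land lo c) fun m => fB (Nat.xor e m) fun m' => fB (Nat.xor lo c) fun lo' =>
          cnd (Nat.beq (Nat.land ah 1) 0) (fB (Nat.xor hi m') fun hi' => twoL C E al' ah' lo' hi' κ)
            (fB (Nat.xor m' c) fun m'' => fB (Nat.xor hi m'') fun hi' => twoL C E al' ah' lo' hi' κ))) = _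
      rw [force_eq, force_eq]
      simp only [fB_eq]
      rfl
    have hsm : ∀ i, smQ (c :: C) (e :: E) al ah i = qd (al.testBit 0) (ah.testBit 0) *
      qd (c.testBit i) (e.testBit i) + smQ C E (al >>> 1) (ah >>> 1) i := fun i => rfl
    rcases land_one al with ⟨h1, h2⟩ | ⟨h1, h2⟩ <;> rcases land_one ah with ⟨h3, h4⟩ | ⟨h3, h4⟩
    · obtain ⟨lo', hi', h5, h6⟩ := twoL_spec C E (al >>> 1) (ah >>> 1) lo hi
      refine ⟨lo', hi', fun κ => by rw [hun, h1, h3, cnd_true, cnd_true, h5], fun i => ?_⟩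
      rw [h6, hsm, h2, h4]
      simp [qd]
    · obtain ⟨lo', hi', h5, h6⟩ := twoL_spec C E (al >>> 1) (ah >>> 1) lo (hi ^^^ c)
      refine ⟨lo', hi', fun κ => by rw [hun, h1, h3, cnd_true, cnd_false, h5], fun i => ?_⟩
      have h7 := qd_two (lo.testBit i) (hi.testBit i) (c.testBit i) (e.testBit i)
      rw [h6, hsm, h2, h4, Nat.testBit_xor]
      have h8 : qd false true = 2 := rfl
      rw [h8]
      omega
    · obtain ⟨lo', hi', h5, h6⟩ := twoL_spec C E (al >>> 1) (ah >>> 1) (lo ^^^ c) (hi ^^^ (e ^^^ (lo &&& c)))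
      refine ⟨lo', hi', fun κ => by rw [hun, h1, h3, cnd_false, cnd_true, h5], fun i => ?_⟩
      have h7 := qd_one (lo.testBit i) (hi.testBit i) (c.testBit i) (e.testBit i)
      rw [h6, hsm, h2, h4, Nat.testBit_xor, Nat.testBit_xor, Nat.testBit_xor, Nat.testBit_and]
      have h8 : qd true false = 1 := rfl
      rw [h8]
      omega
    · obtain ⟨lo', hi', h5, h6⟩ := twoL_spec C E (al >>> 1) (ah >>> 1) (lo ^^^ c) (hi ^^^ ((e ^^^ (lo &&& c)) ^^^ c))
      refine ⟨lo', hi', fun κ => by rw [hun, h1, h3, cnd_false, cnd_false, h5], fun i => ?_⟩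
      have h7 := qd_three (lo.testBit i) (hi.testBit i) (c.testBit i) (e.testBit i)
      rw [h6, hsm, h2, h4, Nat.testBit_xor, Nat.testBit_xor, Nat.testBit_xor, Nat.testBit_xor, Nat.testBit_and]
      have h8 : qd true true = 3 := rfl
      rw [h8]
      omega

/-- the points with inner product 2 modulo 4 with the point `p` -/
noncomputable def twoF (C E S : List ℕ) (U p : ℕ) : ℕ :=
  force (cdF C p) fun c0 => force (cdF E p) fun c1 => force (swN c0) fun al =>
    force (swN (Nat.xor c1 (xF S al 0))) fun ah => twoL C E al ah 0 0 fun lo hi =>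
      fB (Nat.land U hi) fun m => Nat.xor m (Nat.land m lo)

theorem testBit_twoF (C E S : List ℕ) (U p i : ℕ) (hl : C.length = E.length) : (twoF C E S U p).testBit i = true ↔
    (U.testBit i = true ∧ (∑ k ∈ Finset.range C.length,
      qd ((swN (value C p)).testBit k) ((swN (value E p ^^^ xc S (swN (value C p)))).testBit k) *
      qd ((C.getD k 0).testBit i) ((E.getD k 0).testBit i)) % 4 = 2) := by
  obtain ⟨lo, hi, h1, h2⟩ := twoL_spec C E (swN (value C p)) (swN (value E p ^^^ xc S (swN (value C p)))) 0 0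
  have e : twoF C E S U p = (U &&& hi) ^^^ ((U &&& hi) &&& lo) := by
    show (force (cdF C p) fun c0 => force (cdF E p) fun c1 => force (swN c0) fun al =>
      force (swN (Nat.xor c1 (xF S al 0))) fun ah => twoL C E al ah 0 0 fun lo hi =>
        fB (Nat.land U hi) fun m => Nat.xor m (Nat.land m lo)) = _
    rw [force_eq, force_eq, force_eq, force_eq, cdF_eq, cdF_eq, xF_eq, Nat.zero_xor]
    refine (h1 _).trans ?_
    rw [fB_eq]
    rfl
  rw [e, ← smQ_eq C E _ _ _ hl, Nat.testBit_xor, Nat.testBit_and (U &&& hi) lo, Nat.testBit_and]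
  have h3 := h2 i
  rw [Nat.zero_testBit] at h3
  have h4 : qd false false = 0 := rfl
  rw [h4, Nat.zero_add] at h3
  rw [← h3]
  exact (by decide : ∀ u l h : Bool, ((u && h) ^^ (u && h && l)) = true ↔ (u = true ∧ qd l h % 4 = 2)) _ _ _

end Cfsg.Agent.H123.Cls
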