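import Cfsg.Agent.H123.Cls.LDat

/-!
# `Co1` : words of the classes (helper123)
-/

set_option autoImplicit false
set_option maxRecDepth 1000000

namespace Cfsg.Agent.H123.Cls.CoD

open Cfsg.Agent.H123.Cls

/-- all -/
noncomputable def allE (f : Ent → Bool) (l : List Ent) : Bool := List.rec true (fun x _ ih => band (f x) ih) l

theorem allE_iff (f : Ent → Bool) : ∀ l : List Ent, allE f l = true ↔ ∀ x ∈ l, f x = true
  | [] => by simp [allE]
  | x :: l => by
    have e : allE f (x :: l) = band (f x) (allE f l) := rfl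
    rw [e, band_eq, allE_iff f l, List.forall_mem_cons]

theorem allW : ∀ d ∈ Dl, okW MA MB d = true := (allE_iff _ _).1 (by decide +kernel)

/-- all pairs, without the pair `(93, 99)` -/
noncomputable def pwE (l : List Ent) : Bool :=
  List.rec true (fun x l ih => band (allE (fun y => cnd (dif x.K y.K) true (band (eqL x.R d93.R) (eqL y.R d99.R))) l) ih) l

theorem pwE_iff : ∀ l : List Ent, pwE l = true → l.Pairwise fun x y =>
    dif x.K y.K = true ∨ (x.R = d93.R ∧ y.R = d99.R)
  | [], _ => List.Pairwise.nil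
  | x :: l, h => by
    have e : pwE (x :: l) = band (allE (fun y => cnd (dif x.K y.K) true (band (eqL x.R d93.R) (eqL y.R d99.R))) l)
      (pwE l) := rfl
    rw [e, band_eq, allE_iff] at h
    refine List.Pairwise.cons (fun y hy => ?_) (pwE_iff l h.2)
    have h1 := h.1 y hy
    cases h2 : dif x.K y.K
    · rw [h2, cnd_false, band_eq] at h1
      exact Or.inr ⟨eqL_eq h1.1, eqL_eq h1.2⟩
    · exact Or.inl rfl

theorem pwD : Dl.Pairwise fun x y => dif x.K y.K = true ∨ (x.R = d93.R ∧ y.R = d99.R) :=
  pwE_iff _ (by decide +kernel)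

/-- sum of the lengths of the classes -/
noncomputable def sumE (a : ℕ) (l : List Ent) : ℕ := List.rec 0 (fun d _ ih => Nat.add (Nat.div a (Nat.succ d.c)) ih) l

theorem sumE_eq (a : ℕ) : ∀ l : List Ent, sumE a l = (l.map fun d => a / (d.c + 1)).sum
  | [] => rfl
  | d :: l => by
    rw [List.map_cons, List.sum_cons, ← sumE_eq a l]
    rfl

theorem sumD : (Dl.map fun d => 4157776806543360000 / (d.c + 1)).sum = 4157776806543360000 := by
  rw [← sumE_eq]
  exact Nat.eq_of_beq_eq_true (by decide +kernel)

end Cfsg.Agent.H123.Cls.CoD
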