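import Cfsg.Agent.H123.Cls.Cover

/-!
# Class enumeration certificates: list version (helper123)

`D` : list of (table, bound minus one, invariants). `cover_D` : every element of `N` is conjugate under `A` to one of the
permutations of the list. `comm_of_cover` : all elements are commutators when the representatives are.
-/

set_option autoImplicit false

namespace Cfsg.Agent.H123.Cls

open Equiv Cfsg.Agent.Lib.BitNet

section

variable {n : ℕ}

/-- **The classes cover the group**: list version. -/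
theorem cover_D {K w : ℕ} {row : ℕ → ℕ} {A N : Subgroup (Perm (Fin n))} (hn : n ≤ 2 ^ K) (hA : A ≤ Aut n row)
    (hnA : ∀ a ∈ A, ∀ x ∈ N, a * x * a⁻¹ ∈ N) {a : ℕ} (haA : a ≤ Nat.card A) (D : List (ℕ × ℕ × List ℕ))
    (hr : ∀ x ∈ D, ∃ g ∈ N, ∀ p : Fin n, (g p : ℕ) = lk w x.1 p)
    (hc : ∀ x ∈ D, ∃ l L, chkB n K row w x.1 l L x.2.1 = true)
    (key : List (Bool × ℕ)) (hs : ∀ x ∈ D, chkSig n K row w x.1 key x.2.2 = true)
    (hl : ∀ x ∈ D, x.2.2.length = key.length) (hnd : (D.map fun x => x.2.2).Nodup)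
    (hsum : Nat.card N ≤ (D.map fun x => a / (x.2.1 + 1)).sum) :
    ∀ g ∈ N, ∃ x ∈ D, ∃ r ∈ N, (∀ p : Fin n, (r p : ℕ) = lk w x.1 p) ∧ ∃ b ∈ A, g = b * r * b⁻¹ := by
  intro g hg
  have hmem : ∀ i : Fin D.length, D[i.1] ∈ D := fun i => List.getElem_mem i.2
  have hinj : Function.Injective (fun i : Fin D.length => (D[i.1]).2.2) := by
    intro i j hij
    have h1 := (List.nodup_iff_injective_get.1 hnd)
    have h2 : (⟨i.1, by rw [List.length_map]; exact i.2⟩ : Fin (D.map fun x => x.2.2).length) =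
        ⟨j.1, by rw [List.length_map]; exact j.2⟩ := by
      apply h1
      simpa using hij
    have h3 := congrArg Fin.val h2
    exact Fin.ext h3
  have hsum' : Nat.card N ≤ ∑ i : Fin D.length, a / ((D[i.1]).2.1 + 1) := by
    rw [Fin.sum_univ_fun_getElem D (fun x => a / (x.2.1 + 1))]
    exact hsum
  obtain ⟨i, r, hr1, hr2, hr3⟩ := cover_list hn hA hnA haA (fun i : Fin D.length => (D[i.1]).1)
    (fun i => (D[i.1]).2.1) (fun i => hr _ (hmem i)) (fun i => hc _ (hmem i)) key (fun i => (D[i.1]).2.2)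
    (fun i => hs _ (hmem i)) (fun i => hl _ (hmem i)) hinj hsum' g hg
  exact ⟨_, hmem i, r, hr1, hr2, hr3⟩

theorem perm_eq_of_tab {w P : ℕ} {r s : Perm (Fin n)} (hr : ∀ p : Fin n, (r p : ℕ) = lk w P p)
    (hs : ∀ p : Fin n, (s p : ℕ) = lk w P p) : r = s := by
  ext p
  rw [hr, hs]

/-- all elements of `N` are commutators of elements of `N` -/
theorem comm_of_cover {w : ℕ} {A N : Subgroup (Perm (Fin n))} (hnA : ∀ a ∈ A, ∀ x ∈ N, a * x * a⁻¹ ∈ N)
    {D : List (ℕ × ℕ × List ℕ)}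
    (hcov : ∀ g ∈ N, ∃ x ∈ D, ∃ r ∈ N, (∀ p : Fin n, (r p : ℕ) = lk w x.1 p) ∧ ∃ b ∈ A, g = b * r * b⁻¹)
    (hcm : ∀ x ∈ D, ∃ u ∈ N, ∃ v ∈ N, ∀ p : Fin n, ((u * v * u⁻¹ * v⁻¹) p : ℕ) = lk w x.1 p) :
    ∀ g ∈ N, ∃ u ∈ N, ∃ v ∈ N, g = u * v * u⁻¹ * v⁻¹ := by
  intro g hg
  obtain ⟨x, hx, r, hr, hrt, b, hb, rfl⟩ := hcov g hg
  obtain ⟨u, hu, v, hv, huv⟩ := hcm x hx
  rw [perm_eq_of_tab hrt huv]
  exact ⟨b * u * b⁻¹, hnA b hb u hu, b * v * b⁻¹, hnA b hb v hv, by group⟩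

end

end Cfsg.Agent.H123.Cls
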