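import Cfsg.Agent.H123.Cls.SuzRep

set_option autoImplicit false
set_option maxRecDepth 1000000
set_option exponentiation.threshold 5000

namespace Cfsg.Agent.H123.Cls.SuzDat

open Cfsg.Agent.H123.Cls

theorem bd0 : chkB 1782 11 row 11 p0 [(false, 1)]
    [.cell [(false, 0)], .base 0 2 2, .cell [(true, 3), (true, 1)], .cnt 0 [2, 8, 3, 4, 7], .cell [(true, 4), (false, 7), (false, 6)], .base 0 98 2, .cell [(true, 4), (false, 10), (false, 9), (false, 1), (false, 0)], .base 0 14 2, .cell [(true, 12), (true, 3), (true, 10), (false, 4), (false, 1), (false, 0)], .cnt 0 [6, 7, 5, 4, 8, 3, 9, 10, 2, 0, 1, 13, 17], .cell [(true, 12), (true, 27), (true, 15), (true, 26), (false, 23), (false, 17), (false, 18)], .cnt 0 [2, 1, 3, 0, 4, 5], .cell [(true, 17), (true, 4), (true, 26), (false, 25), (false, 24), (false, 21), (false, 22)], .cnt 0 [2, 3, 4, 1, 5, 0, 6], .cnt 8 [3, 2, 4, 1, 5, 7, 9], .cnt 1 [6, 5, 4, 7, 9, 2], .cnt 30 [1, 0], .cell [(true, 43), (true, 3)], .cnt 0 [0], .cell [(true, 13), (true, 46), (true,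 7), (true, 44)], .cnt 0 [0], .fin [58, 5, 32, 18, 24, 2, 52, 0, 60, 48, 46, 51, 61, 25, 10, 11, 31, 17, 23, 9, 44, 16, 4, 45, 22, 8, 7, 49, 63, 43, 38, 30]] 6635519 = true := by decide +kernel

theorem sg0 : chkSig 1782 11 row 11 p0 key [0, 54, 0, 1782, 0, 54, 54] = true := by decide +kernel

theorem cm0 : chkC 1782 11 gens p0 [5] [6] = true := by decide +kernel

theorem bd8 : chkB 1782 11 row 11 p8 [(false, 3), (false, 6), (true, 1), (true, 2), (true, 3)]
    [.cell [(true, 2), (false, 1), (false, 3)], .cnt 0 [68, 58, 74, 76, 77, 80, 82, 83, 86], .cell [(true, 10), (true, 0)], .base 0 53 12, .cell [(true, 14), (true, 10), (true, 2), (false, 6), (false, 24), (false, 0), (false, 8), (false, 7), (false, 5), (false, 4)], .cnt 0 [0, 1, 2], .cell [(true, 20), (true, 14), (true, 29), (false, 11), (true, 2)], .cnt 0 [1, 0, 2], .cell [(true, 30), (true, 17), (true, 13), (true, 2), (true, 16), (false, 28)], .cnt 0 [0, 1], .cell [(true, 31), (true, 13), (true, 7), (false, 15), (false, 20)], .cnt 0 [0], .cell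 [(true, 28), (true, 20), (true, 16), (true, 7), (false, 21)], .cnt 0 [0], .cell [(true, 29), (true, 24), (true, 18), (true, 20), (false, 39)], .cnt 0 [0], .cell [(true, 33), (true, 13), (true, 20), (true, 28)], .cnt 0 [0], .cell [(true, 15), (true, 33), (false, 2), (true, 21), (true, 25)], .cnt 0 [0], .fin [14, 11, 18, 32, 30, 4, 8, 31, 29, 6, 26, 27, 21, 2, 22, 0, 24, 45, 28, 19, 23, 46, 34, 15, 38, 40, 10]] 47 = true := by decide +kernel

theorem sg8 : chkSig 1782 11 row 11 p8 key [396, 0, 324, 0, 192, 6, 0] = true := by decide +kernel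

theorem cm8 : chkC 1782 11 gens p8 [5, 4, 6, 2] [1, 2, 3] = true := by decide +kernel

theorem bd16 : chkB 1782 11 row 11 p16 [(false, 1), (true, 1), (true, 2), (true, 3)]
    [.cnt 3 [0], .cell [(true, 2), (true, 1), (false, 0), (false, 3)], .base 0 1402 12, .cell [(true, 3), (false, 15), (false, 14), (false, 6), (false, 5), (false, 8), (false, 10), (false, 2), (true, 13), (false, 4), (false, 1), (false, 0), (false, 11)], .cnt 0 [1, 2, 0, 3], .cell [(true, 15), (true, 10), (true, 2), (false, 20), (false, 21), (false, 11), (false, 5), (false, 19), (true, 18), (false, 7)], .cnt 0 [0, 1, 2], .cell [(false, 22), (true, 12), (true, 6), (true, 2), (false, 23), (false, 25), (false, 24), (false, 16)], .cnt 0 [1, 0], .cell [(true, 3), (true, 13), (true, 9), (true, 1), (false, 28), (true, 25), (false, 19)], .cnt 0 [0, 1], .cell [(true, 21), (true, 19), (true, 4), (true, 13), (true, 8), (false, 29), (false, 23)], .cnt 0 [0], .cell [(true, 26), (true, 14), (true, 20), (true, 19), (false, 31)], .cnt 0 [0],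 .cell [(true, 27), (true, 19), (true, 8), (true, 11), (false, 26), (false, 34), (false, 35), (false, 30)], .cnt 0 [0], .fin [14, 9, 7, 19, 22, 29, 0, 34, 30, 4, 37, 36, 28, 23, 31, 2, 24, 17, 21, 27, 26, 25, 6, 32, 18, 10, 35, 12]] 12 = true := by decide +kernel

theorem sg16 : chkSig 1782 11 row 11 p16 key [416, 1, 416, 1, 416, 1, 1] = true := by decide +kernel

theorem cm16 : chkC 1782 11 gens p16 [1, 2, 4] [3, 5] = true := by decide +kernel

theorem bd24 : chkB 1782 11 row 11 p24 [(false, 1), (false, 2), (false, 4), (false, 6), (true, 1), (true, 2), (true, 3)]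
    [.cell [(true, 2), (true, 0), (false, 4)], .base 0 23 12, .cell [(true, 11), (false, 13), (false, 14), (false, 10), (false, 0), (false, 6), (false, 3), (false, 15), (false, 4), (false, 9), (false, 1)], .cnt 0 [2, 3, 1, 4, 5], .cell [(true, 10), (true, 3), (false, 20), (false, 21), (false, 9), (false, 14), (false, 12), (false, 8), (false, 15), (false, 11)], .cnt 0 [1, 2, 0, 3], .cell [(true, 19), (true, 17), (true, 25), (true, 14), (false, 26)], .cnt 0 [1, 0], .cell [(true, 23), (true, 11), (true, 1), (true, 6), (false, 24), (false, 28), (false, 27), (false, 25)], .cnt 0 [0, 1], .cell [(true, 25), (true, 22), (true, 31), (true, 21), (true, 7), (false, 1)], .cnt 0 [0], .cell [(true, 30), (true, 16), (true, 21), (true, 20), (false, 24)], .cnt 0 [0], .cell [(true, 38), (false, 0), (true, 18), (true, 8)], .cnt 0 [0], .cell [(true, 40), (true, 34), (false, 4), (true, 15), (true, 33)], .cnt 0 [0], .fin [9, 11, 17, 38, 23, 39, 6, 28, 25, 40, 35, 36, 30, 4, 0, 33, 2, 22, 34, 15, 31, 26, 20, 8, 27, 29,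 16, 21, 12]] 95 = true := by decide +kernel

theorem sg24 : chkSig 1782 11 row 11 p24 key [436, 2, 468, 18, 544, 2, 2] = true := by decide +kernel

theorem cm24 : chkC 1782 11 gens p24 [2, 1, 5] [3, 1, 0] = true := by decide +kernel

theorem bd32 : chkB 1782 11 row 11 p32 [(false, 3), (true, 1), (true, 2)]
    [.base 0 25 6, .cell [(true, 3), (true, 0), (true, 1), (false, 6), (false, 7), (false, 8)], .base 0 35 6, .cell [(true, 9), (true, 5), (false, 11), (false, 4), (false, 1), (false, 8), (false, 14), (false, 12), (false, 7), (false, 0), (false, 2)], .cnt 0 [1, 2, 0, 3, 4], .cell [(true, 11), (true, 20), (true, 3), (false, 10), (false, 17), (false, 18), (false, 16), (false, 14), (false, 9), (false, 8), (false, 6)], .cnt 0 [1, 0, 2], .cnt 4 [10, 9, 11, 8, 7, 12, 13, 15, 6, 16, 27], .cnt 1 [4, 5, 2, 3, 1], .cell [(true, 21), (true, 14), (true, 1), (true, 18)], .cnt 0 [0], .fin [20, 26, 42, 6, 37, 38, 31, 39, 33, 30, 0, 28, 40, 29, 35, 3, 25, 36, 5, 32, 19, 16, 4, 14, 15, 41, 24, 12, 18, 17, 2]]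 1295 = true := by decide +kernel

theorem sg32 : chkSig 1782 11 row 11 p32 key [540, 0, 324, 0, 0, 54, 0] = true := by decide +kernel

theorem cm32 : chkC 1782 11 gens p32 [5, 3, 1, 6] [1, 2] = true := by decide +kernel

end Cfsg.Agent.H123.Cls.SuzDat
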