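import Cfsg.Agent.H123.Cls.SuzRep

set_option autoImplicit false
set_option maxRecDepth 1000000
set_option exponentiation.threshold 5000

namespace Cfsg.Agent.H123.Cls.SuzDat

open Cfsg.Agent.H123.Cls

theorem bd1 : chkB 1782 11 row 11 p1 []
    [.cell [], .base 0 0 1, .cnt 0 [96], .base 0 1 1, .cell [(true, 2), (true, 0)], .cnt 0 [21, 48], .base 1 2 1, .cell [(true, 3), (true, 0)], .cnt 0 [4, 6, 7, 2, 10, 11], .cell [(true, 5), (true, 9), (false, 7)], .base 0 138 1, .cell [(true, 5), (true, 0), (true, 13)], .cnt 0 [2, 4, 1, 5, 3, 6, 0, 7, 12], .cell [(true, 19), (true, 4), (true, 17), (false, 10), (false, 25)], .cnt 0 [6, 7, 5, 8, 4, 9, 10, 3, 11, 2, 12], .cnt 0 [3, 4, 2, 5, 6, 1, 7, 8], .cnt 21 [4, 3, 5, 2, 6, 7], .cnt 15 [8, 9, 7, 5, 10, 2, 3, 6, 12], .cnt 2 [6, 5, 9, 3], .fin [56, 60, 43, 18, 49, 26, 58, 37, 25, 46, 3, 36, 17, 12, 47, 34, 10, 2, 35, 8, 23, 11, 16, 55, 1, 24, 32, 29, 44, 13, 30, 0, 64, 6, 54]] 896690995199 = true := by decide +kernel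

theorem sg1 : chkSig 1782 11 row 11 p1 key [0, 1782, 0, 1782, 0, 1782, 1782] = true := by decide +kernel

theorem cm1 : chkC 1782 11 gens p1 [0] [0] = true := by decide +kernel

theorem bd9 : chkB 1782 11 row 11 p9 [(true, 1), (true, 2), (true, 3)]
    [.cell [(true, 1), (true, 0), (false, 2)], .base 0 74 11, .cell [(true, 7), (false, 10), (false, 9), (false, 8), (false, 13), (false, 5), (false, 12), (false, 4), (false, 14), (false, 3), (false, 0), (false, 2), (false, 1), (false, 6)], .cnt 0 [2, 3, 1, 4, 0, 5], .cell [(true, 20), (true, 15), (true, 5), (false, 11), (false, 21), (false, 8), (false, 14), (false, 19), (false, 16), (false, 10)], .cnt 0 [1, 0, 2], .cell [(true, 25), (true, 9), (true, 1), (false, 17), (false, 11), (false, 15), (false, 18), (false, 24), (false, 21)], .cnt 0 [1, 2, 0], .cell [(true, 25), (true, 19), (true, 13), (true, 17), (false, 23)], .cnt 0 [0], .cell [(true, 24), (true, 3), (true, 22), (true, 7), (true, 15), (false, 26)], .cnt 0 [0], .cell [(true, 19),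 (false, 2), (true, 17), (true, 6), (true, 10), (false, 26), (false, 20)], .cnt 0 [0], .cnt 32 [4, 1, 5], .cell [(true, 0), (true, 36), (true, 21), (true, 29)], .cnt 0 [0], .fin [17, 13, 24, 4, 7, 5, 9, 28, 31, 29, 35, 27, 34, 32, 33, 39, 23, 26, 12, 22, 38, 16, 0, 40, 36, 30, 19, 3, 15, 2]] 21 = true := by decide +kernel

theorem sg9 : chkSig 1782 11 row 11 p9 key [396, 0, 396, 0, 396, 0, 0] = true := by decide +kernel

theorem cm9 : chkC 1782 11 gens p9 [5, 1, 3] [2, 4, 6, 1] = true := by decide +kernel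

theorem bd17 : chkB 1782 11 row 11 p17 [(false, 1), (false, 3), (false, 7), (true, 1), (true, 2), (true, 3)]
    [.cell [(true, 2), (true, 1), (false, 0), (false, 3), (false, 4)], .base 0 25 12, .cell [(true, 0), (true, 13), (false, 14), (false, 11), (false, 2), (false, 7), (false, 15), (false, 10), (false, 6), (false, 1), (false, 5)], .cnt 0 [1, 0, 2, 3], .cnt 22 [1, 0, 2], .cell [(true, 13), (true, 8), (true, 4), (true, 12), (false, 24), (false, 9)], .cnt 0 [0], .cell [(true, 3), (true, 8), (false, 24), (false, 25), (false, 21), (false, 18), (false, 10), (false, 20), (false, 12), (false, 14), (false, 15), (false, 16), (true, 0), (false, 19), (false, 13)], .cnt 0 [1, 2, 0], .cell [(true, 29), (true, 10), (true, 20), (true, 18), (false, 8)], .cnt 0 [0, 1], .cell [(true, 22), (true, 17), (true, 15), (true, 3), (true, 0), (false, 23), (false, 25), (false, 19)], .cnt 0 [0], .cell [(true, 14), (true, 29), (true, 26), (true, 22)], .cnt 0 [0], .cell [(true, 8), (true, 25), (true, 27), (true,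 14), (true, 30)], .cnt 0 [0], .fin [17, 11, 7, 21, 36, 24, 32, 23, 0, 4, 26, 2, 34, 28, 25, 37, 29, 30, 13, 27, 38, 10, 33, 19, 31, 20, 16, 15, 6]] 20 = true := by decide +kernel

theorem sg17 : chkSig 1782 11 row 11 p17 key [416, 1, 416, 1, 476, 4, 1] = true := by decide +kernel

theorem cm17 : chkC 1782 11 gens p17 [2, 1] [6, 3] = true := by decide +kernel

theorem bd25 : chkB 1782 11 row 11 p25 [(false, 1), (false, 2), (false, 5), (true, 1), (true, 2), (true, 3)]
    [.cell [(true, 2), (true, 0), (false, 3)], .base 0 32 10, .cell [(true, 9), (true, 7), (true, 13), (true, 1), (false, 11), (false, 8)], .base 0 1212 10, .cell [(true, 19), (true, 14), (true, 8), (true, 5), (false, 24), (false, 1)], .cnt 0 [0, 1], .cell [(true, 20), (true, 6), (true, 16), (true, 0), (false, 25), (false, 10), (false, 27)], .cnt 0 [0], .cell [(true, 25), (true, 20), (true, 13), (true, 2), (true, 12), (false, 29)], .cnt 0 [0], .cell [(true, 24), (true, 9), (true, 23), (true, 7), (false, 27), (false, 31)],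 .cnt 0 [0], .cell [(true, 20), (true, 16), (false, 0), (true, 15), (true, 32)], .cnt 0 [0], .fin [9, 34, 35, 19, 24, 13, 23, 6, 16, 28, 12, 0, 27, 17, 20, 11, 26, 4, 2, 31, 25, 14, 33, 18, 30, 15, 29]] 79 = true := by decide +kernel

theorem sg25 : chkSig 1782 11 row 11 p25 key [440, 4, 600, 12, 440, 4, 54] = true := by decide +kernel

theorem cm25 : chkC 1782 11 gens p25 [3, 2, 1] [4, 0] = true := by decide +kernel

theorem bd33 : chkB 1782 11 row 11 p33 [(false, 1), (false, 2), (true, 1)]
    [.cell [(true, 0), (false, 1)], .base 0 12 4, .cell [(true, 2), (true, 0), (true, 1), (true, 5)], .base 0 145 4, .cell [(true, 7), (true, 6), (false, 3), (false, 0), (false, 10), (false, 2), (false, 1), (false, 8), (false, 5)], .cnt 0 [2, 3, 4, 1, 5, 6, 7], .cell [(true, 9), (true, 6), (false, 18), (false, 16), (false, 10), (false, 13), (false, 15), (false, 14), (false, 11), (false, 8)], .cnt 0 [5, 4, 3, 2, 6, 1, 8, 7], .cnt 1 [10, 9, 7, 11, 8, 13, 6, 12, 15, 19, 5, 16, 17, 14], .cnt 1 [1, 2,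 3, 0], .cnt 6 [2, 3], .cell [(true, 20), (true, 15), (true, 34), (true, 4)], .cnt 0 [0], .cell [(true, 33), (true, 21), (true, 25), (false, 42)], .cnt 0 [0], .fin [9, 51, 5, 39, 46, 49, 47, 2, 0, 44, 41, 42, 38, 8, 48, 4, 29, 30, 43, 31, 37, 19, 21, 16, 20, 23, 17, 7, 36, 28, 15]] 3071 = true := by decide +kernel

theorem sg33 : chkSig 1782 11 row 11 p33 key [544, 2, 0, 54, 544, 2, 2] = true := by decide +kernel

theorem cm33 : chkC 1782 11 gens p33 [1, 6] [5, 2] = true := by decide +kernel

end Cfsg.Agent.H123.Cls.SuzDat
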