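import Cfsg.Agent.H123.Cls.SuzRep

set_option autoImplicit false
set_option maxRecDepth 1000000
set_option exponentiation.threshold 5000

namespace Cfsg.Agent.H123.Cls.SuzDat

open Cfsg.Agent.H123.Cls

theorem bd2 : chkB 1782 11 row 11 p2 [(false, 1), (false, 2), (true, 1)]
    [.cell [(false, 0), (false, 1)], .base 0 0 4, .cell [(true, 5), (true, 2), (true, 1)], .cnt 0 [2, 1, 0, 4, 5, 3], .cell [(true, 1), (true, 10), (false, 12)], .base 0 1401 4, .cell [(true, 1), (true, 0), (true, 10), (false, 13), (false, 14), (false, 2), (false, 17), (false, 15), (false, 12)], .cnt 0 [2, 3, 1, 4, 0, 5, 6], .cnt 0 [3, 4, 2, 5, 1, 7, 6, 11, 9], .cnt 0 [1, 2, 0, 3, 4], .cnt 6 [1, 2], .cell [(true, 2), (true, 14), (true, 21), (true, 37)], .cnt 0 [0], .cell [(true, 21), (true, 15), (true, 5), (true, 41)], .cnt 0 [0], .cell [(true, 24), (true, 30), (true, 42), (true, 28), (true, 38), (false, 43), (true, 10)], .cnt 0 [0], .cell [(true, 18), (false, 2), (false, 0), (true, 11), (false, 44)], .cnt 0 [0], .cell [(true, 17), (false,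 2), (true, 47), (true, 42), (true, 46)], .cnt 0 [0], .fin [44, 11, 16, 32, 25, 36, 2, 0, 4, 37, 8, 35, 6, 34, 48, 15, 23, 24, 47, 49, 30, 46, 10, 50, 43, 31, 22, 14, 29, 20, 13]] 6143 = true := by decide +kernel

theorem sg2 : chkSig 1782 11 row 11 p2 key [192, 6, 0, 54, 192, 6, 6] = true := by decide +kernel

theorem cm2 : chkC 1782 11 gens p2 [4, 2, 1, 6, 3, 2] [1, 3] = true := by decide +kernel

theorem bd10 : chkB 1782 11 row 11 p10 [(false, 2), (false, 7), (true, 1), (true, 2), (true, 3)]
    [.cell [(true, 2), (true, 1), (false, 0)], .base 0 13 12, .cell [(true, 9), (true, 14), (false, 5), (false, 3), (false, 2), (false, 4), (false, 13), (false, 1), (false, 8), (false, 6)], .cnt 0 [1, 0, 2, 3], .cell [(true, 19), (true, 2), (false, 18), (false, 13), (false, 6), (false, 20), (false, 15), (false, 8), (false, 9), (false, 7), (false, 14), (false, 11)], .cnt 0 [1, 0, 3], .cnt 4 [14, 15, 17, 16, 20, 19, 12, 11, 13, 21, 22], .cell [(true, 9), (true, 29), (true, 20), (true, 30), (true, 28)], .cnt 0 [0], .cell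 [(true, 10), (false, 0), (true, 20), (true, 14), (false, 35), (false, 31), (false, 26)], .cnt 0 [1], .cell [(true, 14), (true, 29), (true, 32), (true, 0), (false, 35), (false, 37)], .cnt 0 [0], .cell [(true, 12), (true, 36), (true, 23), (true, 37), (true, 31)], .cnt 0 [0], .fin [21, 26, 4, 42, 39, 6, 2, 0, 33, 36, 30, 32, 38, 31, 28, 41, 34, 35, 43, 18, 20, 29, 17, 14, 15, 24, 37, 12, 19, 13]] 55 = true := by decide +kernel

theorem sg10 : chkSig 1782 11 row 11 p10 key [396, 0, 476, 4, 396, 0, 0] = true := by decide +kernel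

theorem cm10 : chkC 1782 11 gens p10 [1, 0, 3, 1, 5, 6] [2, 4, 1] = true := by decide +kernel

theorem bd18 : chkB 1782 11 row 11 p18 [(false, 1), (false, 3), (false, 5), (true, 1), (true, 2), (true, 3)]
    [.cell [(true, 2), (true, 1), (false, 0)], .base 0 13 12, .cell [(true, 10), (false, 13), (false, 7), (false, 1), (false, 4), (false, 8), (false, 0), (false, 9), (false, 14), (false, 11), (false, 6), (false, 5), (false, 15)], .cnt 0 [2, 1, 3, 4, 0], .cell [(true, 13), (true, 9), (true, 4), (true, 19), (false, 8), (false, 17), (false, 11)], .cnt 0 [0, 1], .cnt 27 [1, 0, 2], .cell [(true, 8), (true, 2), (false, 4), (false, 3), (false, 25), (false, 27), (false, 23), (false, 12), (false, 15)], .cnt 0 [0, 1], .cell [(true, 9), (true, 25), (true, 0), (true, 17), (false, 23)], .cnt 0 [0], .cell [(true, 5), (true, 28), (true, 2), (true, 15), (false, 27), (false, 23)], .cnt 0 [0], .cell [(true, 15), (true, 23), (true, 29), (true, 34), (false, 11), (false, 33), (false, 26)], .cnt 0 [0], .cell [(true, 23), (true,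 35), (false, 0), (false, 11), (true, 36), (false, 31), (true, 19)], .cnt 0 [0], .fin [15, 12, 9, 21, 36, 2, 28, 23, 34, 33, 29, 30, 26, 0, 6, 4, 37, 19, 27, 24, 25, 20, 31, 32, 38, 18, 14, 13]] 44 = true := by decide +kernel

theorem sg18 : chkSig 1782 11 row 11 p18 key [420, 3, 420, 3, 600, 12, 18] = true := by decide +kernel

theorem cm18 : chkC 1782 11 gens p18 [2, 4, 6] [3, 1] = true := by decide +kernel

theorem bd26 : chkB 1782 11 row 11 p26 [(false, 3), (false, 6), (true, 1), (true, 2), (true, 3)]
    [.cell [(true, 2), (true, 0), (false, 1)], .cnt 0 [11, 8], .cell [(true, 5), (false, 3), (false, 1), (false, 6)], .base 0 41 12, .cell [(true, 1), (true, 0), (true, 13), (true, 16), (false, 11), (false, 9), (false, 8), (false, 7), (false, 4)], .cnt 0 [0, 1, 2], .cell [(true, 0), (true, 14), (true, 13), (true, 17), (false, 12)], .cnt 0 [0, 1], .cell [(true, 16), (true, 11), (true, 5), (true, 23), (false, 21), (false, 24), (false, 20), (false, 18), (true, 1)], .cnt 0 [0, 1], .cell [(true, 20), (true, 12),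 (true, 24), (true, 0), (true, 3)], .cnt 0 [0], .cell [(true, 18), (true, 15), (true, 26), (true, 30), (false, 10)], .cnt 0 [0, 1], .cell [(true, 22), (true, 20), (true, 21), (false, 3), (true, 9)], .cnt 0 [0], .cell [(true, 26), (false, 5), (true, 30), (false, 8), (false, 3), (false, 33), (false, 27)], .cnt 0 [0], .cell [(true, 17), (false, 35), (true, 13), (false, 32), (false, 33), (false, 37), (true, 5), (false, 29), (false, 28), (false, 26), (false, 25)], .cnt 0 [0, 1], .cell [(true, 37), (false, 10), (true, 28), (false, 27)], .cnt 0 [0], .fin [40, 22, 3, 10, 15, 18, 37, 26, 34, 12, 25, 0, 29, 31, 7, 5, 30, 33, 38, 35, 28, 42, 27, 32, 21, 14, 24, 2]] 143 = true := by decide +kernel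

theorem sg26 : chkSig 1782 11 row 11 p26 key [468, 0, 324, 0, 960, 30, 0] = true := by decide +kernel

theorem cm26 : chkC 1782 11 gens p26 [3, 1] [6, 5, 1, 2] = true := by decide +kernel

theorem bd34 : chkB 1782 11 row 11 p34 [(false, 1), (true, 1), (true, 2)]
    [.cell [(false, 1), (false, 0), (false, 2)], .base 0 1 5, .cell [(true, 2), (true, 1), (true, 7), (true, 6)], .base 0 404 5, .cell [(true, 9), (true, 2), (true, 11), (false, 6), (false, 10), (false, 8), (false, 4), (false, 3), (false, 7), (false, 1)], .cnt 0 [1, 0, 2, 3], .cell [(true, 17), (true, 3), (false, 8), (false, 15), (false, 12), (false, 13), (false, 11), (false, 14), (false, 9), (false, 6), (false, 5), (false, 18), (false, 7)], .cnt 0 [4, 5, 3, 6, 2, 7, 1, 0], .cell [(true, 6), (true, 10), (true, 25), (false, 21), (false, 24), (false, 17), (false, 23), (false, 20), (false, 22), (false, 16), (false, 14)], .cnt 0 [1, 2, 0], .cnt 4 [5, 3, 7, 6, 4, 1, 8, 9], .cnt 2 [1, 0], .cell [(true, 18), (true, 6), (true, 25), (true, 32), (false, 30)],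 .cnt 0 [0], .cell [(true, 11), (true, 27), (true, 23), (true, 41), (false, 31), (false, 34), (false, 37)], .cnt 0 [0], .fin [4, 30, 16, 43, 25, 42, 32, 41, 35, 40, 0, 36, 2, 34, 39, 38, 13, 15, 24, 45, 33, 11, 9, 10, 23, 22, 5, 29, 21, 8, 7]] 3599 = true := by decide +kernel

theorem sg34 : chkSig 1782 11 row 11 p34 key [600, 12, 600, 12, 600, 12, 1782] = true := by decide +kernel

theorem cm34 : chkC 1782 11 gens p34 [1, 3] [4, 2, 0] = true := by decide +kernel

end Cfsg.Agent.H123.Cls.SuzDat
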