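import Cfsg.Agent.H123.Cls.SuzRep

set_option autoImplicit false
set_option maxRecDepth 1000000
set_option exponentiation.threshold 5000

namespace Cfsg.Agent.H123.Cls.SuzDat

open Cfsg.Agent.H123.Cls

theorem bd3 : chkB 1782 11 row 11 p3 [(false, 3), (true, 1), (true, 2)]
    [.cell [(true, 2), (false, 1)], .cnt 0 [3], .cell [(true, 0), (false, 2)], .base 0 38 6, .cell [(true, 3), (false, 7), (false, 10), (false, 0), (false, 5), (false, 2), (false, 4), (false, 1)], .cnt 0 [4, 3, 5, 2, 6, 1, 7, 0, 8], .cell [(true, 7), (true, 11), (true, 10), (true, 17), (false, 14), (false, 15), (false, 13), (false, 12)], .cnt 0 [1, 0, 2, 3], .cell [(true, 13), (true, 2), (true, 21), (false, 16), (false, 19), (false, 18), (false, 17), (false, 15), (false, 20)], .cnt 0 [2, 3, 1, 4, 0, 5], .cnt 12 [5, 4, 3, 6, 8, 2, 1], .cell [(true, 23), (true, 6), (true, 15), (true, 12)], .cnt 0 [0, 1], .cell [(true, 13), (true, 29), (true, 9), (true, 38), (true, 1), (false, 36), (true, 20)], .cnt 0 [0, 1], .cell [(true, 9), (true,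 21), (true, 39), (true, 35), (true, 18)], .cnt 0 [0], .cell [(true, 17), (true, 46), (true, 41), (true, 23)], .cnt 0 [0], .fin [45, 5, 27, 8, 22, 44, 43, 39, 40, 2, 0, 42, 37, 36, 16, 15, 26, 21, 34, 13, 20, 41, 48, 32, 49, 33, 30, 50, 19, 14, 12, 7]] 863 = true := by decide +kernel

theorem sg3 : chkSig 1782 11 row 11 p3 key [324, 0, 324, 0, 0, 54, 0] = true := by decide +kernel

theorem cm3 : chkC 1782 11 gens p3 [2] [3, 2, 1, 6, 5, 1] = true := by decide +kernel

theorem bd11 : chkB 1782 11 row 11 p11 [(false, 1), (false, 2), (false, 4), (true, 1), (true, 2), (true, 3)]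
    [.cnt 5 [0, 1], .cell [(true, 4), (true, 0)], .base 0 41 8, .cell [(true, 7), (true, 1), (true, 6), (false, 13), (false, 4), (true, 10), (false, 5), (false, 3)], .cnt 0 [1, 2, 3, 0], .cell [(true, 12), (true, 11), (true, 2), (true, 15), (false, 6), (false, 7), (false, 18), (false, 9), (false, 8)], .cnt 0 [2, 1, 3, 4, 5], .cnt 0 [4, 5, 6, 3, 7, 1, 9, 8, 0, 10, 13, 14], .cnt 3 [1, 2, 3, 0], .cell [(true, 23), (true, 31), (true, 3), (true, 36), (false, 39), (false, 28)], .cnt 0 [0], .cell [(true, 10), (true, 2), (true, 21), (false, 26), (false, 31)], .cnt 0 [0], .cell [(true, 22), (true, 19), (true, 34), (true, 31), (true, 35)], .cnt 0 [0], .cell [(true, 6), (true, 20), (false, 0), (true, 43), (false, 46)], .cnt 0 [0], .fin [45, 33, 11, 28, 38, 6, 37, 4, 35, 2, 0, 41, 40, 22, 10, 46, 27, 39, 36, 32, 23, 20, 8, 48, 42, 47, 50, 31, 26, 21, 9]] 127 = true := by decide +kernel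

theorem sg11 : chkSig 1782 11 row 11 p11 key [400, 2, 192, 6, 400, 2, 2] = true := by decide +kernel

theorem cm11 : chkC 1782 11 gens p11 [4, 6, 5] [1, 2, 3] = true := by decide +kernel

theorem bd19 : chkB 1782 11 row 11 p19 [(false, 2), (false, 4), (false, 6), (true, 1), (true, 2), (true, 3)]
    [.cell [(true, 2), (true, 0), (false, 4)], .base 0 42 12, .cell [(true, 14), (true, 5), (true, 2), (false, 15), (false, 10), (false, 9), (false, 11), (false, 8)], .cnt 0 [1, 0, 2], .cell [(true, 14), (true, 4), (true, 2), (true, 17), (false, 6), (false, 10), (false, 15)], .cnt 0 [2, 1, 3, 4], .cell [(true, 19), (true, 17), (true, 3), (true, 22), (true, 6), (false, 9), (false, 13)], .cnt 0 [0, 1, 2], .cell [(true, 9), (true, 24), (true, 14), (true, 26), (true, 7), (false, 23)], .cnt 0 [1, 0], .cell [(true, 26), (true, 31), (true, 23), (true, 9), (true, 1)], .cnt 0 [0], .cell [(true, 21), (true, 19), (false, 0), (true, 12), (true, 15)], .cnt 0 [0], .cell [(true, 16), (true, 24), (true, 33), (true, 14),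 (true, 26)], .cnt 0 [0], .cell [(true, 22), (true, 37), (true, 15), (true, 7), (true, 20), (true, 2)], .cnt 0 [0], .cell [(true, 16), (true, 39), (true, 32), (true, 24)], .cnt 0 [0], .fin [15, 10, 24, 20, 41, 39, 29, 26, 4, 31, 8, 30, 32, 27, 40, 6, 0, 19, 2, 34, 36, 23, 35, 33, 13, 37, 22, 18]] 71 = true := by decide +kernel

theorem sg19 : chkSig 1782 11 row 11 p19 key [432, 0, 408, 6, 432, 0, 0] = true := by decide +kernel

theorem cm19 : chkC 1782 11 gens p19 [2, 3, 6, 4, 2, 5] [3, 1] = true := by decide +kernel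

theorem bd27 : chkB 1782 11 row 11 p27 [(false, 2), (false, 3), (false, 4), (false, 6), (false, 8), (true, 1), (true, 2), (true, 3)]
    [.cell [(true, 2), (true, 0), (false, 1), (false, 3)], .base 0 158 12, .cell [(true, 3), (false, 15), (false, 6), (false, 8), (false, 13), (false, 10), (false, 2), (false, 1), (false, 5), (false, 4), (false, 14), (false, 0), (false, 11), (false, 9)], .cnt 0 [1, 2, 0, 3, 4], .cell [(true, 22), (true, 3), (false, 21), (false, 20), (true, 19), (false, 13), (false, 12)], .cnt 0 [1, 2, 0], .cell [(true, 6), (true, 19), (true, 17), (true, 2), (true, 23), (false, 24)], .cnt 0 [0], .cell [(true, 16), (true, 27), (true, 9), (true, 4), (false, 20), (false, 15), (false, 21), (false, 17), (false, 12)], .cnt 0 [0, 1], .cell [(true, 24), (true, 21), (true, 20), (true, 13), (true, 16), (false, 31)], .cnt 0 [0], .cell [(true, 13), (true, 18), (false, 0), (true, 9), (true, 23)], .cnt 0 [0], .cell [(true, 10), (true, 27), (true, 23), (true, 20), (false, 28)], .cnt 0 [0], .fin [7,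 13, 19, 34, 36, 26, 0, 24, 31, 32, 2, 28, 4, 29, 9, 21, 18, 22, 25, 27, 23, 11, 35, 30, 16, 40, 39, 6]] 47 = true := by decide +kernel

theorem sg27 : chkSig 1782 11 row 11 p27 key [468, 0, 372, 6, 480, 6, 0] = true := by decide +kernel

theorem cm27 : chkC 1782 11 gens p27 [3, 0, 1, 2, 6, 5] [4, 1] = true := by decide +kernel

theorem bd35 : chkB 1782 11 row 11 p35 [(false, 1), (false, 2), (true, 1)]
    [.base 0 2 4, .cell [(true, 3), (true, 4), (false, 2), (false, 0), (false, 1)], .base 0 293 4, .cell [(true, 7), (true, 3), (true, 2), (true, 6), (false, 8), (false, 1)], .base 0 225 4, .cell [(true, 12), (true, 2), (false, 14), (false, 6), (false, 10), (false, 7), (false, 0), (false, 8), (false, 13), (false, 1)], .cnt 0 [1, 2, 3, 0], .cell [(true, 13), (true, 10), (true, 3), (false, 5), (false, 17), (true, 19), (false, 7), (false, 18), (false, 16), (false, 12), (false, 8)], .cnt 0 [1, 2, 0], .cell [(true, 2), (true, 7), (true, 23), (false, 12), (false, 16), (false, 19), (false, 22), (false, 14),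 (false, 10), (false, 20), (false, 11), (false, 21), (false, 17)], .cnt 0 [3, 2, 4, 1, 5, 0, 6], .cnt 0 [12, 11, 13, 9, 8, 10, 15, 7, 24, 25, 6, 23], .cnt 3 [0], .cell [(true, 10), (true, 18), (true, 38), (true, 37), (false, 43)], .cnt 0 [0], .fin [46, 2, 30, 25, 21, 33, 38, 42, 0, 40, 44, 34, 32, 20, 39, 45, 29, 14, 24, 13, 37, 43, 17, 12, 11, 10, 18, 35, 5, 28, 8, 19, 7, 6, 3]] 92159 = true := by decide +kernel

theorem sg35 : chkSig 1782 11 row 11 p35 key [960, 30, 0, 54, 960, 30, 30] = true := by decide +kernel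

theorem cm35 : chkC 1782 11 gens p35 [3] [2] = true := by decide +kernel

end Cfsg.Agent.H123.Cls.SuzDat
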