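import Cfsg.Agent.H123.Cls.SuzRep

set_option autoImplicit false
set_option maxRecDepth 1000000
set_option exponentiation.threshold 5000

namespace Cfsg.Agent.H123.Cls.SuzDat

open Cfsg.Agent.H123.Cls

theorem bd4 : chkB 1782 11 row 11 p4 [(true, 1)]
    [.cell [(false, 0)], .base 0 0 3, .cell [(true, 4), (true, 1), (false, 2), (false, 0)], .base 0 41 3, .cell [(true, 5), (true, 1), (false, 4), (false, 0), (false, 2), (false, 8), (false, 6)], .cnt 0 [8, 9, 10, 6, 7, 4, 11, 5, 12, 3, 13, 16, 0, 2, 15, 17, 18, 20], .cnt 7 [3, 2, 4, 5, 1, 6, 7, 8, 10], .cnt 1 [5, 4, 6, 7, 3, 8, 2, 9, 10], .cnt 26 [3, 4, 2, 5, 6], .cnt 5 [4, 3, 5, 6, 1], .cell [(true, 20), (true, 37), (false, 53)], .cnt 0 [0], .cell [(true, 5), (true, 51), (true, 47), (true, 19), (true, 53)], .cnt 0 [0], .fin [13, 31, 57, 53, 2, 52, 55, 51, 0, 8, 56, 22, 29, 6, 12, 21, 30, 20, 45, 7, 59, 49, 48, 28, 18, 10, 47, 5, 15, 46, 43, 42]] 69983 = true := by decide +kernel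

theorem sg4 : chkSig 1782 11 row 11 p4 key [324, 0, 324, 0, 0, 1782, 0] = true := by decide +kernel

theorem cm4 : chkC 1782 11 gens p4 [2] [1, 6, 5, 3, 1] = true := by decide +kernel

theorem bd12 : chkB 1782 11 row 11 p12 [(false, 1), (false, 5), (true, 1), (true, 2), (true, 3)]
    [.cell [(true, 2), (true, 0), (false, 1)], .base 0 54 10, .cell [(true, 1), (true, 0), (false, 7), (false, 4), (false, 13), (false, 11), (false, 12), (false, 6), (false, 5), (false, 9), (false, 8), (false, 3), (false, 2)], .cnt 0 [2, 1, 3, 4, 0], .cell [(true, 15), (true, 13), (true, 4), (false, 17), (false, 18), (false, 8), (false, 12), (false, 10), (false, 19), (false, 9)], .cnt 0 [0, 1], .cell [(true, 21), (true, 20), (true, 7), (false, 22), (true, 0), (false, 11), (false, 17)], .cnt 0 [0, 1, 2], .cell [(true, 15), (true, 14), (true, 11), (true, 1), (true, 5), (false, 13), (false, 16)], .cnt 0 [0, 1], .cell [(true, 20), (true, 14), (true, 4), (true, 7), (false, 25), (false, 27), (false, 21), (false,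 19)], .cnt 0 [1, 0], .cell [(true, 31), (true, 28), (true, 24), (true, 25), (true, 7), (false, 27)], .cnt 0 [0], .cell [(true, 34), (true, 26), (true, 23), (true, 33), (true, 22)], .cnt 0 [0], .cell [(true, 29), (true, 24), (true, 26), (true, 21), (true, 5), (false, 25)], .cnt 0 [0], .cell [(true, 34), (false, 2), (true, 25), (true, 33), (false, 37)], .cnt 0 [0], .cell [(false, 2), (true, 25), (true, 16), (false, 12), (false, 11)], .cnt 0 [0], .fin [18, 14, 21, 10, 27, 37, 2, 4, 29, 34, 35, 6, 40, 0, 38, 8, 36, 32, 30, 33, 31, 26, 42, 17, 41, 23, 43, 20]] 39 = true := by decide +kernel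

theorem sg12 : chkSig 1782 11 row 11 p12 key [400, 2, 400, 2, 400, 2, 42] = true := by decide +kernel

theorem cm12 : chkC 1782 11 gens p12 [1, 4] [2, 3] = true := by decide +kernel

theorem bd20 : chkB 1782 11 row 11 p20 [(true, 1), (true, 2), (true, 3)]
    [.cell [(true, 0), (false, 2), (false, 1)], .cnt 0 [27, 18, 24, 29], .cell [(true, 5), (true, 7), (false, 3)], .cell [(true, 8), (true, 7)], .tri 1 0 1 4 0, .base 0 37 9, .cell [(true, 14), (true, 6), (true, 4), (false, 8), (false, 2)], .base 0 1540 9, .cell [(true, 14), (true, 3), (true, 13), (true, 6), (false, 2), (false, 0), (false, 27)], .cnt 0 [0], .cell [(true, 8), (true, 3), (true, 25), (true, 31), (false, 30), (false, 18), (false, 19)], .cnt 0 [0], .cell [(true, 21), (true, 17), (true, 27), (true, 15), (false, 8), (false, 4)], .cnt 0 [0], .cell [(true, 14), (true, 11), (true, 34), (true, 13), (true, 31), (false, 33)], .cnt 0 [0], .cell [(true, 26), (true, 22), (true, 23), (true, 14), (false, 36)], .cnt 0 [0], .fin [33,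 39, 8, 2, 0, 12, 10, 14, 15, 17, 16, 27, 6, 13, 21, 11, 18, 20, 26, 4, 38, 28, 25, 23, 37, 35, 34, 24, 22]] 53 = true := by decide +kernel

theorem sg20 : chkSig 1782 11 row 11 p20 key [432, 0, 432, 0, 324, 0, 0] = true := by decide +kernel

theorem cm20 : chkC 1782 11 gens p20 [6, 5, 3] [2, 1] = true := by decide +kernel

theorem bd28 : chkB 1782 11 row 11 p28 [(false, 1), (false, 2), (false, 3), (true, 1)]
    [.cell [(false, 0), (false, 2)], .base 0 11 6, .cell [(true, 9), (true, 5), (true, 4), (false, 10)], .base 0 445 2, .cell [(true, 6), (true, 0), (false, 8), (false, 4), (false, 7), (false, 10), (false, 5), (false, 3), (false, 1)], .cnt 0 [3, 2, 4, 1, 5, 0, 6], .cell [(true, 13), (true, 5), (true, 17), (false, 12), (false, 15), (false, 8), (false, 16), (false, 14), (false, 9)], .cnt 0 [4, 3, 5, 6, 2, 7, 1, 8, 9], .cnt 0 [3, 2, 1, 4, 5, 6], .cnt 0 [5, 3, 4, 6, 2, 7], .cnt 13 [7, 6, 8, 9, 11, 14, 3], .cell [(true, 8), (true, 5), (true, 26), (true, 44)], .cnt 0 [0], .fin [48,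 19, 37, 46, 47, 39, 0, 40, 12, 43, 29, 44, 42, 14, 20, 36, 45, 27, 28, 18, 7, 6, 8, 5, 13, 11, 17, 34, 10, 16, 15, 4, 3]] 6911 = true := by decide +kernel

theorem sg28 : chkSig 1782 11 row 11 p28 key [468, 18, 1620, 162, 0, 54, 18] = true := by decide +kernel

theorem cm28 : chkC 1782 11 gens p28 [4, 2] [3] = true := by decide +kernel

theorem bd36 : chkB 1782 11 row 11 p36 [(false, 1)]
    [.cell [(false, 0)], .base 0 4 3, .cell [(false, 2), (false, 1), (false, 0), (false, 4)], .base 0 9 3, .cell [(true, 5), (true, 1), (true, 0), (false, 6), (false, 4)], .base 0 337 3, .cell [(true, 8), (true, 5), (true, 2), (false, 4), (false, 0), (false, 9), (false, 10), (false, 6)], .base 0 336 3, .cell [(true, 14), (true, 9), (false, 13), (false, 6), (false, 1), (false, 4), (false, 5), (false, 0), (false, 2), (false, 10), (false, 8)], .cnt 0 [2, 3, 1, 4, 5, 0, 6], .cnt 0 [3, 2, 4, 1, 5, 0, 6, 9, 8], .cnt 11 [10, 12, 11, 9, 14, 13, 8, 7, 16, 4, 17], .cell [(true, 19), (true, 26), (true, 39),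 (false, 38), (false, 36), (false, 37), (false, 33), (false, 34), (false, 8), (false, 32), (false, 29), (false, 10)], .cnt 0 [0, 1], .cnt 3 [3, 7, 5, 1, 2], .fin [6, 47, 34, 27, 38, 36, 40, 41, 44, 37, 42, 26, 45, 32, 49, 3, 46, 25, 17, 18, 13, 16, 15, 48, 33, 24, 14, 4, 12, 10, 11, 5, 2, 31, 23, 19, 1, 0]] 19595519 = true := by decide +kernel

theorem sg36 : chkSig 1782 11 row 11 p36 key [1620, 162, 1620, 162, 0, 1782, 162] = true := by decide +kernel

theorem cm36 : chkC 1782 11 gens p36 [3] [4] = true := by decide +kernel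

end Cfsg.Agent.H123.Cls.SuzDat
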