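import Cfsg.Agent.H123.Cls.SuzRep

set_option autoImplicit false
set_option maxRecDepth 1000000
set_option exponentiation.threshold 5000

namespace Cfsg.Agent.H123.Cls.SuzDat

open Cfsg.Agent.H123.Cls

theorem bd5 : chkB 1782 11 row 11 p5 [(false, 2), (false, 4), (false, 5), (true, 1), (true, 2), (true, 3)]
    [.cell [(true, 2), (true, 1), (false, 0)], .base 0 175 12, .cell [(true, 11), (true, 7), (true, 10), (false, 14), (false, 4), (false, 6), (false, 9), (false, 1)], .cnt 0 [1, 0, 2], .cell [(true, 2), (false, 4), (false, 15), (false, 14), (false, 13), (false, 10), (false, 11), (false, 8), (false, 12), (false, 19), (false, 18), (false, 5), (false, 7), (false, 21), (false, 9), (false, 6)], .cnt 0 [5, 6, 4, 3, 7, 2, 1, 9, 8], .cnt 1 [7, 10, 11, 8, 5, 13, 6, 15, 16, 2, 4, 14, 19], .cnt 3 [1, 0, 2], .fin [28, 2, 44, 33, 34, 40, 37, 30, 32, 36, 41, 0, 39, 31, 45, 38, 24, 22, 23, 15, 12, 9, 27, 13, 21, 10, 5, 1, 43, 14, 8, 35, 26, 4]] 39 = true := by decide +kernel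

theorem sg5 : chkSig 1782 11 row 11 p5 key [360, 0, 440, 4, 360, 0, 30] = true := by decide +kernel

theorem cm5 : chkC 1782 11 gens p5 [1, 3, 6, 5, 1] [4, 2] = true := by decide +kernel

theorem bd13 : chkB 1782 11 row 11 p13 [(false, 1), (false, 5), (true, 1), (true, 2), (true, 3)]
    [.cell [(true, 2), (true, 1), (true, 0)], .base 0 13 12, .cell [(true, 0), (false, 10), (false, 3), (false, 8), (false, 11), (false, 9), (false, 15), (false, 14), (false, 6), (false, 5), (false, 4), (false, 7), (false, 2), (false, 1)], .cnt 0 [2, 1, 3, 0, 4, 5], .cnt 0 [13, 11, 10, 12, 14, 8, 9, 17, 15, 18, 27, 16, 24], .cnt 3 [6, 10, 7, 8, 9, 3, 4, 5], .cell [(true, 6), (true, 19), (true, 38), (true, 43), (true, 41)], .cnt 0 [0], .fin [28, 35, 41, 31, 30, 38, 37, 39, 0, 44, 32, 45, 33, 27, 36, 40, 7, 34, 6, 9, 20, 26, 21, 22, 19, 8, 5, 46, 18, 15, 12, 3, 2]] 29 = true := by decide +kernel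

theorem sg13 : chkSig 1782 11 row 11 p13 key [400, 2, 400, 2, 400, 2, 162] = true := by decide +kernel

theorem cm13 : chkC 1782 11 gens p13 [4, 0] [3, 1] = true := by decide +kernel

theorem bd21 : chkB 1782 11 row 11 p21 [(true, 1), (true, 2), (true, 3)]
    [.cell [(true, 2), (true, 0)], .cnt 0 [24, 21, 27, 30, 15], .cell [(true, 3), (true, 8), (false, 7)], .cnt 0 [9, 6, 3], .cell [(true, 7), (false, 12), (false, 10), (false, 2)], .cell [(true, 13), (true, 12)], .tri 1 0 1 4 0, .base 0 79 12, .cell [(true, 8), (true, 27), (true, 23), (false, 0), (false, 26), (false, 17), (false, 11), (false, 7), (false, 5)], .cnt 0 [0, 1], .cell [(true, 27), (true, 6), (true, 1), (false, 20), (false, 8), (false, 12), (false, 4)], .cnt 0 [0, 1], .cell [(true, 24), (true, 0), (true, 17), (true, 12)], .cnt 0 [0], .cell [(true, 19), (true, 13), (true, 11), (false, 25), (true, 31), (true, 6), (false, 14), (false, 17)], .cnt 0 [0], .cell [(true, 31), (true, 37), (true, 21), (true, 11), (true, 20)], .cnt 0 [0], .cell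 [(true, 32), (false, 0), (true, 22), (false, 37)], .cnt 0 [0], .cell [(true, 34), (true, 40), (true, 23), (true, 18), (true, 22)], .cnt 0 [0], .fin [14, 11, 33, 39, 21, 24, 26, 0, 20, 41, 8, 43, 17, 4, 16, 22, 27, 19, 18, 6, 23, 37, 2, 25, 32, 42, 35]] 17 = true := by decide +kernel

theorem sg21 : chkSig 1782 11 row 11 p21 key [432, 0, 432, 0, 540, 0, 0] = true := by decide +kernel

theorem cm21 : chkC 1782 11 gens p21 [4, 2, 1] [6, 3, 5] = true := by decide +kernel

theorem bd29 : chkB 1782 11 row 11 p29 [(false, 1), (true, 1), (true, 2), (true, 3)]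
    [.cnt 3 [0, 1], .cell [(true, 2), (false, 0), (false, 1), (false, 4), (false, 3)], .base 0 45 7, .cell [(true, 6), (true, 0), (true, 11), (false, 12), (false, 8), (false, 10), (false, 3)], .base 0 278 7, .cell [(true, 13), (true, 19), (true, 16), (false, 5), (false, 4), (false, 14), (false, 12), (false, 10), (false, 9)], .cnt 0 [1, 0, 2], .cell [(true, 18), (true, 12), (true, 21), (true, 2), (false, 24), (false, 14), (false, 10), (false, 16)], .cnt 0 [0, 1], .cell [(true, 22), (true, 5), (true, 15), (false, 20)], .cnt 0 [0], .cell [(false, 0), (true, 26), (true, 2), (true, 7), (false, 18), (false, 12), (false, 23), (false, 17), (false, 19), (false, 28)], .cnt 0 [0, 1, 2], .cell [(true, 27), (true, 26), (true, 18), (false, 4), (true, 32), (false, 33)], .cnt 0 [0], .cell [(true, 29), (true, 17), (false, 0), (true, 8), (false, 19), (false, 34)], .cnt 0 [0], .cell [(true, 27), (true, 26), (false, 8), (true, 5), (false, 11)], .cnt 0 [0], .fin [35, 8, 13, 17, 38, 33, 10, 0, 29, 37, 19, 2, 20, 27, 4,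 31, 22, 39, 30, 32, 24, 23, 15, 7, 25, 28]] 167 = true := by decide +kernel

theorem sg29 : chkSig 1782 11 row 11 p29 key [476, 4, 476, 4, 476, 4, 4] = true := by decide +kernel

theorem cm29 : chkC 1782 11 gens p29 [1, 6] [5, 1, 2] = true := by decide +kernel

end Cfsg.Agent.H123.Cls.SuzDat
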