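import Cfsg.Agent.H123.Cls.SuzRep

set_option autoImplicit false
set_option maxRecDepth 1000000
set_option exponentiation.threshold 5000

namespace Cfsg.Agent.H123.Cls.SuzDat

open Cfsg.Agent.H123.Cls

theorem bd6 : chkB 1782 11 row 11 p6 [(false, 1), (true, 1)]
    [.cnt 1 [3, 6], .cnt 2 [60, 75], .cell [(true, 3), (false, 4), (false, 1)], .base 0 15 3, .cell [(false, 7), (false, 6), (false, 9), (false, 2), (false, 1), (false, 0)], .base 0 1373 3, .cell [(true, 5), (true, 2), (true, 10), (false, 8), (false, 1), (false, 0), (false, 6), (false, 4)], .cnt 0 [1, 2, 3, 4, 0, 5, 8], .cell [(true, 12), (true, 5), (true, 15), (false, 14), (false, 10), (false, 9), (false, 8), (false, 13)], .cnt 0 [3, 2, 4, 1, 5, 0, 6], .cnt 0 [7, 6, 8, 9, 5, 10, 4, 3, 12, 14, 18, 19, 13, 15, 16], .cnt 5 [2, 1, 3, 0], .cnt 6 [4, 5, 6, 3, 7], .cnt 9 [1], .cell [(true, 3), (true, 29), (true, 49), (true, 46)], .cnt 0 [0], .fin [50, 2, 11, 40, 33, 49, 0, 47, 44, 7, 48, 45, 32, 10, 43, 39, 26,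 4, 25, 22, 24, 6, 41, 31, 54, 9, 20, 21, 51, 13]] 6479 = true := by decide +kernel

theorem sg6 : chkSig 1782 11 row 11 p6 key [360, 18, 360, 18, 0, 1782, 18] = true := by decide +kernel

theorem cm6 : chkC 1782 11 gens p6 [1] [2] = true := by decide +kernel

theorem bd14 : chkB 1782 11 row 11 p14 [(false, 1), (true, 1), (true, 2)]
    [.cnt 2 [0, 1], .cell [(true, 3), (false, 1)], .cnt 0 [36, 44, 45, 48], .cell [(true, 6), (false, 8), (false, 7), (false, 2)], .base 0 197 5, .cell [(true, 13), (true, 4), (true, 12), (false, 2), (false, 1), (false, 3), (false, 0)], .cnt 0 [4, 3, 5, 6, 2, 7, 1, 0, 8], .cell [(true, 20), (true, 12), (true, 8), (false, 13), (false, 14), (false, 11), (false, 10)], .cnt 0 [1, 2, 0, 3, 5], .cell [(true, 10), (true, 21), (true, 4), (false, 20), (false, 19), (false, 17), (false, 16), (false, 18)], .cnt 0 [2, 1, 3, 4, 0], .cnt 6 [4, 3, 2, 5, 6, 7, 8], .cnt 0 [8, 9, 6, 4, 5, 7, 10], .cell [(true, 46), (true, 11), (true, 32), (true, 4), (true,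 22)], .cnt 0 [0], .cell [(true, 11), (true, 16), (true, 51), (true, 42)], .cnt 0 [0], .fin [52, 28, 22, 17, 43, 41, 0, 40, 44, 2, 53, 42, 36, 21, 16, 54, 37, 38, 27, 9, 4, 35, 20, 15, 10, 13, 5, 34, 18, 8, 48, 32]] 599 = true := by decide +kernel

theorem sg14 : chkSig 1782 11 row 11 p14 key [400, 2, 400, 2, 400, 2, 1782] = true := by decide +kernel

theorem cm14 : chkC 1782 11 gens p14 [1] [0] = true := by decide +kernel

theorem bd22 : chkB 1782 11 row 11 p22 [(false, 2), (true, 1), (true, 2)]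
    [.cell [(true, 2), (false, 1)], .cnt 0 [0, 3], .cell [(true, 0), (false, 4)], .base 0 0 4, .cell [(true, 0), (false, 5), (false, 8), (false, 2), (false, 6), (false, 3), (false, 1)], .cnt 0 [7, 6, 9, 5, 10, 8, 4, 3, 11, 2, 12, 0, 1], .cell [(true, 7), (true, 15), (true, 18), (false, 14), (false, 16)], .cnt 0 [3, 2, 4, 1, 5, 0, 7, 6], .cnt 1 [3, 4, 5, 2, 6, 7, 1, 9], .cnt 0 [3, 2, 4, 1, 0], .cnt 24 [3, 4, 5, 6], .cell [(true, 36), (true, 14), (true, 24), (true, 49), (false, 46)], .cnt 0 [0], .cell [(true, 2), (true, 35), (true, 46), (true, 45)], .cnt 0 [0], .fin [49, 28, 11, 20, 2, 45, 47, 44, 0, 46, 7, 12, 53, 19, 27, 6, 42, 37, 41, 40, 10, 17, 52, 18, 39, 26, 25, 16, 9, 4]] 575 = true := by decide +kernel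

theorem sg22 : chkSig 1782 11 row 11 p22 key [432, 0, 480, 42, 432, 0, 0] = true := by decide +kernel

theorem cm22 : chkC 1782 11 gens p22 [3, 2, 0, 1] [0, 4, 6, 1, 5] = true := by decide +kernel

theorem bd30 : chkB 1782 11 row 11 p30 [(false, 1), (false, 2), (false, 4), (true, 1), (true, 2), (true, 3)]
    [.cell [(true, 2), (true, 1), (true, 0)], .base 0 124 8, .cell [(true, 5), (true, 4), (true, 9), (true, 3), (false, 11)], .base 0 56 8, .cell [(true, 9), (true, 6), (true, 19), (false, 15), (false, 11), (false, 13), (false, 1), (false, 3), (false, 16)], .cnt 0 [1, 0, 2], .cell [(true, 11), (true, 8), (true, 24), (true, 23), (false, 20), (true, 2)], .cnt 0 [0, 1], .cell [(true, 23), (true, 18), (false, 26), (true, 1), (false, 25), (true, 4), (false, 27), (false, 13)], .cnt 0 [0, 1], .cell [(true, 23), (true, 0), (true, 21), (true, 30), (false, 29), (false, 26)], .cnt 0 [0], .cell [(true, 24), (true, 12), (true, 10), (true, 6), (true, 3), (true, 31), (false,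 23), (false, 22), (false, 16)], .cnt 0 [0], .cell [(true, 29), (true, 21), (true, 27), (true, 20), (false, 34)], .cnt 0 [0], .cell [(true, 28), (false, 0), (true, 34), (false, 29), (true, 7), (false, 31)], .cnt 0 [0], .fin [37, 12, 15, 9, 36, 21, 32, 25, 6, 0, 24, 4, 27, 18, 2, 28, 34, 29, 23, 31, 22, 33, 16, 19, 11, 30, 20, 38]] 383 = true := by decide +kernel

theorem sg30 : chkSig 1782 11 row 11 p30 key [480, 6, 960, 30, 480, 6, 6] = true := by decide +kernel

theorem cm30 : chkC 1782 11 gens p30 [5, 1, 2, 3] [0, 4, 1] = true := by decide +kernel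

end Cfsg.Agent.H123.Cls.SuzDat
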