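import Cfsg.Agent.H123.Cls.SuzRep

set_option autoImplicit false
set_option maxRecDepth 1000000
set_option exponentiation.threshold 5000

namespace Cfsg.Agent.H123.Cls.SuzDat

open Cfsg.Agent.H123.Cls

theorem bd7 : chkB 1782 11 row 11 p7 [(false, 1), (false, 2), (false, 3), (false, 4), (false, 6), (true, 1), (true, 2), (true, 3)]
    [.cell [(true, 1), (false, 0), (false, 3)], .base 0 70 12, .cell [(true, 12), (true, 11), (true, 6), (true, 2), (false, 7)], .base 0 459 12, .cell [(true, 30), (true, 23), (true, 28), (true, 11)], .cnt 0 [1, 2, 0], .cell [(true, 32), (true, 26), (true, 10), (true, 23), (false, 28), (false, 21), (false, 27)], .cnt 0 [0], .cell [(true, 36), (true, 27), (true, 34), (true, 15), (false, 3), (true, 0)], .cnt 0 [0], .cell [(true, 5), (true, 29), (true, 24), (true, 17), (true, 34), (false, 19), (false, 22)], .cnt 0 [0], .cell [(true, 33), (true, 28), (true, 17), (true, 19), (true, 36)], .cnt 0 [0], .cell [(true, 9), (true, 30), (true, 15), (true, 21), (true, 38)], .cnt 0 [0],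 .cell [(true, 39), (false, 8), (true, 37), (true, 28), (true, 31)], .cnt 0 [0], .fin [42, 14, 40, 0, 35, 16, 4, 10, 8, 39, 6, 2, 29, 30, 23, 44, 32, 22, 21, 19, 26, 38, 13, 25, 33, 48, 24, 43]] 575 = true := by decide +kernel

theorem sg7 : chkSig 1782 11 row 11 p7 key [372, 6, 468, 18, 960, 30, 6] = true := by decide +kernel

theorem cm7 : chkC 1782 11 gens p7 [1, 4] [3, 6, 2] = true := by decide +kernel

theorem bd15 : chkB 1782 11 row 11 p15 [(false, 1), (false, 2), (false, 3), (true, 1), (true, 2), (true, 3)]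
    [.cell [(true, 2), (true, 0), (false, 4)], .base 0 39 6, .cell [(true, 8), (true, 9), (true, 2), (false, 4), (false, 3), (false, 1)], .base 0 838 6, .cell [(true, 11), (false, 14), (false, 1), (false, 12), (false, 2), (false, 10), (false, 9), (false, 8), (false, 0), (false, 7), (false, 15), (false, 5), (false, 3)], .cnt 0 [1, 0, 2, 3], .cell [(true, 17), (true, 8), (true, 16), (true, 3), (false, 12), (false, 20), (false, 10), (false, 15)], .cnt 0 [1, 2, 0, 3], .cell [(true, 22), (true, 14), (true, 1), (true, 8), (false, 24), (false, 10)], .cnt 0 [0], .cell [(true, 23), (true, 19), (true, 8), (true, 5), (false, 15), (false, 26), (false, 16)], .cnt 0 [1, 0], .cell [(true, 31), (true, 26), (true, 25), (true, 1), (false, 19), (true, 13)], .cnt 0 [0], .cell [(true, 32), (true, 20), (true, 17), (true, 10), (false, 3), (false, 29), (false, 28), (false, 26)], .cnt 0 [0], .cell [(true, 34), (true, 22), (true, 20), (true, 21), (true, 17)], .cnt 0 [0], .cell [(true, 32), (false, 9), (true, 31), (true, 17),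 (false, 4)], .cnt 0 [0], .cell [(true, 18), (true, 27), (true, 26), (true, 39)], .cnt 0 [0], .fin [10, 18, 23, 39, 37, 6, 27, 35, 4, 8, 13, 30, 41, 26, 34, 2, 36, 28, 29, 32, 16, 21, 11, 0, 25, 40, 33, 42, 22]] 143 = true := by decide +kernel

theorem sg15 : chkSig 1782 11 row 11 p15 key [408, 6, 360, 18, 480, 42, 6] = true := by decide +kernel

theorem cm15 : chkC 1782 11 gens p15 [2, 4, 1, 0] [3, 1, 6] = true := by decide +kernel

theorem bd23 : chkB 1782 11 row 11 p23 [(false, 2), (false, 4), (true, 1), (true, 2), (true, 3)]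
    [.cnt 4 [0, 1], .cell [(true, 2), (true, 1), (false, 3), (false, 5)], .base 0 4 8, .cell [(true, 7), (true, 1), (true, 0), (true, 2), (true, 10)], .cnt 0 [0, 1], .cell [(true, 6), (true, 3), (true, 15), (false, 16), (true, 1), (false, 10), (false, 5)], .cnt 0 [1, 2, 0], .cell [(true, 8), (true, 19), (true, 2), (true, 5), (false, 20), (false, 14), (false, 11), (false, 18), (false, 13)], .cnt 0 [1, 0, 2], .cell [(true, 15), (true, 13), (true, 4), (true, 9), (true, 2), (true, 21), (false, 23), (false, 18)], .cnt 0 [0, 1], .cell [(true, 21), (true, 0), (true, 23), (true, 5), (true, 12), (false, 25), (true, 7), (false, 27)], .cnt 0 [0, 1], .cell [(true, 11), (true, 22), (true, 19), (true, 14), (true, 7)], .cnt 0 [0], .cell [(true, 19), (true, 30), (true, 31), (true, 16), (true, 10), (false, 21)], .cnt 0 [0], .cell [(true, 15), (true, 34), (false, 2), (true, 18), (false, 32)], .cnt 0 [0], .cell [(true, 17), (true, 12), (true, 34), (true, 25), (true, 35)], .cnt 0 [0], .fin [16, 20, 9, 35, 12, 23, 26,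 32, 30, 36, 2, 31, 27, 29, 4, 6, 25, 38, 28, 19, 15, 0, 37, 18, 14, 8]] 63 = true := by decide +kernel

theorem sg23 : chkSig 1782 11 row 11 p23 key [432, 0, 544, 2, 432, 0, 0] = true := by decide +kernel

theorem cm23 : chkC 1782 11 gens p23 [4, 3, 0, 2, 1, 6, 0] [3, 6, 1, 2, 5, 4] = true := by decide +kernel

theorem bd31 : chkB 1782 11 row 11 p31 [(false, 1), (true, 1)]
    [.cell [(false, 0), (false, 1)], .base 0 9 2, .cell [(true, 4), (true, 1)], .cnt 0 [2, 0, 3], .cell [(true, 1), (false, 5), (false, 4), (false, 8)], .base 0 26 2, .cell [(true, 8), (true, 0), (true, 5), (false, 10), (false, 1)], .cnt 0 [8, 7, 5, 9, 10, 6, 11, 4, 3, 12, 15, 17, 0, 2, 16, 18], .cell [(true, 12), (true, 27), (true, 22), (false, 25), (false, 24), (false, 18), (false, 17)], .cnt 0 [2, 3, 1, 4, 5, 0, 6], .cnt 0 [7, 6, 5, 8, 9, 4, 10, 3, 1, 2, 13, 14, 15, 18], .cnt 2 [1, 2, 3, 0], .cnt 7 [1, 0, 2], .cnt 12 [1, 0], .cell [(true, 16), (true, 27), (true, 58), (false, 4)], .cnt 0 [0], .fin [55, 6, 3, 10, 59, 31, 58, 50,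 51, 0, 30, 9, 24, 23, 5, 57, 47, 48, 21, 29, 45, 44, 22, 7, 43, 19, 54, 4, 46, 28, 2]] 322559 = true := by decide +kernel

theorem sg31 : chkSig 1782 11 row 11 p31 key [480, 42, 0, 1782, 480, 42, 42] = true := by decide +kernel

theorem cm31 : chkC 1782 11 gens p31 [3] [2, 1, 4, 6, 1, 5, 1, 2] = true := by decide +kernel

end Cfsg.Agent.H123.Cls.SuzDat
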