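import Cfsg.Agent.H123.Cls.ListCover
import Cfsg.Agent.H763.Ore.SuzTab
import Cfsg.Agent.H777.Ore.Base
import Cfsg.Agent.H123.Cls.SuzC0
import Cfsg.Agent.H123.Cls.SuzC1
import Cfsg.Agent.H123.Cls.SuzC2
import Cfsg.Agent.H123.Cls.SuzC3
import Cfsg.Agent.H123.Cls.SuzC4
import Cfsg.Agent.H123.Cls.SuzC5
import Cfsg.Agent.H123.Cls.SuzC6
import Cfsg.Agent.H123.Cls.SuzC7

/-!
# The classes of `Suz` and the Ore conjecture for `Suz` (helper123)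

`words_cover` : every element of `Suz` is conjugate by an element of `Suz : 2` to one of 37 explicit commutators.
`ore_suz` : all elements of `Suz` are commutators.
-/

set_option autoImplicit false
set_option maxRecDepth 1000000
set_option exponentiation.threshold 5000

namespace Cfsg.Agent.H123.Cls.SuzDat

open Cfsg Cfsg.Spor Cfsg.Agent.H123.Cls Cfsg.Agent.Lib.BitNet
open Cfsg.Agent.H763.Ore.SuzModel (A N A_conj card_A card_N N_le_A)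
open Cfsg.Agent.OddHalf.Table.SuzRep (ψ ψ_val ψ_injective)
open Cfsg.Agent.SporadicRecognition.SuzPhi (net net_ok gp φ_of)
open Cfsg.Agent.SporadicRecognition.SuzOrder (el)
open Cfsg.Agent.Lib.PermNet (Net.pt_eq)

/-- the words of the commutators, table -/
noncomputable def W : List (ℕ × List ℕ × List ℕ) := [(p0, [5], [6]),
  (p1, [0], [0]),
  (p2, [4, 2, 1, 6, 3, 2], [1, 3]),
  (p3, [2], [3, 2, 1, 6, 5, 1]),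
  (p4, [2], [1, 6, 5, 3, 1]),
  (p5, [1, 3, 6, 5, 1], [4, 2]),
  (p6, [1], [2]),
  (p7, [1, 4], [3, 6, 2]),
  (p8, [5, 4, 6, 2], [1, 2, 3]),
  (p9, [5, 1, 3], [2, 4, 6, 1]),
  (p10, [1, 0, 3, 1, 5, 6], [2, 4, 1]),
  (p11, [4, 6, 5], [1, 2, 3]),
  (p12, [1, 4], [2, 3]),
  (p13, [4, 0], [3, 1]),
  (p14, [1], [0]),
  (p15, [2, 4, 1, 0], [3, 1, 6]),
  (p16, [1, 2, 4], [3, 5]),
  (p17, [2, 1], [6, 3]),
  (p18, [2, 4, 6], [3, 1]),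
  (p19, [2, 3, 6, 4, 2, 5], [3, 1]),
  (p20, [6, 5, 3], [2, 1]),
  (p21, [4, 2, 1], [6, 3, 5]),
  (p22, [3, 2, 0, 1], [0, 4, 6, 1, 5]),
  (p23, [4, 3, 0, 2, 1, 6, 0], [3, 6, 1, 2, 5, 4]),
  (p24, [2, 1, 5], [3, 1, 0]),
  (p25, [3, 2, 1], [4, 0]),
  (p26, [3, 1], [6, 5, 1, 2]),
  (p27, [3, 0, 1, 2, 6, 5], [4, 1]),
  (p28, [4, 2], [3]),
  (p29, [1, 6], [5, 1, 2]),
  (p30, [5, 1, 2, 3], [0, 4, 1]),
  (p31, [3], [2, 1, 4, 6, 1, 5, 1, 2]),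
  (p32, [5, 3, 1, 6], [1, 2]),
  (p33, [1, 6], [5, 2]),
  (p34, [1, 3], [4, 2, 0]),
  (p35, [3], [2]),
  (p36, [3], [4])]

theorem W_chk : ∀ x ∈ W, chkC 1782 11 gens x.1 x.2.1 x.2.2 = true :=
  List.forall_mem_cons.2 ⟨cm0, List.forall_mem_cons.2 ⟨cm1, List.forall_mem_cons.2 ⟨cm2, 
  List.forall_mem_cons.2 ⟨cm3, List.forall_mem_cons.2 ⟨cm4, List.forall_mem_cons.2 ⟨cm5, 
  List.forall_mem_cons.2 ⟨cm6, List.forall_mem_cons.2 ⟨cm7, List.forall_mem_cons.2 ⟨cm8, 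
  List.forall_mem_cons.2 ⟨cm9, List.forall_mem_cons.2 ⟨cm10, List.forall_mem_cons.2 ⟨cm11, 
  List.forall_mem_cons.2 ⟨cm12, List.forall_mem_cons.2 ⟨cm13, List.forall_mem_cons.2 ⟨cm14, 
  List.forall_mem_cons.2 ⟨cm15, List.forall_mem_cons.2 ⟨cm16, List.forall_mem_cons.2 ⟨cm17, 
  List.forall_mem_cons.2 ⟨cm18, List.forall_mem_cons.2 ⟨cm19, List.forall_mem_cons.2 ⟨cm20, 
  List.forall_mem_cons.2 ⟨cm21, List.forall_mem_cons.2 ⟨cm22, List.forall_mem_cons.2 ⟨cm23, 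
  List.forall_mem_cons.2 ⟨cm24, List.forall_mem_cons.2 ⟨cm25, List.forall_mem_cons.2 ⟨cm26, 
  List.forall_mem_cons.2 ⟨cm27, List.forall_mem_cons.2 ⟨cm28, List.forall_mem_cons.2 ⟨cm29, 
  List.forall_mem_cons.2 ⟨cm30, List.forall_mem_cons.2 ⟨cm31, List.forall_mem_cons.2 ⟨cm32, 
  List.forall_mem_cons.2 ⟨cm33, List.forall_mem_cons.2 ⟨cm34, List.forall_mem_cons.2 ⟨cm35, 
  List.forall_mem_cons.2 ⟨cm36, List.forall_mem_nil _⟩⟩⟩⟩⟩⟩⟩⟩⟩⟩⟩⟩⟩⟩⟩⟩⟩⟩⟩⟩⟩⟩⟩⟩⟩⟩⟩⟩⟩⟩⟩⟩⟩⟩⟩⟩⟩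

theorem D_bd : ∀ x ∈ D, ∃ l L, chkB 1782 11 row 11 x.1 l L x.2.1 = true :=
  List.forall_mem_cons.2 ⟨⟨_, _, bd0⟩, List.forall_mem_cons.2 ⟨⟨_, _, bd1⟩, List.forall_mem_cons.2 ⟨⟨_, _, bd2⟩, 
  List.forall_mem_cons.2 ⟨⟨_, _, bd3⟩, List.forall_mem_cons.2 ⟨⟨_, _, bd4⟩, List.forall_mem_cons.2 ⟨⟨_, _, bd5⟩, 
  List.forall_mem_cons.2 ⟨⟨_, _, bd6⟩, List.forall_mem_cons.2 ⟨⟨_, _, bd7⟩, List.forall_mem_cons.2 ⟨⟨_, _, bd8⟩, 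
  List.forall_mem_cons.2 ⟨⟨_, _, bd9⟩, List.forall_mem_cons.2 ⟨⟨_, _, bd10⟩, List.forall_mem_cons.2 ⟨⟨_, _, bd11⟩, 
  List.forall_mem_cons.2 ⟨⟨_, _, bd12⟩, List.forall_mem_cons.2 ⟨⟨_, _, bd13⟩, List.forall_mem_cons.2 ⟨⟨_, _, bd14⟩, 
  List.forall_mem_cons.2 ⟨⟨_, _, bd15⟩, List.forall_mem_cons.2 ⟨⟨_, _, bd16⟩, List.forall_mem_cons.2 ⟨⟨_, _, bd17⟩, 
  List.forall_mem_cons.2 ⟨⟨_, _, bd18⟩, List.forall_mem_cons.2 ⟨⟨_, _, bd19⟩, List.forall_mem_cons.2 ⟨⟨_, _, bd20⟩, 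
  List.forall_mem_cons.2 ⟨⟨_, _, bd21⟩, List.forall_mem_cons.2 ⟨⟨_, _, bd22⟩, List.forall_mem_cons.2 ⟨⟨_, _, bd23⟩, 
  List.forall_mem_cons.2 ⟨⟨_, _, bd24⟩, List.forall_mem_cons.2 ⟨⟨_, _, bd25⟩, List.forall_mem_cons.2 ⟨⟨_, _, bd26⟩, 
  List.forall_mem_cons.2 ⟨⟨_, _, bd27⟩, List.forall_mem_cons.2 ⟨⟨_, _, bd28⟩, List.forall_mem_cons.2 ⟨⟨_, _, bd29⟩, 
  List.forall_mem_cons.2 ⟨⟨_, _, bd30⟩, List.forall_mem_cons.2 ⟨⟨_, _, bd31⟩, List.forall_mem_cons.2 ⟨⟨_, _, bd32⟩, 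
  List.forall_mem_cons.2 ⟨⟨_, _, bd33⟩, List.forall_mem_cons.2 ⟨⟨_, _, bd34⟩, List.forall_mem_cons.2 ⟨⟨_, _, bd35⟩, 
  List.forall_mem_cons.2 ⟨⟨_, _, bd36⟩, List.forall_mem_nil _⟩⟩⟩⟩⟩⟩⟩⟩⟩⟩⟩⟩⟩⟩⟩⟩⟩⟩⟩⟩⟩⟩⟩⟩⟩⟩⟩⟩⟩⟩⟩⟩⟩⟩⟩⟩⟩

theorem D_sg : ∀ x ∈ D, chkSig 1782 11 row 11 x.1 key x.2.2 = true :=
  List.forall_mem_cons.2 ⟨sg0, List.forall_mem_cons.2 ⟨sg1, List.forall_mem_cons.2 ⟨sg2, 
  List.forall_mem_cons.2 ⟨sg3, List.forall_mem_cons.2 ⟨sg4, List.forall_mem_cons.2 ⟨sg5, 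
  List.forall_mem_cons.2 ⟨sg6, List.forall_mem_cons.2 ⟨sg7, List.forall_mem_cons.2 ⟨sg8, 
  List.forall_mem_cons.2 ⟨sg9, List.forall_mem_cons.2 ⟨sg10, List.forall_mem_cons.2 ⟨sg11, 
  List.forall_mem_cons.2 ⟨sg12, List.forall_mem_cons.2 ⟨sg13, List.forall_mem_cons.2 ⟨sg14, 
  List.forall_mem_cons.2 ⟨sg15, List.forall_mem_cons.2 ⟨sg16, List.forall_mem_cons.2 ⟨sg17, 
  List.forall_mem_cons.2 ⟨sg18, List.forall_mem_cons.2 ⟨sg19, List.forall_mem_cons.2 ⟨sg20, 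
  List.forall_mem_cons.2 ⟨sg21, List.forall_mem_cons.2 ⟨sg22, List.forall_mem_cons.2 ⟨sg23, 
  List.forall_mem_cons.2 ⟨sg24, List.forall_mem_cons.2 ⟨sg25, List.forall_mem_cons.2 ⟨sg26, 
  List.forall_mem_cons.2 ⟨sg27, List.forall_mem_cons.2 ⟨sg28, List.forall_mem_cons.2 ⟨sg29, 
  List.forall_mem_cons.2 ⟨sg30, List.forall_mem_cons.2 ⟨sg31, List.forall_mem_cons.2 ⟨sg32, 
  List.forall_mem_cons.2 ⟨sg33, List.forall_mem_cons.2 ⟨sg34, List.forall_mem_cons.2 ⟨sg35, 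
  List.forall_mem_cons.2 ⟨sg36, List.forall_mem_nil _⟩⟩⟩⟩⟩⟩⟩⟩⟩⟩⟩⟩⟩⟩⟩⟩⟩⟩⟩⟩⟩⟩⟩⟩⟩⟩⟩⟩⟩⟩⟩⟩⟩⟩⟩⟩⟩

theorem D_len : ∀ x ∈ D, x.2.2.length = key.length :=
  List.forall_mem_cons.2 ⟨rfl, List.forall_mem_cons.2 ⟨rfl, List.forall_mem_cons.2 ⟨rfl, 
  List.forall_mem_cons.2 ⟨rfl, List.forall_mem_cons.2 ⟨rfl, List.forall_mem_cons.2 ⟨rfl, 
  List.forall_mem_cons.2 ⟨rfl, List.forall_mem_cons.2 ⟨rfl, List.forall_mem_cons.2 ⟨rfl, 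
  List.forall_mem_cons.2 ⟨rfl, List.forall_mem_cons.2 ⟨rfl, List.forall_mem_cons.2 ⟨rfl, 
  List.forall_mem_cons.2 ⟨rfl, List.forall_mem_cons.2 ⟨rfl, List.forall_mem_cons.2 ⟨rfl, 
  List.forall_mem_cons.2 ⟨rfl, List.forall_mem_cons.2 ⟨rfl, List.forall_mem_cons.2 ⟨rfl, 
  List.forall_mem_cons.2 ⟨rfl, List.forall_mem_cons.2 ⟨rfl, List.forall_mem_cons.2 ⟨rfl, 
  List.forall_mem_cons.2 ⟨rfl, List.forall_mem_cons.2 ⟨rfl, List.forall_mem_cons.2 ⟨rfl, 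
  List.forall_mem_cons.2 ⟨rfl, List.forall_mem_cons.2 ⟨rfl, List.forall_mem_cons.2 ⟨rfl, 
  List.forall_mem_cons.2 ⟨rfl, List.forall_mem_cons.2 ⟨rfl, List.forall_mem_cons.2 ⟨rfl, 
  List.forall_mem_cons.2 ⟨rfl, List.forall_mem_cons.2 ⟨rfl, List.forall_mem_cons.2 ⟨rfl, 
  List.forall_mem_cons.2 ⟨rfl, List.forall_mem_cons.2 ⟨rfl, List.forall_mem_cons.2 ⟨rfl, 
  List.forall_mem_cons.2 ⟨rfl, List.forall_mem_nil _⟩⟩⟩⟩⟩⟩⟩⟩⟩⟩⟩⟩⟩⟩⟩⟩⟩⟩⟩⟩⟩⟩⟩⟩⟩⟩⟩⟩⟩⟩⟩⟩⟩⟩⟩⟩⟩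

theorem D_nodup : (D.map fun x => x.2.2).Nodup := by
  unfold D
  decide +kernel

theorem D_W : ∀ x ∈ D, ∃ y ∈ W, y.1 = x.1 := by
  have h : D.map (fun x => x.1) = W.map (fun y => y.1) := rfl
  intro x hx
  have h1 : x.1 ∈ D.map (fun x => x.1) := List.mem_map_of_mem hx
  rw [h] at h1
  obtain ⟨y, hy, h2⟩ := List.mem_map.1 h1
  exact ⟨y, hy, h2⟩

theorem D_sum : Nat.ble 448345497600 ((D.map fun x => (2 * 448345497600) / (x.2.1 + 1)).sum) = true := by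
  unfold D
  decide +kernel

/-- the generators -/
def gn : ℕ → Suz.Gen
  | 0 => .a
  | 1 => .b
  | 2 => .c
  | 3 => .d
  | 4 => .e
  | 5 => .f
  | _ => .g

theorem gen_tab {x : Suz.Gen} {P : ℕ} (h : allN (fun i => Nat.beq ((net x).pt i) (lk 11 P i)) 1782 = true)
    (p : Fin 1782) : (ψ (PresentedGroup.of x) p : ℕ) = lk 11 P p := by
  rw [ψ_val, φ_of, gp, ← Net.pt_eq (net_ok x)]
  exact Nat.eq_of_beq_eq_true ((allN_iff _ _).1 h p p.2)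

theorem gn_tab {x : ℕ} (hx : x < 7) (p : Fin 1782) : (ψ (PresentedGroup.of (gn x)) p : ℕ) = lk 11 (nth gens x) p := by
  interval_cases x
  · exact gen_tab H763.Ore.SuzTab.ca p
  · exact gen_tab H763.Ore.SuzTab.cb p
  · exact gen_tab H763.Ore.SuzTab.cc p
  · exact gen_tab H763.Ore.SuzTab.cd p
  · exact gen_tab H763.Ore.SuzTab.ce p
  · exact gen_tab H763.Ore.SuzTab.cf p
  · exact gen_tab H763.Ore.SuzTab.cg p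

theorem ev_tab : ∀ (l : List ℕ), (∀ x ∈ l, x < 7) → ∀ p : Fin 1782, (ψ (el (l.map gn)) p : ℕ) = evw 11 gens l p
  | [], _, p => by
    show (ψ 1 p : ℕ) = p
    rw [map_one]
    rfl
  | x :: l, h, p => by
    have e : el ((x :: l).map gn) = PresentedGroup.of (gn x) * el (l.map gn) := by
      simp only [el, List.map_cons, List.prod_cons]
    rw [e, map_mul, Equiv.Perm.mul_apply, gn_tab (h x List.mem_cons_self), evw_cons,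
      ev_tab l fun y hy => h y (List.mem_cons_of_mem _ hy)]

theorem comm_tab {P : ℕ} {a b : List ℕ} (h : chkC 1782 11 gens P a b = true) (p : Fin 1782) :
    (ψ (el (a.map gn) * el (b.map gn) * (el (a.map gn))⁻¹ * (el (b.map gn))⁻¹) p : ℕ) = lk 11 P p := by
  obtain ⟨h1, h2⟩ := band_true h
  obtain ⟨h3, h4⟩ := band_true h2
  set x := ψ (el (a.map gn)) with hx
  set y := ψ (el (b.map gn)) with hy
  have hxp : ∀ p : Fin 1782, (x p : ℕ) = evw 11 gens a p := ev_tab a (chkL_iff _ a h1)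
  have hyp : ∀ p : Fin 1782, (y p : ℕ) = evw 11 gens b p := ev_tab b (chkL_iff _ b h3)
  rw [map_mul, map_mul, map_mul, map_inv, map_inv, ← hx, ← hy]
  obtain ⟨q, rfl⟩ : ∃ q, p = y (x q) := ⟨x⁻¹ (y⁻¹ p), by
    show p = y (x (x⁻¹ (y⁻¹ p)))
    rw [show x (x⁻¹ (y⁻¹ p)) = y⁻¹ p from Equiv.apply_symm_apply x _]
    exact (Equiv.apply_symm_apply y _).symm⟩
  have h5 := (allN_iff _ _).1 h4 q q.2
  rw [Lib.BitNetSimple.force_eq, Lib.BitNetSimple.force_eq, Lib.BitNetSimple.force_eq] at h5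
  have h6 := Nat.eq_of_beq_eq_true h5
  rw [← hxp, ← hyp, ← hyp, ← hxp] at h6
  rw [h6]
  have e : (x * y * x⁻¹ * y⁻¹) (y (x q)) = x (y q) := by
    show x (y (x⁻¹ (y⁻¹ (y (x q))))) = x (y q)
    rw [show y⁻¹ (y (x q)) = x q from Equiv.symm_apply_apply y _]
    rw [show x⁻¹ (x q) = q from Equiv.symm_apply_apply x _]
  rw [e]

theorem D_mem : ∀ x ∈ D, ∃ g ∈ N, ∀ p : Fin 1782, (g p : ℕ) = lk 11 x.1 p := by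
  intro x hx
  obtain ⟨y, hy, h⟩ := D_W x hx
  rw [← h]
  exact ⟨_, ⟨_, rfl⟩, comm_tab (W_chk y hy)⟩

/-- **the 37 classes** -/
theorem suz_cover : ∀ g ∈ N, ∃ x ∈ D, ∃ r ∈ N, (∀ p : Fin 1782, (r p : ℕ) = lk 11 x.1 p) ∧
    ∃ b ∈ A, g = b * r * b⁻¹ :=
  cover_D (by norm_num) H763.Ore.SuzTab.A_le_Aut (fun _ ha _ hx => A_conj ha hx) card_A D D_mem D_bd key D_sg D_len
    D_nodup (by rw [card_N]; exact Nat.le_of_ble_eq_true D_sum)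

/-- every element of `Suz` is conjugate under `Suz : 2` to one of 37 commutators of words -/
theorem words_cover (g : Suz) : ∃ y ∈ W, ∃ b ∈ A, ψ g =
    b * ψ (el (y.2.1.map gn) * el (y.2.2.map gn) * (el (y.2.1.map gn))⁻¹ * (el (y.2.2.map gn))⁻¹) * b⁻¹ := by
  obtain ⟨x, hx, r, -, hr, b, hb, h⟩ := suz_cover (ψ g) ⟨g, rfl⟩
  obtain ⟨y, hy, hyx⟩ := D_W x hx
  refine ⟨y, hy, b, hb, ?_⟩
  rw [h, perm_eq_of_tab hr (by rw [← hyx]; exact comm_tab (W_chk y hy))]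

open Cfsg.Agent.H777.Ore in
theorem allC_Suz : AllC Suz := by
  intro g
  obtain ⟨y, -, b, hb, h⟩ := words_cover g
  generalize el (y.2.1.map gn) = u at h
  generalize el (y.2.2.map gn) = v at h
  obtain ⟨u', hu⟩ := A_conj hb (⟨u, rfl⟩ : ψ u ∈ N)
  obtain ⟨v', hv⟩ := A_conj hb (⟨v, rfl⟩ : ψ v ∈ N)
  refine ⟨u', v', ψ_injective ?_⟩
  rw [h]
  simp only [map_mul, map_inv, hu, hv]
  group

open Cfsg.Agent.H777.Ore in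
/-- **the row `Suz` of the Ore conjecture** -/
theorem ore_suz {S : Type*} [Group S] (h : Spor.IsoSuz S) : AllC S := by
  obtain ⟨e⟩ := h
  exact allC_Suz.congr e.symm

end Cfsg.Agent.H123.Cls.SuzDat
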